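import Cfsg.Agent.Fus.Up

/-! Saturation of systems generated by a family of subgroups. -/

set_option autoImplicit false

namespace Cfsg.Agent.Fus

open Subgroup Cfsg Cfsg.Agent.Loc Equiv
open Cfsg.FusionSystem (normalizerIn centralizerIn)
open scoped commutatorElement

variable {Ω : Type*} [Group Ω] {S T U P Q R N V X Y : Subgroup Ω} {p n : ℕ} {F : FusionSystem S} {a b f g : Perm Ω}

/-- The class of `P` contains a fully automized receptive member. -/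
def SC (F : FusionSystem S) (p : ℕ) (P : Subgroup Ω) : Prop :=
  ∃ f Q, Iso F f P Q ∧ F.IsFullyAutomized p Q ∧ F.IsReceptive Q

theorem SC.of_iso (h : SC F p Q) (hf : Iso F f P Q) : SC F p P :=
  let ⟨_, R, h1, h2⟩ := h; ⟨_, R, hf.trans h1, h2⟩

/-- A good pair. -/
structure Gp (F : FusionSystem S) (p : ℕ) (Y P : Subgroup Ω) : Prop where
  rc : F.IsReceptive Y
  syl : SylIn p (AutK S Y ⊓ Stab P) (AutF F Y ⊓ Stab P)

theorem NK_Stab (hPY : P ≤ Y) : NK S Y (Stab P) = normalizerIn (normalizerIn S P) Y := by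
  ext g
  exact ⟨fun h => ⟨⟨h.1.1, (maps_cr_iff hPY h.1.2).1 h.2⟩, h.1.2⟩, fun h => ⟨⟨h.1.1, h.2⟩, (maps_cr_iff hPY h.2).2 h.1.2⟩⟩

theorem NK_AutK (h1 : centralizerIn S P ≤ X) (h2 : X ≤ normalizerIn S P) : NK S P (AutK X P) = X := by
  refine le_antisymm (fun g hg => ?_) fun g hg => ⟨h2 hg, cr_mem_AutK hg (h2 hg).2⟩
  obtain ⟨x, hx, hn, e⟩ := mem_AutK.1 hg.2
  simpa using X.mul_mem hx (h1 ⟨S.mul_mem (S.inv_mem (h2 hx).1) hg.1.1, (cr_eq_cr_iff hg.1.2 hn).1 e.symm⟩)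

theorem Mor.img_le_NS (hg : Mor F Y g) (h1 : P ≤ Y) (h2 : Y ≤ normalizerIn S P) (hm : Maps g P Q) : img g Y ≤ normalizerIn S Q :=
  img_le_iff.2 fun _ hx => hg.mem_NS h1 hm hx (h2 hx).2

/-- `φ : P₁ → P₂` is an element of `H` after moving both sides by morphisms defined on the normalizers. -/
def Nice (F : FusionSystem S) (H : Subgroup Ω → Subgroup (Perm Ω)) (P₁ P₂ : Subgroup Ω) (φ : Perm Ω) : Prop :=
  ∃ (P₃ : Subgroup Ω) (g₁ g₂ : Perm Ω), Mor F (normalizerIn S P₁) g₁ ∧ Maps g₁ P₁ P₃ ∧ Mor F (normalizerIn S P₂) g₂ ∧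
    Maps g₂ P₂ P₃ ∧ res P₃ (g₂ * φ * g₁⁻¹) ∈ H P₃

variable {H : Subgroup Ω → Subgroup (Perm Ω)} {𝒞 : Subgroup Ω → Prop}

theorem Nice.congr (h : Nice F H P Q f) (hm : Maps f P Q) (e : ∀ x ∈ P, g x = f x) : Nice F H P Q g := by
  obtain ⟨P₃, g₁, g₂, h1, h2, h3, h4, h5⟩ := h
  refine ⟨P₃, g₁, g₂, h1, h2, h3, h4, ?_⟩
  rwa [res_congr (h2.symm.trans (hm.trans h4)) fun x hx => by simp only [Perm.mul_apply]; rw [e _ (h2.inv_mem hx)]]

theorem Nice.inv (h : Nice F H P Q f) (hm : Maps f P Q) : Nice F H Q P f⁻¹ := by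
  obtain ⟨P₃, g₁, g₂, h1, h2, h3, h4, h5⟩ := h
  refine ⟨P₃, g₂, g₁, h3, h4, h1, h2, ?_⟩
  have := inv_mem h5
  rw [← res_inv (h2.symm.trans (hm.trans h4))] at this
  simpa [mul_assoc] using this

theorem nice_of_mem (hP : P ≤ S) (h : res P f ∈ H P) : Nice F H P P f :=
  ⟨P, 1, 1, mor_one F (NS_le S P), maps_one P, mor_one F (NS_le S P), maps_one P, by simpa using h⟩

/-- Hypotheses of the core lemma. -/
structure CLH (F : FusionSystem S) (p n : ℕ) (𝒞 : Subgroup Ω → Prop) (H : Subgroup Ω → Subgroup (Perm Ω)) : Prop where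
  pg : IsPGroup p S
  big : ∀ Q ≤ S, n < Nat.card Q → SC F p Q
  lt : ∀ {P}, 𝒞 P → P < S
  card : ∀ {P}, 𝒞 P → Nat.card P = n
  iso : ∀ {P Q f}, 𝒞 P → Iso F f P Q → 𝒞 Q
  tr : ∀ {P Q} {g a : Perm Ω}, 𝒞 P → Mor F (normalizerIn S P) g → Maps g P Q → a ∈ H P → g * a * g⁻¹ ∈ H Q
  inn : ∀ {P}, 𝒞 P → AutK S P ≤ H P
  pp : ∀ {P Y b}, 𝒞 P → P < Y → Y ≤ normalizerIn S P → b ∈ AutF F Y → (orderOf b).Coprime p → Maps b P P → res P b ∈ H P
  gen : ∀ C, Closed F C → (∀ R (g : Perm Ω), ¬ 𝒞 R → Mor F R g → C R g) → (∀ P, 𝒞 P → ∀ a ∈ H P, a ∈ AutF F P → C P a) →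
    ∀ P (f : Perm Ω), Mor F P f → C P f

variable [Finite S] [Fact p.Prime]

theorem SC.gp_of_fkn (h : SC F p Y) (hS : IsPGroup p S) (hk : FKN F Y (Stab P)) : Gp F p Y P := by
  obtain ⟨k, R, hi, h1, h2⟩ := h
  obtain ⟨h3, h4⟩ := fc_syl_of_fkn_of_iso hS h1 h2 hi hk
  exact ⟨rec_of_fc_of_iso hS h1 h2 hi h3, h4⟩

theorem SC.exists_gp (h : SC F p Y) (hS : IsPGroup p S) (hP : P ≤ Y) : ∃ f Y', Iso F f Y Y' ∧ Gp F p Y' (img f P) := by
  obtain ⟨f, Y', hf, hk⟩ := exists_fkn F (let ⟨_, _, h, _⟩ := h; h.le : Y ≤ S) (Stab P)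
  rw [cj_Stab (hf.restrict hP).maps] at hk
  exact ⟨f, Y', hf, (h.of_iso hf.symm).gp_of_fkn hS hk⟩

theorem Gp.ext {Y' P' : Subgroup Ω} (h : Gp F p Y' P') (hS : IsPGroup p S) (hf : Iso F f Y Y') (hm : Maps f P P') (hP : P ≤ Y) :
    ∃ g : Perm Ω, Mor F (normalizerIn (normalizerIn S P) Y ⊔ Y) g ∧ Maps g Y Y' ∧ Maps g P P' := by
  obtain ⟨a, ha, g, hg, e, -⟩ := rec_extK hS h.rc h.syl hf (cj_Stab hm).le
  rw [NK_Stab hP] at hg
  exact ⟨g, hg, (hf.maps.trans (maps_of_AutF ha.1)).congr e, (hm.trans ha.2).congr fun x hx => e x (hP hx)⟩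

theorem Gp.res_mem (h : Gp F p Y P) (hP : P ≤ Y) {M : Subgroup (Perm Ω)} (h1 : AutK S P ≤ M)
    (h2 : ∀ b ∈ AutF F Y, (orderOf b).Coprime p → Maps b P P → res P b ∈ M) (ha : a ∈ AutF F Y) (hm : Maps a P P) :
    res P a ∈ M := by
  haveI := finite_AutF' F h.rc.1
  haveI : Finite (AutF F Y ⊓ Stab P : Subgroup _) := finite_of_le inf_le_left
  have : AutF F Y ⊓ Stab P ≤ (homOn_res P).pre M := by
    rw [← OpA_sup_syl h.syl]
    refine sup_le (OpA_le_iff.2 fun b hb hp => ⟨hb.2, h2 b hb.1 hp hb.2⟩) fun b hb => ⟨hb.2, ?_⟩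
    obtain ⟨s, hs, hn, rfl⟩ := mem_AutK.1 hb.1
    have := (maps_cr_iff hP hn).1 hb.2
    rw [res_cr hP this hn]; exact h1 (cr_mem_AutK hs this)
  exact (this ⟨ha, hm⟩).2

namespace CLH

theorem nice_mul (h : CLH F p n 𝒞 H) {k : ℕ} (hA : ∀ (Y P Q : Subgroup Ω) (φ : Perm Ω), k ≤ Nat.card Y → 𝒞 P → P < Y →
      Y ≤ normalizerIn S P → Mor F Y φ → Maps φ P Q → Nice F H P Q φ) (hQ : 𝒞 Q) (hk : k ≤ Nat.card (normalizerIn S Q))
    (hf : Nice F H P Q f) (hg : Nice F H Q R g) (hP : P ≤ S) (hR : R ≤ S) (mf : Maps f P Q) (mg : Maps g Q R) :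
    Nice F H P R (g * f) := by
  obtain ⟨P₃, g₁, g₂, h1, h2, h3, h4, h5⟩ := hf
  obtain ⟨P₅, g₃, g₄, k1, k2, k3, k4, k5⟩ := hg
  have hQS := (h.lt hQ).le
  have c3 := h.iso hQ ⟨h3.mono (le_NS hQS), h4⟩
  have c5 := h.iso hQ ⟨k1.mono (le_NS hQS), k2⟩
  obtain ⟨P₆, g₅, g₆, l1, l2, l3, l4, l5⟩ := hA _ P₃ P₅ _ (h3.iso.card_eq ▸ hk) c3
    ((h4.lt_iff h3.maps_img).2 (lt_NS h.pg (h.lt hQ))) (h3.img_le_NS (le_NS hQS) le_rfl h4) (h3.iso.symm.trans k1.iso).mor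
    (h4.symm.trans k2)
  refine ⟨P₆, g₅ * g₁, g₆ * g₄, l1.mul h1 fun x hx => h1.mem_NS (le_NS hP) h2 hx hx.2, h2.trans l2,
    l3.mul k3 fun x hx => k3.mem_NS (le_NS hR) k4 hx hx.2, k4.trans l4, ?_⟩
  have m1 := h2.symm.trans (mf.trans h4)
  have m2 := k2.symm.trans (mg.trans k4)
  have t1 := h.tr c3 l1 l2 h5
  have t2 := h.tr c5 l3 l4 k5
  rw [mul_assoc g₂, ← res_conj l2 (by rwa [mul_assoc] at m1)] at t1
  rw [mul_assoc g₄, ← res_conj l4 (by rwa [mul_assoc] at m2)] at t2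
  have := mul_mem (mul_mem t2 l5) t1
  have n1 := l2.symm.trans (m1.trans l2)
  have n2 := l4.symm.trans (m2.trans l4)
  have n3 := l2.symm.trans ((h4.symm.trans k2).trans l4)
  rw [← res_mul (by simpa [mul_assoc] using n2) (by simpa [mul_assoc] using n3),
    ← res_mul (by simpa [mul_assoc] using n3.trans n2) (by simpa [mul_assoc] using n1)] at this
  simpa [mul_assoc] using this

theorem gp_res (h : CLH F p n 𝒞 H) (hP : 𝒞 P) (h1 : P < Y) (h2 : Y ≤ normalizerIn S P) (hg : Gp F p Y P) (ha : a ∈ AutF F Y)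
    (hm : Maps a P P) : res P a ∈ H P :=
  hg.res_mem h1.le (h.inn hP) (fun _ hb hp hm => h.pp hP h1 h2 hb hp hm) ha hm

theorem nice_ext (h : CLH F p n 𝒞 H) : ∀ Y, Y ≤ S → ∀ P Q (φ : Perm Ω), 𝒞 P → P < Y → Y ≤ normalizerIn S P → Mor F Y φ →
    Maps φ P Q → Nice F H P Q φ := by
  refine down_induction fun Y hY ih P Q φ hP h1 h2 hφ hm => ?_
  have hA : ∀ (Y' P Q : Subgroup Ω) (φ : Perm Ω), Nat.card Y + 1 ≤ Nat.card Y' → 𝒞 P → P < Y' → Y' ≤ normalizerIn S P → Mor F Y' φ →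
      Maps φ P Q → Nice F H P Q φ := fun Y' P Q φ k1 k2 k3 k4 k5 => ih Y' k5.le k1 P Q φ k2 k3 k4 k5
  have hi : Iso F φ P Q := ⟨hφ.mono h1.le, hm⟩
  have hQ := h.iso hP hi
  have h3 := hφ.img_le_NS h1.le h2 hm
  rcases h2.eq_or_lt with e | h2'
  · exact ⟨Q, φ, 1, e ▸ hφ, hm, mor_one F (NS_le S Q), maps_one Q, by simp [res_one]⟩
  rcases h3.eq_or_lt with e | h3'
  · exact ⟨P, 1, φ⁻¹, mor_one F (NS_le S P), maps_one P, e ▸ hφ.iso.symm.mor, hm.symm, by simp [res_one]⟩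
  haveI := finite_of_le hY
  obtain ⟨f, Y', hf, hg⟩ := (h.big Y hY (h.card hP ▸ card_lt_card h1)).exists_gp h.pg h1.le
  have hfm := (hf.restrict h1.le).maps
  have hQY : Q < img φ Y := (hm.lt_iff hφ.maps_img).2 h1
  obtain ⟨g₁, k1, k2, k3⟩ := hg.ext h.pg hf hfm h1.le
  obtain ⟨g₂, l1, l2, l3⟩ := hg.ext h.pg (hφ.iso.symm.trans hf) (hm.symm.trans hfm) hQY.le
  have hc := h.iso hP (hf.restrict h1.le)
  have hcS := (h.lt hc).le
  have a1 := lt_NS (h.pg.to_le (NS_le S P)) h2'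
  have a2 := lt_NS (h.pg.to_le (NS_le S Q)) h3'
  have k1' := k1.mono le_sup_left
  have l1' := l1.mono le_sup_left
  have b1 : Nat.card Y + 1 ≤ Nat.card (normalizerIn (normalizerIn S P) Y) := card_lt_card a1
  have n1 := hA _ P _ g₁ b1 hP (h1.trans a1) (NS_le _ _) k1' k3
  have n2 := hA _ Q _ g₂ (hφ.iso.card_eq ▸ card_lt_card a2) hQ (hQY.trans a2) (NS_le _ _) l1' l3
  have hα : Iso F (g₂ * φ * g₁⁻¹) Y' Y' := (Iso.symm ⟨k1.mono le_sup_right, k2⟩).trans (hφ.iso.trans ⟨l1.mono le_sup_right, l2⟩)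
  have hαm := k3.symm.trans (hm.trans l3)
  have hlt : img f P < Y' := (hfm.lt_iff hf.maps).2 h1
  have n3 : Nice F H (img f P) (img f P) (g₂ * φ * g₁⁻¹) := nice_of_mem hcS (by
    rw [← res_res hα.maps hαm hlt.le]
    exact h.gp_res hc hlt (hf.maps.img_eq ▸ hf.mor.img_le_NS h1.le h2 hfm) hg hα.res_mem (hα.maps.res hαm hlt.le))
  have hk : Nat.card Y + 1 ≤ Nat.card (normalizerIn S (img f P)) :=
    b1.trans (k1'.homOn.card_le fun x hx => k1'.mem_NS (h1.trans a1).le k3 hx hx.1.2)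
  have := h.nice_mul hA hc hk (h.nice_mul hA hc hk n1 n3 hi.le hcS k3 hαm) (n2.inv l3) hi.le hi.le' (k3.trans hαm) l3.symm
  simpa [mul_assoc] using this

theorem nice (h : CLH F p n 𝒞 H) (hP : 𝒞 P) (hf : Iso F f P Q) : Nice F H P Q f := by
  have hC : Closed F fun R g => ∀ P Q, P ≤ R → 𝒞 P → Maps g P Q → Nice F H P Q g :=
    ⟨fun k e P Q h1 h2 h3 => (k P Q h1 h2 (h3.congr fun x hx => (e x (h1 hx)).symm)).congr
        (h3.congr fun x hx => (e x (h1 hx)).symm) fun x hx => e x (h1 hx),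
      fun k hle P Q h1 => k P Q (h1.trans hle), fun i j k k' P Q h1 h2 h3 => by
        have i' := i.restrict h1
        have m := i'.maps.symm.trans h3
        simp only [mul_assoc, mul_inv_cancel, mul_one] at m
        have hle := (i'.maps.le_iff i.maps).2 h1
        exact h.nice_mul (k := 0) (fun Y P Q φ _ k2 k3 k4 k5 => h.nice_ext Y k5.le P Q φ k2 k3 k4 k5) (h.iso h2 i') (Nat.zero_le _)
          (k P _ h1 h2 i'.maps) (k' _ Q hle (h.iso h2 i') m) i'.le ((j.mor.mono hle).le_of_maps m) i'.maps m,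
      fun i k P Q h1 h2 h3 => by
        have m := h3.symm
        rw [inv_inv] at m
        exact (k Q P ((h3.le_iff i.maps.symm).2 h1) (h.iso h2 ⟨i.symm.mor.mono h1, h3⟩) m).inv m⟩
  refine h.gen _ hC (fun R g hR hg P Q h1 h2 h3 => ?_) (fun R hR a ha ha' P Q h1 h2 h3 => ?_) P f hf.mor P Q le_rfl hP hf.maps
  · haveI := finite_of_le hg.le
    have := lt_inf_normalizer (h.pg.to_le hg.le) (lt_of_le_of_ne h1 fun e => hR (e ▸ h2))
    exact h.nice_ext _ (inf_le_left.trans hg.le) P Q g h2 this (inf_le_inf_right _ hg.le) (hg.mono inf_le_left) h3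
  · haveI := finite_of_le (h.lt hR).le
    obtain rfl := eq_of_le_of_card_le h1 ((h.card hR).trans (h.card h2).symm).le
    obtain rfl := h3.unique (maps_of_AutF ha')
    exact nice_of_mem (h.lt hR).le (by rwa [(supp_of_AutF ha').res_eq])

theorem NS_mor (h : CLH F p n 𝒞 H) (hP : 𝒞 P) (hn : F.IsFullyNormalized P) (hf : Iso F f Q P) :
    ∃ g : Perm Ω, Mor F (normalizerIn S Q) g ∧ Maps g Q P := by
  obtain ⟨P₃, g₁, g₂, h1, h2, h3, h4, -⟩ := h.nice (h.iso hP hf.symm) hf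
  have hi : Iso F g₂ _ _ := ⟨h3, fn_maps_NS hn h3 h4⟩
  exact ⟨g₂⁻¹ * g₁, hi.symm.mor.mul h1 fun x hx => h1.mem_NS (le_NS hf.le) h2 hx hx.2, h2.trans h4.symm⟩

omit [Fact p.Prime] in
theorem fkn_NS (hn : F.IsFullyNormalized P) : FKN F (normalizerIn S P) (Stab P) := ⟨NS_le S P, fun f R hf => by
  have hi := hf.restrict (le_NS hn.1)
  rw [cj_Stab hi.maps, NK_Stab (le_NS hn.1), NK_Stab ((hi.maps.le_iff hf.maps).2 (le_NS hn.1)), NS_self]
  exact (card_le_card (NS_le _ _)).trans ((fn_iff.1 hn).2 _ _ hi)⟩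

theorem gp_NS (h : CLH F p n 𝒞 H) (hP : 𝒞 P) (hn : F.IsFullyNormalized P) : Gp F p (normalizerIn S P) P :=
  (h.big _ (NS_le S P) (h.card hP ▸ card_lt_card (lt_NS h.pg (h.lt hP)))).gp_of_fkn h.pg (fkn_NS hn)

theorem AutF_le (h : CLH F p n 𝒞 H) (hP : 𝒞 P) (hn : F.IsFullyNormalized P) : AutF F P ≤ H P := fun a ha => by
  obtain ⟨P₃, g₁, g₂, h1, h2, h3, h4, h5⟩ := h.nice hP (iso_of_AutF hn.1 ha)
  have i1 : Iso F g₁ _ _ := ⟨h1, fn_maps_NS hn h1 h2⟩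
  have i2 : Iso F g₂ _ _ := ⟨h3, fn_maps_NS hn h3 h4⟩
  have ham := maps_of_AutF ha
  have t1 := h.tr (h.iso hP ⟨h1.mono (le_NS hn.1), h2⟩) i2.symm.mor h4.symm h5
  rw [← res_conj h4.symm (h2.symm.trans (ham.trans h4))] at t1
  have i3 := i1.trans i2.symm
  have m3 := h2.trans h4.symm
  have t2 := h.gp_res hP (lt_NS h.pg (h.lt hP)) le_rfl (h.gp_NS hP hn) i3.res_mem (i3.maps.res m3 (le_NS hn.1))
  rw [res_res i3.maps m3 (le_NS hn.1)] at t2
  have := mul_mem t1 t2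
  rw [← res_mul (by simpa [mul_assoc] using m3.symm.trans ham) m3] at this
  simpa [mul_assoc, (supp_of_AutF ha).res_eq] using this

end CLH

omit [Fact p.Prime] in
theorem rec_of_NS (hP : P ≤ S) (hNS : ∀ f Q, Iso F f Q P → ∃ g : Perm Ω, Mor F (normalizerIn S Q) g ∧ Maps g Q P)
    (h : ∀ a ∈ AutF F P, ∃ g : Perm Ω, Mor F (Ext S P a) g ∧ ∀ x ∈ P, g x = a x) : F.IsReceptive P := by
  refine rec_iff.2 ⟨hP, fun f Q hf => ?_⟩
  obtain ⟨g, hg, hm⟩ := hNS f Q hf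
  have hi := (Iso.symm ⟨hg.mono (le_NS hf.le), hm⟩).trans hf
  obtain ⟨k, hk, e⟩ := h _ hi.res_mem
  refine ⟨k * g, hk.mul (hg.mono (Ext_le S Q f)) fun x hx => ?_, fun x hx => by
    rw [Perm.mul_apply, e _ (hm.mem hx), res_apply hi.maps (hm.mem hx)]; simp⟩
  obtain ⟨h1, s, hs, e'⟩ := mem_Ext.1 hx
  have h2 := hg.mem_NS (le_NS hf.le) hm h1 h1.2
  refine mem_Ext.2 ⟨h2, s, hs, fun y hy => ?_⟩
  obtain ⟨z, hz, rfl⟩ := hm.exists_eq hy
  rw [res_apply hi.maps (conj_mem_of_mem_normalizer h2.2 hy), res_apply hi.maps hy, ← hg.homOn.map_conj h1 (le_NS hf.le hz)]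
  simpa using e' z hz

omit [Fact p.Prime] in
theorem Mor.iso_of_norm (hg : Mor F X g) (hP : P ≤ X) (h1 : centralizerIn S P ≤ X) (h2 : X ≤ normalizerIn S P) (hb : b ∈ AutOn P)
    (e : ∀ x ∈ P, g x = b x) {X' : Subgroup Ω} (h1' : centralizerIn S P ≤ X') (h2' : X' ≤ normalizerIn S P)
    (hn : cj b (AutK X P) = AutK X' P) : Iso F g X X' := by
  have hm := (mem_AutOn.1 hb).2.maps
  haveI := finite_of_le (h2'.trans (NS_le S P))
  refine ⟨hg, hg.homOn.maps_of_card (fun x hx => ?_) ?_⟩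
  · rw [← NK_AutK h1' h2', ← hn, ← NK_cj_congr hm e]
    exact hg.mem_NK hP (hm.congr e) hx ⟨h2 hx, cr_mem_AutK hx (h2 hx).2⟩
  · rw [← NK_AutK h1' h2', ← NK_AutK h1 h2, card_NK, card_NK, inf_eq_right.2 (AutK_mono (h2.trans (NS_le S P)) P),
      inf_eq_right.2 (AutK_mono (h2'.trans (NS_le S P)) P), ← hn, card_cj]

theorem aut_ext_of_pprime (hP : P ≤ S) (hs : SylIn p (AutK S P) (AutF F P))
    (h : ∀ X, P ≤ X → centralizerIn S P ≤ X → X ≤ normalizerIn S P → ∀ b ∈ AutF F P, (orderOf b).Coprime p →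
      b ∈ normalizer (AutK X P : Set (Perm Ω)) → ∃ g : Perm Ω, Mor F X g ∧ ∀ x ∈ P, g x = b x) :
    ∀ a ∈ AutF F P, ∃ g : Perm Ω, Mor F (Ext S P a) g ∧ ∀ x ∈ P, g x = a x := by
  haveI := finite_AutF' F hP
  haveI := finite_of_le hP
  have key : ∀ X, P ≤ X → centralizerIn S P ≤ X → ∀ h2 : X ≤ normalizerIn S P,
      SylIn p (AutK S P ⊓ normalizer (AutK X P : Set (Perm Ω))) (AutF F P ⊓ normalizer (AutK X P : Set (Perm Ω))) →
      AutF F P ⊓ normalizer (AutK X P : Set (Perm Ω)) ≤ GX F ⊤ P X (h2.trans (NS_le S P)) := fun X h0 h1 h2 h3 => by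
    haveI : Finite (AutF F P ⊓ normalizer (AutK X P : Set (Perm Ω)) : Subgroup _) := finite_of_le inf_le_left
    have k : ∀ b ∈ AutF F P ⊓ normalizer (AutK X P : Set (Perm Ω)), (∃ g : Perm Ω, Mor F X g ∧ ∀ x ∈ P, g x = b x) →
        b ∈ GX F ⊤ P X (h2.trans (NS_le S P)) := fun b hb ⟨g, hg, e⟩ => ⟨maps_of_AutF hb.1, g,
      hg.iso_of_norm h0 h1 h2 (AutF_le_AutOn F P hb.1) e h1 h2 (cj_eq_of_mem_normalizer hb.2), e, fun _ _ => mem_top _⟩
    rw [← OpA_sup_syl h3]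
    refine sup_le (OpA_le_iff.2 fun b hb hp => k b hb (h X h0 h1 h2 b hb.1 hp hb.2)) fun b hb => k b (h3.le hb) ?_
    obtain ⟨s, hs, hn, rfl⟩ := mem_AutK.1 hb.1
    exact ⟨cp s, mor_cp F (h2.trans (NS_le S P)) hs, fun x hx => (cr_apply hn hx).symm⟩
  have main : ∀ X, X ≤ normalizerIn S P → P ≤ X → centralizerIn S P ≤ X → ∀ a ∈ AutF F P, cj a (AutK X P) ≤ AutK S P →
      ∃ g : Perm Ω, Mor F X g ∧ ∀ x ∈ P, g x = a x := by
    refine down_induction fun X h2 ih h0 h1 a ha hc => ?_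
    have hU : AutK X P ≤ AutK S P := AutK_mono (h2.trans (NS_le S P)) P
    rcases hU.eq_or_lt with e | hlt
    · have hn : a ∈ normalizer (AutK X P : Set (Perm Ω)) :=
        mem_normalizer_iff_cj.2 (eq_of_le_of_card_le (e ▸ hc) (card_cj _ _).ge)
      obtain ⟨-, g, hg, e', -⟩ := key X h0 h1 h2 (by
        rw [e, inf_eq_left.2 le_normalizer]; exact hs.mono (le_inf hs.le le_normalizer) inf_le_left) ⟨ha, hn⟩
      exact ⟨g, hg.mor, e'⟩
    obtain ⟨T, hT, hT'⟩ := exists_sylIn_ge (le_inf (hU.trans hs.le) le_normalizer) (hs.pg.to_le hU)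
    obtain ⟨k, hk, hkT⟩ := hs.exists_conj_le (hT.le.trans inf_le_left) hT.pg
    have hU₁ : cj k (AutK X P) ≤ AutK S P := (cj_mono k hT').trans hkT
    have hI : ∀ {c}, c ∈ AutF F P → AutK P P ≤ cj c (AutK X P) := fun hc => by
      rw [← (homOn_of_AutF hc).cj_Inn (maps_of_AutF hc)]; exact cj_mono _ (AutK_mono h0 P)
    have hA : ∀ {U}, U ≤ AutK S P → AutK (NK S P U) P = U := fun hU => by rw [AutK_NK, inf_eq_right.2 hU]
    have hsyl : SylIn p (AutK S P ⊓ normalizer (cj k (AutK X P) : Set (Perm Ω)))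
        (AutF F P ⊓ normalizer (cj k (AutK X P) : Set (Perm Ω))) := by
      have h3 := hT.conj k
      rw [cj_inf, cj_eq_of_mem hk, cj_normalizer] at h3
      haveI : Finite (AutF F P ⊓ normalizer (cj k (AutK X P) : Set (Perm Ω)) : Subgroup _) := finite_of_le inf_le_left
      haveI : Finite (AutK S P ⊓ normalizer (cj k (AutK X P) : Set (Perm Ω)) : Subgroup _) := finite_of_le inf_le_left
      exact sylIn_of_card_le h3 (inf_le_inf_right _ hs.le) (hs.pg.to_le inf_le_left)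
        (card_le_card (le_inf hkT (h3.le.trans inf_le_right)))
    have step : ∀ {X'} {c}, P ≤ X' → centralizerIn S P ≤ X' → X' ≤ normalizerIn S P → Nat.card X' = Nat.card X → c ∈ AutF F P →
        cj c (AutK X' P) = cj k (AutK X P) → ∃ c' ∈ AutF F P, ∃ g, Iso F g X' (NK S P (cj k (AutK X P))) ∧
          (∀ x ∈ P, g x = c' x) ∧ cj c' (AutK X' P) = cj k (AutK X P) := fun {X' c} k0 k1 k2 k3 hc e => by
      have hU' : AutK X' P ≤ AutK S P := AutK_mono (k2.trans (NS_le S P)) P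
      haveI : Finite (AutF F P ⊓ normalizer (cj k (AutK X P) : Set (Perm Ω)) : Subgroup _) := finite_of_le inf_le_left
      obtain ⟨m, hm, hm'⟩ := hsyl.exists_conj_le (Q := cj c (AutK S P ⊓ normalizer (AutK X' P : Set (Perm Ω))))
        (by rw [cj_inf, cj_normalizer, e]; exact inf_le_inf_right _ ((cj_mono c hs.le).trans (cj_eq_of_mem hc).le))
        (isPGroup_cj c (hs.pg.to_le inf_le_left))
      have e' : cj (m * c) (AutK X' P) = cj k (AutK X P) := by rw [← cj_cj, e, cj_eq_of_mem_normalizer hm.2]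
      have hlt' : AutK X' P < AutK S P := lt_of_le_of_ne hU' fun e'' => (card_lt_card hlt).ne (by
        rw [← e'', ← card_cj c (AutK X' P), e, card_cj])
      have hlt'' := lt_inf_normalizer hs.pg hlt'
      have hX' : X' < NK S P (AutK S P ⊓ normalizer (AutK X' P : Set (Perm Ω))) := by
        refine lt_of_le_of_ne ((NK_AutK k1 k2).ge.trans (NK_mono S P hlt''.le)) fun e'' => hlt''.ne ?_
        rw [← hA inf_le_left, ← e'']
      obtain ⟨g, hg, e''⟩ := ih _ (NK_le_NS S P _) (k3 ▸ card_lt_card hX') (k0.trans hX'.le) (k1.trans hX'.le) (m * c)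
        (mul_mem hm.1 hc) (by rw [hA inf_le_left, ← cj_cj]; exact hm'.trans inf_le_left)
      exact ⟨m * c, mul_mem hm.1 hc, g, (hg.mono hX'.le).iso_of_norm k0 k1 k2 (AutF_le_AutOn F P (mul_mem hm.1 hc)) e''
        (CS_le_NK S P _) (NK_le_NS S P _) (by rw [hA hU₁, e']), e'', e'⟩
    obtain ⟨c₁, hc₁, g₁, i₁, e₁, f₁⟩ := step h0 h1 h2 rfl hk rfl
    obtain ⟨c₂, hc₂, g₂, i₂, e₂, f₂⟩ := step (X' := NK S P (cj a (AutK X P))) (c := k * a⁻¹) (Inn_le_NK hP (hI ha)) (CS_le_NK S P _)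
      (NK_le_NS S P _) (by rw [← NK_AutK h1 h2, card_NK, card_NK, NK_AutK h1 h2, inf_eq_right.2 hc, inf_eq_right.2 hU, card_cj])
      (mul_mem hk (inv_mem ha)) (by rw [hA hc, cj_cj]; simp)
    obtain ⟨-, g, i, e, -⟩ := key _ (Inn_le_NK hP (hI hk)) (CS_le_NK S P _) (NK_le_NS S P _) (by rwa [hA hU₁])
      (x := c₂ * a * c₁⁻¹) ⟨(AutF F P).mul_mem (mul_mem hc₂ ha) (inv_mem hc₁), mem_normalizer_iff_cj.2 (by
        rw [hA hc] at f₂
        rw [hA hU₁]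
        conv_lhs => rw [← f₁, cj_cj, inv_mul_cancel_right, ← cj_cj, f₂])⟩
    refine ⟨_, ((i₁.trans i).trans i₂.symm).mor, fun x hx => ?_⟩
    rw [Perm.mul_apply, Perm.mul_apply, e₁ x hx, e _ ((maps_of_AutF hc₁).mem hx), Perm.inv_eq_iff_eq,
      e₂ _ ((maps_of_AutF ha).mem hx)]
    simp
  intro a ha
  have hi := iso_of_AutF hP ha
  refine main _ (Ext_le S P a) hi.mor.le_Ext (CS_le_Ext S P a) a ha (cj_le_iff_forall.2 fun c hc => ?_)
  obtain ⟨x, hx, -, rfl⟩ := mem_AutK.1 hc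
  exact ((mem_Ext_iff hi.maps).1 hx).2

end Cfsg.Agent.Fus
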