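import Cfsg.Agent.Fus.Bc

/-! The saturation theorem of Broto, Castellana, Grodal, Levi and Oliver. -/

set_option autoImplicit false

namespace Cfsg.Agent.Fus

open Subgroup Cfsg Cfsg.Agent.Loc Equiv
open Cfsg.FusionSystem (normalizerIn centralizerIn)
open scoped commutatorElement

variable {Ω : Type*} [Group Ω] {S T U P Q R N V X Y : Subgroup Ω} {p n : ℕ} {F : FusionSystem S} {a b f g : Perm Ω}

/-- `F` is generated by its morphisms on the members of `ℋ`. -/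
def GenBy (F : FusionSystem S) (ℋ : Subgroup Ω → Prop) : Prop :=
  ∀ C, Closed F C → (∀ R (g : Perm Ω), ℋ R → Mor F R g → C R g) → ∀ P (f : Perm Ω), Mor F P f → C P f

theorem GenBy.mono {ℋ ℋ' : Subgroup Ω → Prop} (h : GenBy F ℋ) (hh : ∀ R ≤ S, ℋ R → ℋ' R) : GenBy F ℋ' :=
  fun C hC k => h C hC fun R g h1 h2 => k R g (hh R h2.le h1) h2

/-- The subsystem of the morphisms with a closed property. -/
def closedFS {C : Subgroup Ω → Perm Ω → Prop} (hC : Closed F C) (h : ∀ g ∈ S, C S (cp g)) : FusionSystem S :=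
  ofPerm S (fun P f => Mor F P f ∧ C P f) (fun _ _ h => ⟨h.1.le, fun _ hx => h.1.mem_S hx⟩)
    (fun _ _ hP hg => ⟨mor_cp F hP hg, hC.mono (h _ hg) hP⟩)
    (fun _ _ _ _ hf hg hm => ⟨hg.1.mul hf.1 hm, hC.mul hf.1.iso (hg.1.mono (img_le_iff.2 hm)).iso hf.2
      (hC.mono hg.2 (img_le_iff.2 hm))⟩)
    (fun _ _ _ hf hm => ⟨hf.1.inv hm, hC.inv ⟨hf.1, hm⟩ hf.2⟩)

theorem mor_closedFS {C : Subgroup Ω → Perm Ω → Prop} {hC : Closed F C} {h : ∀ g ∈ S, C S (cp g)} :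
    Mor (closedFS hC h) P f ↔ Mor F P f ∧ C P f :=
  mor_ofPerm' (fun _ _ h => h.1.homOn) fun _ _ _ h e => ⟨h.1.congr e, hC.congr h.2 e⟩

theorem genBy_of_le [Finite S] {ℋ : Subgroup Ω → Prop} (hS : ℋ S)
    (h : ∀ E : FusionSystem S, (∀ P (f : Perm Ω), ℋ P → Mor F P f → Mor E P f) → F.IsSubsystemOf E) : GenBy F ℋ :=
  fun _ hC k _ _ hf => (mor_closedFS.1 (hf.sub (h (closedFS hC fun _ hg => k S _ hS (mor_cp F le_rfl hg))
    fun P f h1 h2 => mor_closedFS.2 ⟨h2, k P f h1 h2⟩))).2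

/-- The automorphisms generated by the inner ones and restrictions from larger subgroups. -/
def H0 (F : FusionSystem S) (P : Subgroup Ω) : Subgroup (Perm Ω) :=
  closure {a | ∃ Y b, P < Y ∧ Y ≤ normalizerIn S P ∧ Iso F b Y Y ∧ Maps b P P ∧ a = res P b}

/-- The subgroup `P⁺`. -/
noncomputable abbrev Pp (F : FusionSystem S) (p : ℕ) (P : Subgroup Ω) : Subgroup Ω := NK S P (pCoreOf p (AutF F P))

theorem Mor.mem_Pp (hg : Mor F U g) (hP : P ≤ U) (hm : Maps g P Q) {x : Ω} (hx : x ∈ U) (hc : x ∈ Pp F p P) : g x ∈ Pp F p Q := by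
  have := hg.mem_NK hP hm hx hc
  rwa [cj_pCoreOf, Iso.cj_AutF ⟨hg.mono hP, hm⟩] at this

theorem le_Pp (hS : IsPGroup p S) (F : FusionSystem S) (hP : P ≤ S) : P ≤ Pp F p P := Inn_le_NK hP (Inn_le_pCore hS F hP)

theorem NS_le_normalizer_Pp (F : FusionSystem S) (p : ℕ) (hP : P ≤ S) : normalizerIn S P ≤ normalizer (Pp F p P : Set Ω) :=
  le_normalizer_of_cj_le fun _ hs => cj_le_iff_forall.2 fun _ hx =>
    (mor_cp F (NS_le S P) hs.1).mem_Pp (le_NS hP) (maps_cp hs.2) hx.1 hx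

variable [Finite S] [Fact p.Prime]

theorem clh_H0 (hS : IsPGroup p S) (hP : P < S) (big : ∀ Q ≤ S, Nat.card P < Nat.card Q → SC F p Q)
    (gen : GenBy F fun R => ¬ F.IsConj P R) : CLH F p (Nat.card P) (F.IsConj P) (H0 F) where
  pg := hS
  big := big
  lt := fun h => by
    obtain ⟨f, hf⟩ := isConj_iff.1 h
    exact lt_of_le_of_ne hf.le' fun e => (card_lt_card hP).ne (e ▸ hf.card_eq)
  card := fun h => let ⟨_, hf⟩ := isConj_iff.1 h; hf.card_eq.symm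
  iso := fun h hf => let ⟨_, hg⟩ := isConj_iff.1 h; (hg.trans hf).isConj
  tr := fun {Q R g a} _ hg hm ha => by
    refine (cj_le_iff_forall.1 (?_ : cj g (H0 F Q) ≤ H0 F R)) a ha
    rw [H0, cj_closure]
    refine closure_mono ?_
    rintro _ ⟨_, ⟨Y, b, h1, h2, h3, h4, rfl⟩, rfl⟩
    have hi := (hg.mono h2).iso
    exact ⟨_, _, (hm.lt_iff hi.maps).2 h1, (hg.mono h2).img_le_NS h1.le h2 hm, hi.symm.trans (h3.trans hi),
      hm.symm.trans (h4.trans hm), (res_conj hm h4).symm⟩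
  inn := fun {Q} h a ha => by
    obtain ⟨f, hf⟩ := isConj_iff.1 h
    obtain ⟨s, hs, hn, rfl⟩ := mem_AutK.1 ha
    exact subset_closure ⟨_, cp s, lt_NS hS (lt_of_le_of_ne hf.le' fun e => (card_lt_card hP).ne (e ▸ hf.card_eq)), le_rfl,
      iso_cp_self F (NS_le S Q) ⟨hs, le_normalizer (show s ∈ normalizerIn S Q from ⟨hs, hn⟩)⟩, maps_cp hn, rfl⟩
  pp := fun _ h1 h2 hb _ hm => subset_closure ⟨_, _, h1, h2, iso_of_AutF (h2.trans (NS_le _ _)) hb, hm, rfl⟩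
  gen := fun C hC h _ => gen C hC h

theorem eq_one_of_pprime_of_pgroup {G : Type*} [Group G] {A : Subgroup G} (hA : IsPGroup p A) {x : G} (hx : x ∈ A)
    (h : (orderOf x).Coprime p) : x = 1 := by
  obtain ⟨k, hk⟩ := exists_orderOf_of_isPGroup hA hx
  rw [← orderOf_eq_one_iff]
  exact Nat.Coprime.eq_one_of_dvd (h.pow_right k) (hk ▸ dvd_rfl)

namespace CLH

variable {H : Subgroup Ω → Subgroup (Perm Ω)} {𝒞 : Subgroup Ω → Prop}

theorem ext_Pp (h : CLH F p n 𝒞 H) (hP : 𝒞 P) (hn : F.IsFullyNormalized P) : ∀ Y, Y ≤ normalizerIn S P → P < Y →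
    ∀ φ : Perm Ω, Mor F Y φ → Maps φ P P → φ ∈ GX F ⊤ P (Pp F p P) (NK_le _ _ _) := by
  refine down_induction fun Y h2 ih h1 φ hφ hm => ?_
  have hPS := hn.1
  have hYS := hφ.le
  haveI := finite_of_le hYS
  by_cases hle : Pp F p P ≤ Y
  · exact ⟨hm, φ, ⟨hφ.mono hle, (hφ.mono hle).homOn.maps_self fun x hx => hφ.mem_Pp h1.le hm (hle hx) hx⟩, fun _ _ => rfl,
      fun _ _ => mem_top _⟩
  have h3 := hφ.img_le_NS h1.le h2 hm
  have h2' : Y < normalizerIn S P := lt_of_le_of_ne h2 fun e => hle (e ▸ NK_le_NS _ _ _)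
  have h3' : img φ Y < normalizerIn S P := lt_of_le_of_ne h3 fun e => (card_lt_card h2').ne (e ▸ hφ.iso.card_eq)
  obtain ⟨f, Y', hf, hg⟩ := (h.big Y hYS (h.card hP ▸ card_lt_card h1)).exists_gp h.pg h1.le
  have hfm := (hf.restrict h1.le).maps
  set P' := img f P
  have hQY : P < img φ Y := (hm.lt_iff hφ.maps_img).2 h1
  obtain ⟨g₁, k1, k2, k3⟩ := hg.ext h.pg hf hfm h1.le
  obtain ⟨g₂, l1, l2, l3⟩ := hg.ext h.pg (hφ.iso.symm.trans hf) (hm.symm.trans hfm) hQY.le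
  obtain ⟨k, m1, m2⟩ := h.NS_mor hP hn (hf.restrict h1.le).symm
  have a1 := lt_NS (h.pg.to_le (NS_le S P)) h2'
  have a2 := lt_NS (h.pg.to_le (NS_le S P)) h3'
  have k1' := k1.mono le_sup_left
  have l1' := l1.mono le_sup_left
  have n1 := ih _ (NS_le _ _) (card_lt_card a1) (h1.trans a1) (k * g₁)
    (m1.mul k1' fun x hx => k1'.mem_NS (h1.trans a1).le k3 hx hx.1.2) (k3.trans m2)
  have n2 := ih _ (NS_le _ _) (hφ.iso.card_eq ▸ card_lt_card a2) (hQY.trans a2) (k * g₂)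
    (m1.mul l1' fun x hx => l1'.mem_NS (hQY.trans a2).le l3 hx hx.1.2) (l3.trans m2)
  have i1 : Iso F g₁ Y Y' := ⟨k1.mono le_sup_right, k2⟩
  have hα : Iso F (g₂ * φ * g₁⁻¹) Y' Y' := i1.symm.trans (hφ.iso.trans ⟨l1.mono le_sup_right, l2⟩)
  have hαm : Maps (g₂ * φ * g₁⁻¹) P' P' := k3.symm.trans (hm.trans l3)
  have hlt : P' < Y' := (hfm.lt_iff hf.maps).2 h1
  have hY' : Y' ≤ normalizerIn S P' := hf.maps.img_eq ▸ hf.mor.img_le_NS h1.le h2 hfm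
  have hP'S := hlt.le.trans hf.le'
  suffices ∀ α, Iso F α Y' Y' → Maps α P' P' → k * α * k⁻¹ ∈ GX F ⊤ P (Pp F p P) (NK_le _ _ _) by
    simpa [mul_assoc] using mul_mem (mul_mem (inv_mem n2) (this _ hα hαm)) n1
  intro α hα hαm
  haveI := finite_AutF' F hf.le'
  haveI : Finite (AutF F Y' ⊓ Stab P' : Subgroup _) := finite_of_le inf_le_left
  set K := KP Y' P' (pCoreOf p (AutF F P'))
  have hK : ∀ β, Iso F β Y' Y' → Maps β P' P' → cj β K ≤ K := fun β h1 h2 => by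
    have := cj_KP_le (K := pCoreOf p (AutF F P')) h1.maps h2
    rwa [cj_pCoreOf, Iso.cj_AutF ⟨h1.mor.mono hlt.le, h2⟩] at this
  have hs : SylIn p (AutK S Y' ⊓ K) (AutF F Y' ⊓ K) := by
    have := hg.syl.inf_normal (N := K) (le_normalizer_of_cj_le fun β hβ => hK β (iso_of_AutF hf.le' hβ.1) hβ.2)
    have e : Stab P' ⊓ K = K := inf_eq_right.2 fun _ hx => (mem_KP.1 hx).2.1
    rwa [inf_assoc, inf_assoc, e] at this
  obtain ⟨c, hc, g, j1, j2, -⟩ := rec_extK h.pg hg.rc hs hα (hK α hα hαm)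
  have hcm := (mem_KP.1 hc.2).2.1
  have hgm : Maps g P' P' := (hαm.trans hcm).congr fun x hx => j2 x (hlt.le hx)
  -- the extension is defined on a larger subgroup
  have hbig : Y' < NK S Y' K ⊔ Y' := by
    have t1 : Y < Pp F p P ⊔ Y := lt_of_le_of_ne le_sup_right fun e => hle (le_sup_left.trans e.ge)
    haveI : Finite (Pp F p P ⊔ Y : Subgroup Ω) := finite_of_le (sup_le (NK_le _ _ _) hYS)
    obtain ⟨z, hz, hz'⟩ := SetLike.exists_of_lt (lt_inf_normalizer (h.pg.to_le (sup_le (NK_le _ _ _) hYS)) t1)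
    obtain ⟨x, hx, y, hy, rfl⟩ := (mem_sup_of_le_normalizer_left (h2.trans (NS_le_normalizer_Pp F p hPS))).1 hz.1
    have hxn : x ∈ normalizer (Y : Set Ω) := by
      simpa using (normalizer (Y : Set Ω)).mul_mem hz.2 (inv_mem (le_normalizer hy))
    have hx1 : x ∈ normalizerIn (normalizerIn S P) Y := ⟨hx.1, hxn⟩
    have hx2 := k1'.mem_Pp (h1.trans a1).le k3 hx1 hx
    have hx3 := k1'.mem_NS a1.le k2 hx1 hxn
    refine lt_of_le_of_ne le_sup_right fun e => hz' (mul_mem ((k2 x).1 (e ▸ mem_sup_left ?_)) hy)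
    exact ⟨hx3, mem_KP.2 ⟨maps_res _ _, (maps_cr_iff hlt.le hx3.2).2 hx2.1.2, by rw [res_cr hlt.le hx2.1.2 hx3.2]; exact hx2.2⟩⟩
  have hsub : NK S Y' K ⊔ Y' ≤ normalizerIn S P' :=
    sup_le (fun x hx => ⟨hx.1.1, (maps_cr_iff hlt.le hx.1.2).1 (mem_KP.1 hx.2).2.1⟩) hY'
  have i2 := (m1.mono hsub).iso
  haveI := finite_of_le j1.le
  have n3 := ih _ ((m1.mono hsub).img_le_NS (hlt.trans hbig).le hsub m2) (i2.card_eq ▸ hf.card_eq ▸ card_lt_card hbig)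
    ((m2.lt_iff i2.maps).2 (hlt.trans hbig)) (k * g * k⁻¹) ((m1.mul j1 fun x hx =>
      j1.mem_NS (hlt.trans hbig).le hgm hx (hsub hx).2).mul i2.symm.mor fun x hx => i2.symm.mem hx) (m2.symm.trans (hgm.trans m2))
  have n4 : k * c * k⁻¹ ∈ GX F ⊤ P (Pp F p P) (NK_le _ _ _) := by
    haveI : Finite (AutF F Y' ⊓ K : Subgroup _) := finite_of_le inf_le_left
    have : AutF F Y' ⊓ K ≤ cj k⁻¹ (GX F ⊤ P (Pp F p P) (NK_le _ _ _)) := by
      rw [← OpA_sup_syl hs]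
      refine sup_le (OpA_le_iff.2 fun b hb hp => mem_cj_inv.2 ?_) fun b hb => mem_cj_inv.2 ?_
      · obtain ⟨-, t2, t3⟩ := mem_KP.1 hb.2
        have := (res_eq_one_iff t2).1 (eq_one_of_pprime_of_pgroup (isPGroup_pCoreOf _ _) t3 (coprime_res t2 hp))
        exact GX.congr (one_mem _) fun x hx => by
          rw [Perm.mul_apply, Perm.mul_apply, this _ (m2.inv_mem hx)]; simp
      · obtain ⟨s, hs, hsn, rfl⟩ := mem_AutK.1 hb.1
        have t2 : s ∈ normalizerIn S P' := ⟨hs, (maps_cr_iff hlt.le hsn).1 (mem_KP.1 hb.2).2.1⟩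
        have t3 := m1.mem_NS (le_NS hP'S) m2 t2 t2.2
        refine ⟨?_, cp (k s), iso_cp_self F (NK_le _ _ _) ⟨t3.1, NS_le_normalizer_Pp F p hPS t3⟩, fun x hx => ?_,
          fun _ _ => mem_top _⟩
        · exact m2.symm.trans ((mem_KP.1 hb.2).2.1.trans m2)
        · rw [Perm.mul_apply, Perm.mul_apply, cr_apply hsn (hlt.le (m2.inv_mem hx)), m1.homOn.map_conj t2 (le_NS hP'S (m2.inv_mem hx))]
          simp
    exact mem_cj_inv.1 (this hc)
  refine GX.congr (mul_mem (inv_mem n4) n3) fun x hx => ?_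
  simp only [Perm.mul_apply]
  rw [j2 _ (hlt.le (m2.inv_mem hx))]; simp

theorem sc_of_fn (h : CLH F p n 𝒞 H) (hP : 𝒞 P) (hn : F.IsFullyNormalized P) (hr : F.IsReceptive P) : SC F p P := by
  obtain ⟨k, R, h1, h2, -⟩ := h.big _ (NS_le S P) (h.card hP ▸ card_lt_card (lt_NS h.pg (h.lt hP)))
  exact ⟨1, P, iso_one F hn.1, fa_of_fn_rec_of_NS h.pg hn hr h1 h2, hr⟩

end CLH

theorem sc_of_star (hS : IsPGroup p S) (hP : P < S) (big : ∀ Q ≤ S, Nat.card P < Nat.card Q → SC F p Q)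
    (gen : GenBy F fun R => ¬ F.IsConj P R)
    (star : F.IsCentric P → ∃ f Q, Iso F f P Q ∧ ¬ AutK S Q ⊓ pCoreOf p (AutF F Q) ≤ AutK Q Q) : SC F p P := by
  have h := clh_H0 hS hP big gen
  obtain ⟨f, Q, hf, hn⟩ := exists_fn F hP.le
  refine SC.of_iso ?_ hf
  have hQ := hf.isConj
  have hQS := hn.1
  have hlt : Q < Pp F p Q := by
    have : ∃ g R, Iso F g R Q ∧ ¬ Pp F p R ≤ R := by
      by_cases hc : F.IsCentric P
      · obtain ⟨g, R, h1, h2⟩ := star hc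
        exact ⟨_, R, h1.symm.trans hf, fun k => h2 (by rw [← AutK_NK]; exact AutK_mono k R)⟩
      · rw [centric_iff, not_and] at hc
        have := hc hP.le
        push Not at this
        obtain ⟨g, R, h1, h2⟩ := this
        exact ⟨_, R, h1.symm.trans hf, fun k => h2 ((CS_le_NK _ _ _).trans k)⟩
    obtain ⟨g, R, h1, h2⟩ := this
    obtain ⟨k, k1, k2⟩ := h.NS_mor hQ hn h1
    exact lt_of_le_of_ne (le_Pp hS F hQS) fun e => h2 fun x hx => (k2 x).1 (e ▸ k1.mem_Pp (le_NS h1.le) k2 hx.1 hx)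
  have hN := NS_le_normalizer_Pp F p hQS
  have hgp : Gp F p (Pp F p Q) Q := (big _ (NK_le _ _ _) (hf.card_eq ▸ card_lt_card hlt)).gp_of_fkn hS ⟨NK_le _ _ _, fun f R hf => by
    have hi := hf.restrict hlt.le
    rw [cj_Stab hi.maps, NK_Stab hlt.le, NK_Stab ((hi.maps.le_iff hf.maps).2 hlt.le)]
    exact ((card_le_card (NS_le _ _)).trans ((fn_iff.1 hn).2 _ _ hi)).trans (card_le_card fun x hx => ⟨hx, hN hx⟩)⟩
  refine h.sc_of_fn hQ hn (rec_of_NS hQS (fun _ _ => h.NS_mor hQ hn) fun a ha => ?_)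
  have hH : H0 F Q ≤ GX F ⊤ Q (Pp F p Q) (NK_le _ _ _) := (closure_le _).2 <| by
    rintro _ ⟨Y, b, h1, h2, h3, h4, rfl⟩
    exact GX.congr (h.ext_Pp hQ hn Y h2 h1 b h3.mor h4) fun x hx => res_apply h4 hx
  obtain ⟨ham, b, hb, e, -⟩ := hH (h.AutF_le hQ hn ha)
  have hbm : Maps b Q Q := ham.congr e
  haveI := finite_AutF' F hb.le
  haveI : Finite (AutF F (Pp F p Q) ⊓ Stab Q : Subgroup _) := finite_of_le inf_le_left
  have hX := Ext_le S Q a
  have hA : AutK (Ext S Q a) (Pp F p Q) ≤ AutF F (Pp F p Q) ⊓ Stab Q := fun c hc => by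
    obtain ⟨x, hx, hxn, rfl⟩ := mem_AutK.1 hc
    exact ⟨cr_mem_AutF F hb.le ⟨(hX hx).1, hxn⟩, (maps_cr_iff hlt.le hxn).2 (hX hx).2⟩
  obtain ⟨m, hm, hm1, hm2⟩ := exists_conj_le_of_img_le ((homOn_res Q).mono inf_le_right) hgp.syl
    (X := cj b (AutK (Ext S Q a) (Pp F p Q)))
    (cj_le_iff_forall.2 fun c hc => ⟨hb.conj_mem (hA hc).1, hbm.symm.trans ((hA hc).2.trans hbm)⟩)
    (isPGroup_cj b (isPGroup_AutK (hS.to_le (Ext_le_S S Q a)) _)) fun c hc => by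
      obtain ⟨d, hd, rfl⟩ := mem_cj_iff_exists.1 hc
      obtain ⟨x, hx, hxn, rfl⟩ := mem_AutK.1 hd
      obtain ⟨y, hy, hyn, e'⟩ := mem_AutK.1 ((mem_Ext_iff ham).1 hx).2
      have hyn' := hN ⟨hy, hyn⟩
      rw [res_conj hbm (hA hd).2, res_cr hlt.le (hX hx).2 hxn, (supp_cr Q x).conj_congr ham e, ← e', ← res_cr hlt.le hyn hyn']
      exact mem_img_of_mem _ ⟨cr_mem_AutK hy hyn', (maps_cr_iff hlt.le hyn').2 hyn⟩
  have hi := hb.trans (iso_of_AutF hb.le hm.1)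
  obtain ⟨g, hg, e'⟩ := rec_ext hgp.rc hi (R := Ext S Q a) (le_Ext_of_cj_le hi.maps (fun x hx => ⟨(hX hx).1, hN (hX hx)⟩)
    (by rw [← cj_cj]; exact hm2.trans inf_le_left))
  exact ⟨g, hg.mono le_sup_left, fun x hx => by
    rw [e' x (hlt.le hx), Perm.mul_apply, (res_eq_one_iff hm.2).1 hm1 _ (hbm.mem hx), e x hx]⟩

theorem sat_of_genBy (hS : IsPGroup p S) {ℋ : Subgroup Ω → Prop} (gen : GenBy F ℋ) (iso : ∀ f P Q, Iso F f P Q → ℋ Q → ℋ P)
    (sat : ∀ P ≤ S, ℋ P → (∀ Q ≤ S, Nat.card P < Nat.card Q → SC F p Q) → SC F p P)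
    (star : ∀ P, F.IsCentric P → ¬ ℋ P → ∃ f Q, Iso F f P Q ∧ ¬ AutK S Q ⊓ pCoreOf p (AutF F Q) ≤ AutK Q Q) : Sat F p := by
  refine ⟨hS, sat_iff.2 (down_induction fun P hP ih => ?_)⟩
  by_cases h : ℋ P
  · exact sat P hP h ih
  refine sc_of_star hS (lt_of_le_of_ne hP fun e => ?_) ih (gen.mono fun R _ hR k => h ?_) fun hc => star P hc h
  · subst e
    obtain ⟨f, Q, h1, h2⟩ := star P (centric_self F) h
    obtain rfl := h1.eq_S
    exact h2 inf_le_left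
  · obtain ⟨f, hf⟩ := isConj_iff.1 k
    exact iso _ _ _ hf hR

end Cfsg.Agent.Fus
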