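import Cfsg.Agent.Fus.Hup

/-! Blackburn's classification of the `p`-groups of rank two, `p` odd. -/

set_option autoImplicit false

namespace Cfsg.Agent.Fus

open Subgroup Cfsg.Agent.BG Cfsg.Agent.PGrp
open scoped commutatorElement

variable {G : Type*} [Group G] {p m n : ℕ} {a c d x y g v z : G} {A M : Subgroup G}

/-- `A` is a normal subgroup of type `(p, p)` with `Ω₁(C(A)) = A`. -/
structure Bk (p : ℕ) (A : Subgroup G) : Prop where
  pg : IsPGroup p G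
  odd : p ≠ 2
  nrm : A.Normal
  card : #A = p ^ 2
  mem : ∀ a, a ∈ A ↔ a ∈ C[A] ∧ a ^ p = 1

variable [Finite G] [hp : Fact p.Prime]

theorem exists_bk (hG : IsPGroup p G) (h2 : p ≠ 2) (hr : PRankLE p 2 G) (hc : ¬ IsCyclic G) : ∃ A : Subgroup G, Bk p A := by
  obtain ⟨A, h1, h3, h4⟩ := BG4.ex_odd_normal_p2Elem' (hG.to_subgroup ⊤) h2 fun h => hc (isCyclic_of_surjective
    topEquiv.toMonoidHom topEquiv.surjective)
  refine ⟨A, hG, h2, h1.normal, h4, fun a => ⟨fun ha => ⟨fun b hb => h3.1.comm hb ha, h3.2 a ha⟩, fun ⟨k1, k2⟩ => ?_⟩⟩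
  by_contra k
  haveI := h3.1
  have := hr _ (isMulCommutative_sup_zpowers k1) fun g hg => by
    obtain ⟨b, hb, i, rfl⟩ := (mem_sup_zpowers (cent_sub _ k1)).1 hg
    rw [((show Commute b a from k1 b hb).zpow_right i).mul_pow, h3.2 b hb, one_mul, ← zpow_natCast, zpow_comm,
      zpow_natCast, k2, one_zpow]
  rw [card_sup_zpowers hp.out (cent_sub _ k1) k (k2 ▸ one_mem A), h4] at this
  exact absurd this (by rw [← pow_succ]; exact BG4.sq_lt_cube.not_ge)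

namespace Bk

variable (h : Bk p A)
include h

omit [Finite G] hp in
theorem le : A ≤ C[A] := fun a ha => ((h.mem a).1 ha).1
omit [Finite G] hp in
theorem pow (ha : a ∈ A) : a ^ p = 1 := ((h.mem a).1 ha).2
omit [Finite G] hp in
theorem pcen : PCen p C[A] := ⟨h.pg, h.odd, fun a ha k g hg => hg a ((h.mem a).2 ⟨ha, k⟩)⟩
omit [Finite G] hp in
theorem cn : C[A].Normal := haveI := h.nrm; normal_centralizer

theorem sm : Sm p (p ^ 2) C[A] := h.card ▸ h.pcen.sm h.mem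

theorem comm_mem (ha : a ∈ A) (g : G) : ⁅g, a⁆ ∈ A ⊓ center G := by
  haveI := h.nrm
  refine ⟨commutator_mem_of_normal_right ha g, mem_center_iff.2 fun k => ?_⟩
  have := ((BG4.mem_Z2.1 (BG4.le_Z2_of_card (h.pg.to_subgroup ⊤) ⟨le_top, norm_of_normal _ ⊤⟩ h.card.le ha)).2 g trivial).2
  rw [← commutatorElement_inv]
  exact C[(⊤ : Subgroup G)].inv_mem this k trivial

theorem comm_D (hd : d ∈ h.pcen.D) (g : G) : ⁅g, d⁆ ∈ h.pcen.D :=
  mul_mem (show _ ∈ h.pcen.D from ⟨h.cn.conj_mem _ hd.1 g, by rw [conj_pow, conj_pow, hd.2]; simp⟩) (inv_mem hd)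

theorem comm_pow (hd : d ∈ h.pcen.D) (g : G) : ⁅g, d⁆ ^ p = ⁅g, d ^ p⁆ := by
  rw [commutatorElement_def, h.pcen.mul_pow (h.cn.conj_mem _ hd.1 g) (inv_mem hd).1 (inv_mem hd).2, conj_pow, inv_pow,
    commutatorElement_def]

variable (hx : x ∉ C[A])
include hx

theorem idx : C[A].index = p := by
  haveI := h.nrm
  refine ((Nat.dvd_prime hp.out).1 (relIndex_top_right C[A] ▸ BG4.index_cent_p2 (h.pg.to_subgroup ⊤) (h.pg.to_subgroup A)
    (norm_of_normal _ ⊤) h.card.le)).resolve_left fun e => hx ((index_eq_one.1 e).ge trivial)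

theorem pow_mem (g : G) : g ^ p ∈ C[A] := haveI := h.cn; pow_mem_of_index_eq (h.idx hx) g

theorem cen_of (hc : ∀ g ∈ C[A], Commute c g) (k : Commute x c) : c ∈ center G := mem_center_iff.2 fun g =>
  mem_cent1.1 ((sup_le (fun g hg => mem_cent1.2 (hc g hg).symm) (zpowers_le.2 (mem_cent1.2 k)) :
    C[A] ⊔ zpowers x ≤ C1[c]) ((sup_zpowers_eq_top (h.idx hx) hx).ge trivial))

theorem cen_of' (ha : a ∈ A) (k : Commute x a) : a ∈ A ⊓ center G := ⟨ha, h.cen_of hx (fun g hg => hg a ha) k⟩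

theorem exists_comm : ∃ a ∈ A, ⁅x, a⁆ ≠ 1 := by
  by_contra! k
  exact hx fun a ha => (commutatorElement_eq_one_iff_mul_comm.1 (k a ha)).symm

theorem card_Z : #(A ⊓ center G : Subgroup G) = p := by
  obtain ⟨a, ha, k⟩ := h.exists_comm hx
  refine le_antisymm ?_ (BG4.le_card_of_ne_bot (h.pg.to_subgroup _) fun e => k (e.le (h.comm_mem ha x)))
  simpa using BG4.card_le_of_lt (k := 1) (h.pg.to_subgroup A) (lt_of_le_of_ne inf_le_left fun e =>
    k (commutatorElement_eq_one_iff_mul_comm.2 (mem_center_iff.1 (e.ge ha).2 x))) h.card.le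

theorem Z_eq (hc : c ∈ A ⊓ center G) (h1 : c ≠ 1) : zpowers c = A ⊓ center G :=
  eq_of_card_le (zpowers_le.2 hc) (by rw [h.card_Z hx, card_zpowers_of_pow_eq_one (h.pow hc.1) h1])

theorem exists_comm_eq (hc : c ∈ A ⊓ center G) : ∃ a ∈ A, ⁅x, a⁆ = c := by
  obtain ⟨a, ha, k⟩ := h.exists_comm hx
  obtain ⟨i, rfl⟩ := mem_zpowers_iff.1 ((h.Z_eq hx (h.comm_mem ha x) k).ge hc)
  exact ⟨a ^ i, zpow_mem ha i, commutator_zpow_right (commute_of_mem_center (h.comm_mem ha x).2 a) i⟩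

theorem card_le (hM : C1[x] ⊓ C[A] ≤ A) : #C1[x] ≤ p ^ 2 := by
  rw [← card_inf_mul_relIndex C[A], sq]
  refine Nat.mul_le_mul ((card_le_of_le fun g hg => ?_).trans (h.card_Z hx).le)
    ((relIndex_le_of_le_right le_top (by simpa using index_ne_zero_of_finite)).trans (by simp [h.idx hx]))
  exact h.cen_of' hx (hM ⟨hg.2, hg.1⟩) (mem_cent1.1 hg.2).symm

omit hx in
theorem rk : PRankLE p 2 G := fun B h1 h2 => by
  by_cases k : B ≤ C[A]
  · exact h.card ▸ card_le_of_le fun b hb => (h.mem b).2 ⟨k hb, h2 b hb⟩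
  obtain ⟨x, k1, k2⟩ := SetLike.not_le_iff_exists.1 k
  rw [← card_inf_mul_relIndex C[A], sq]
  refine Nat.mul_le_mul ((card_le_of_le fun g hg => ?_).trans (h.card_Z k2).le)
    ((relIndex_le_of_le_right le_top (by simpa using index_ne_zero_of_finite)).trans (by simp [h.idx k2]))
  exact h.cen_of' k2 ((h.mem g).2 ⟨hg.1, h2 g hg.2⟩) (h1.comm k1 hg.2)

theorem metacyclic (hM : ∀ g ∈ C[A], g ^ p ∈ M) (k : x ^ p ∉ M) : IsMetacyclic G := by
  refine meta_of_sm h.odd _ G rfl h.pg fun U hU => ?_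
  have h1 := h.sm (U ⊓ M) fun g hg => ⟨hU g trivial, hM g hg⟩
  have h2 := mul_card_le_of_lt h.pg (show U ⊓ M ⊓ C[A] < U from lt_of_le_of_ne (inf_le_left.trans inf_le_left)
    fun e => k (e.ge (hU x trivial)).1.2)
  have h3 := card_inf_mul_relIndex (U ⊓ M) (B := C[A])
  have h4 := C[A].card_mul_index
  rw [relIndex_top_right]
  refine Nat.le_of_mul_le_mul_left ?_ (Nat.card_pos (α := U))
  rw [U.card_mul_index, ← h4, ← h3, h.idx hx, mul_right_comm, mul_comm _ p]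
  exact Nat.mul_le_mul h2 h1

/-- The case `|Ω₂(C)| = p⁴`. -/
theorem big (hv : v ∈ h.pcen.D) (h1 : v ^ p ∉ center G) : (x ^ p ≠ 1 ∧ IsMetacyclic G) ∨
    (p = 3 ∧ ∃ n, 3 ≤ n ∧ MX p G n) := by
  have hv' : v ^ p ∈ A := (h.mem _).2 ⟨_root_.pow_mem hv.1 p, hv.2⟩
  have hu := h.comm_D hv x
  have e1 := h.comm_pow hv x
  have k1 := e1 ▸ h.comm_mem hv' x
  have k2 : ⁅x, v⁆ ^ p ≠ 1 := fun e => h1 (h.cen_of' hx hv' (commutatorElement_eq_one_iff_commute.1 (e1 ▸ e))).2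
  have hw : ⁅x, ⁅x, v⁆⁆ ∈ A := (h.mem _).2 ⟨(h.comm_D hu x).1, by
    rw [h.comm_pow hu, commutatorElement_eq_one_iff_commute.2 (commute_of_mem_center k1.2 x).symm]⟩
  have k3 : Commute ⁅x, ⁅x, v⁆⁆ ⁅x, v⁆ := hu.1 _ hw
  by_cases k : Commute x ⁅x, ⁅x, v⁆⁆
  · have k4 : x ^ p ∉ C1[v] := fun c => k2 (by
      obtain ⟨j, hj⟩ := dvd_choose_two hp.out h.odd
      have := comm_pow_left k k3 p
      rwa [commutatorElement_eq_one_iff_mul_comm.2 (mem_cent1.1 c), hj, pow_mul, h.pow hw, one_pow, one_mul, eq_comm] at this)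
    refine Or.inl ⟨fun e => k4 (e ▸ one_mem _), h.metacyclic hx (fun g hg => mem_cent1.2 ?_) k4⟩
    have := h.pcen.comm _ le_rfl v hv.1 hv.2 g hg
    rw [← commutator_pow_right (h.pcen.cen _ (commutator_le_self _ (commutator_mem_commutator hv.1 hg)) this g hg)] at this
    exact (commutatorElement_eq_one_iff_mul_comm.1 this).symm
  have k4 : ∀ d ∈ h.pcen.D, Commute x d → d ^ p = 1 := fun d hd c => by
    obtain ⟨i, hi⟩ := mem_zpowers_iff.1 ((h.Z_eq hx k1 k2).ge (h.cen_of' hx ((h.mem _).2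
      ⟨_root_.pow_mem hd.1 p, hd.2⟩) (c.pow_right p)))
    have k5 : (⁅x, v⁆ ^ i)⁻¹ * d ∈ A := (h.mem _).2 ⟨mul_mem (inv_mem (zpow_mem hu.1 i)) hd.1, by
      rw [h.pcen.mul_pow (inv_mem (zpow_mem hu.1 i)) hd.1 hd.2, ← hi, inv_pow, ← zpow_natCast, zpow_comm, zpow_natCast,
        inv_mul_cancel]⟩
    have k6 := commutator_mul_right (x := x) (commute_of_mem_center (h.comm_mem k5 x).2 (⁅x, v⁆ ^ i))
    rw [mul_inv_cancel_left, commutatorElement_eq_one_iff_commute.2 c, commutator_zpow_right k3, eq_comm,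
      mul_eq_one_iff_eq_inv] at k6
    obtain ⟨j, rfl⟩ := dvd_of_zpow_mem hp.out (H := center G) (fun c => k (commute_of_mem_center c x).symm)
      (h.pow hw ▸ one_mem _) (k6 ▸ (center G).inv_mem (h.comm_mem k5 x).2)
    rw [← hi, zpow_mul, zpow_natCast, hu.2, one_zpow]
  have k5 := h.card_le hx fun c hc => by_contra fun e => by
    obtain ⟨j, j1, j2⟩ := PGrp.exists_pow_not_mem h.pg e
    have := _root_.pow_mem hc (p ^ j)
    exact j1 ((h.mem _).2 ⟨this.2, k4 _ ⟨this.2, h.pow j2⟩ (mem_cent1.1 this.1).symm⟩)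
  obtain ⟨n, hn⟩ := IsPGroup.iff_card.1 h.pg
  have k6 := h.card ▸ hn ▸ A.card_le_card_group
  obtain ⟨n, rfl⟩ := Nat.exists_eq_add_of_le' ((Nat.pow_le_pow_iff_right hp.out.one_lt).1 k6)
  have k7 := mx_of_cent hn k5
  have k8 : 3 ≤ n := by_contra fun c => k (commutatorElement_eq_one_iff_commute.1 (mem_bot.1 ((k7.bot (not_le.1 c)).le
    (comm_mem_γ x (comm_mem_γ x (comm_mem_γ (i := 0) x trivial))))))
  refine Or.inr ⟨by_contra fun c => ?_, n, k8, k7⟩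
  obtain ⟨n, rfl⟩ := Nat.exists_eq_add_of_le' k8
  have k9 := hp.out.five_le_of_ne_two_of_ne_three h.odd c
  have := h.rk (γ G (n + 1)) (le_centralizer_iff_isMulCommutative.1 (commutator_eq_bot_iff_le_centralizer.1
    (eq_bot_iff.2 ((k7.der_γ (by omega)).trans (k7.bot (by omega)).le)))) fun y hy => mem_bot.1 ((k7.bot (by omega)).le
      (k7.pow_mem_γ (k7.unif_of_card (by omega) k5) (by omega) hy))
  rw [k7.card_γ (by omega), Nat.pow_le_pow_iff_right hp.out.one_lt] at this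
  omega

end Bk

/-- The case `|Ω₂(C)| ≤ p³`: `C = A⟨z⟩`. -/
structure Bz (p : ℕ) (A : Subgroup G) (z : G) (m : ℕ) : Prop extends Bk p A where
  small : ∀ v ∈ C[A], (v ^ p) ^ p = 1 → v ^ p ∈ center G
  gen : A ⊔ zpowers z = C[A]
  cen : z ^ p ^ m ∈ center G
  ord : orderOf z = p ^ (m + 1)

theorem Bk.exists_z (h : Bk p A) (hx : x ∉ C[A]) (ha : ∀ v ∈ h.pcen.D, v ^ p ∈ center G) : ∃ z m, Bz p A z m := by
  haveI := h.nrm
  have h1 : IsCyclic (C[A].map (QuotientGroup.mk' A)) := by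
    refine BG4.cyclic_of_card_omega_le ((h.pg.to_subgroup _).map _) h.odd ((card_le_of_le (K := h.pcen.D.map
      (QuotientGroup.mk' A)) ((closure_le _).2 ?_)).trans ?_)
    · rintro _ ⟨⟨g, k1, rfl⟩, k2⟩
      exact ⟨g, ⟨k1, h.pow ((QuotientGroup.eq_one_iff _).1 k2)⟩, rfl⟩
    rw [← relIndex_ker, QuotientGroup.ker_mk']
    exact (h.pcen.card_D (U := A ⊓ center G) (fun a k1 k2 => (h.mem a).2 ⟨k1, k2⟩) fun g hg =>
      ⟨(h.mem _).2 ⟨_root_.pow_mem hg.1 p, hg.2⟩, ha g hg⟩).trans (h.card_Z hx).le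
  obtain ⟨z, hz⟩ := cyclicP.1 h1
  obtain ⟨z, k1, rfl⟩ := hz.le (mem_zpowers z)
  have k2 : A ⊔ zpowers z = C[A] := by
    rw [← comap_map_eq_self (f := QuotientGroup.mk' A) (H := C[A]) (by rw [QuotientGroup.ker_mk']; exact h.le), ← hz,
      ← MonoidHom.map_zpowers, comap_map_eq, QuotientGroup.ker_mk', sup_comm]
  by_cases k : z ∈ A
  · obtain ⟨a, k3, k4⟩ := h.exists_comm hx
    have := h.comm_mem k3 x
    exact ⟨⁅x, a⁆, 0, h, fun v a b => ha v ⟨a, b⟩, by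
      rw [← k2, sup_eq_left.2 (zpowers_le.2 k), sup_eq_left.2 (zpowers_le.2 this.1)], _root_.pow_mem (mem_inf.1 this).2 _, by simpa using orderOf_eq_prime (h.pow this.1) k4⟩
  obtain ⟨j, j1, j2⟩ := PGrp.exists_pow_not_mem h.pg k
  have j3 := h.pow j2
  have j4 := ha _ ⟨_root_.pow_mem k1 _, j3⟩
  have j5 : (z ^ p ^ j) ^ p ≠ 1 := fun e => j1 ((h.mem _).2 ⟨_root_.pow_mem k1 _, e⟩)
  simp only [← pow_mul, ← pow_succ] at j3 j4 j5
  exact ⟨z, j + 1, h, fun v a b => ha v ⟨a, b⟩, k2, j4, orderOf_eq_prime_pow j5 j3⟩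

namespace Bz

variable (h : Bz p A z m)
include h

omit [Finite G] hp in
theorem z_mem : z ∈ C[A] := h.gen.le (mem_sup_right (mem_zpowers z))

omit [Finite G] hp in
theorem ab (hc : c ∈ C[A]) (hd : d ∈ C[A]) : Commute c d := by
  haveI : IsMulCommutative A := le_centralizer_iff_isMulCommutative.1 h.le
  exact (isMulCommutative_sup_zpowers h.z_mem).comm (h.gen.ge hc) (h.gen.ge hd)

omit [Finite G] hp in
theorem decomp (hc : c ∈ C[A]) : ∃ a ∈ A, ∃ i : ℤ, a * z ^ i = c := (mem_sup_zpowers (cent_sub _ h.z_mem)).1 (h.gen.ge hc)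

omit [Finite G] hp in
theorem w_mem : z ^ p ^ m ∈ A ⊓ center G :=
  ⟨(h.mem _).2 ⟨pow_mem h.z_mem _, by rw [← pow_mul, ← pow_succ, ← h.ord, pow_orderOf_eq_one]⟩, h.cen⟩

omit [Finite G] in
theorem w_ne : z ^ p ^ m ≠ 1 := pow_ne_one_of_lt_orderOf (pow_pos hp.out.pos m).ne'
  (h.ord ▸ Nat.pow_lt_pow_right hp.out.one_lt m.lt_succ_self)

omit [Finite G] hp in
theorem comm_C (hc : c ∈ C[A]) (g : G) : ⁅g, c⁆ ∈ C[A] := haveI := h.cn; commutator_mem_of_normal_right hc g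

omit [Finite G] hp in
theorem comm_pow' (hc : c ∈ C[A]) (g : G) (k : ℕ) : ⁅g, c ^ k⁆ = ⁅g, c⁆ ^ k :=
  commutator_pow_right (h.ab (h.comm_C hc g) hc) k

omit [Finite G] hp in
theorem comm_mul (hc : c ∈ C[A]) (hd : d ∈ C[A]) (g : G) : ⁅g, c * d⁆ = ⁅g, c⁆ * ⁅g, d⁆ :=
  commutator_mul_right (h.ab (h.comm_C hd g) hc)

variable (hx : x ∉ C[A])
include hx

theorem sup_eq (hy : y ∈ A) (k : y ∉ center G) : zpowers z ⊔ zpowers y = C[A] := by
  have k1 : A ⊓ center G ≤ zpowers z := (h.Z_eq hx h.w_mem h.w_ne).ge.trans (zpowers_le.2 (npow_mem_zpowers z _))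
  have k2 : A ⊓ center G ⊔ zpowers y = A := eq_of_card_le (sup_le inf_le_left (zpowers_le.2 hy)) (by
    haveI := h.nrm
    rw [card_sup_zpowers hp.out (norm_of_normal _ ⊤ trivial) (fun c : y ∈ A ⊓ center G => k c.2) (h.pow hy ▸ one_mem _), h.card_Z hx, h.card, sq])
  refine le_antisymm (sup_le (zpowers_le.2 h.z_mem) (zpowers_le.2 (h.le hy))) (h.gen.ge.trans (sup_le ?_ le_sup_left))
  exact k2.ge.trans (sup_le_sup_right k1 _)

theorem card' : Nat.card G = p ^ (m + 3) := by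
  obtain ⟨a, ha, k⟩ := h.exists_comm hx
  have k1 := h.sup_eq hx ha fun c => k (commutatorElement_eq_one_iff_mul_comm.2 (mem_center_iff.1 c x))
  rw [← C[A].card_mul_index, h.idx hx, ← k1, card_sup_zpowers hp.out (cent_sub _ ((C_zpowers z).ge
    (mem_cent1.2 (h.ab (h.le ha) h.z_mem)))) (fun c => ?_) (h.pow ha ▸ one_mem _), Nat.card_zpowers, h.ord]
  · ring
  rw [sup_eq_left.2 (zpowers_le.2 c)] at k1
  exact BG4.not_cyclic_of_abelem ⟨le_centralizer_iff_isMulCommutative.1 h.le, fun _ => h.pow⟩ (h.card ▸ BG4.lt_sq)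
    (isCyclic_of_le (h.le.trans k1.ge))

theorem comm_aux (hc : c ∈ C[A]) (k : Commute x ((c ^ p) ^ p)) : Commute x (c ^ p) := by
  have hu := h.comm_C hc x
  have k1 : (⁅x, c⁆ ^ p) ^ p = 1 := by
    rw [← h.comm_pow' hc, ← h.comm_pow' (pow_mem hc p), commutatorElement_eq_one_iff_commute.2 k]
  have hw : ⁅x, ⁅x, c⁆⁆ ∈ A := (h.mem _).2 ⟨h.comm_C hu x, by
    rw [← h.comm_pow' hu, commutatorElement_eq_one_iff_commute.2 (commute_of_mem_center (h.small _ hu k1) x).symm]⟩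
  by_cases hz : z ∈ h.pcen.D
  · exact (commute_of_mem_center (h.small c hc ((h.gen.ge.trans (sup_le (fun a ha => show a ∈ h.pcen.D from ⟨h.le ha, by
      rw [h.pow ha, one_pow]⟩) (zpowers_le.2 hz))) hc).2) x).symm
  obtain ⟨a, ha, i, e⟩ := h.decomp hu
  obtain ⟨j, rfl⟩ : (p : ℤ) ∣ i := by_contra fun c' => hz (zpowers_le.2 ((mul_mem_cancel_left (show a ∈ h.pcen.D from
    ⟨h.le ha, by rw [h.pow ha, one_pow]⟩)).1 (e.symm ▸ (show ⁅x, c⁆ ∈ h.pcen.D from ⟨hu, k1⟩))) (mem_zpowers_zpow_iff.2 (by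
      rw [h.ord, Nat.cast_pow]; exact Int.isCoprime_iff_gcd_eq_one.1 (isCoprime_pow_of_not_dvd hp.out c' _).symm)))
  have hj := zpow_mem h.z_mem j
  have k2 : ⁅x, ⁅x, c⁆⁆ = ⁅x, a⁆ * ⁅x, z ^ j⁆ ^ p := by
    rw [← e, h.comm_mul (h.le ha) (zpow_mem h.z_mem _), mul_comm (p : ℤ), zpow_mul, zpow_natCast, h.comm_pow' hj]
  have k3 : ⁅x, ⁅x, c⁆⁆ ∈ center G := k2 ▸ (center G).mul_mem (h.comm_mem ha x).2 (h.small _ (h.comm_C hj x)
    (h.pow ((mul_mem_cancel_left (mem_inf.1 (h.comm_mem ha x)).1).1 (k2 ▸ hw))))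
  obtain ⟨i, hi⟩ := dvd_choose_two hp.out h.odd
  have := comm_pow_left (commute_of_mem_center k3 x).symm (commute_of_mem_center k3 _) p
  rwa [commutatorElement_eq_one_iff_commute.2 (h.ab (h.pow_mem hx x) hc), hi, pow_mul, h.pow hw, one_pow, one_mul,
    ← h.comm_pow' hc, eq_comm, commutatorElement_eq_one_iff_commute] at this

theorem pow_cen (hc : c ∈ C[A]) : c ^ p ∈ center G := by
  have : ∀ k, ∀ c ∈ C[A], Commute x (c ^ p ^ (k + 1)) → Commute x (c ^ p) := fun k => by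
    induction k with
    | zero => simp
    | succ k ih =>
      exact fun c hc e => ih c hc (by
        rw [pow_succ, pow_mul]; exact h.comm_aux hx (pow_mem hc _) (by simpa only [← pow_mul, ← pow_succ] using e))
  obtain ⟨k, hk⟩ := h.pg c
  exact h.cen_of hx (fun g hg => h.ab (pow_mem hc p) hg) (this k c hc (by rw [pow_succ, pow_mul, hk, one_pow]; simp))

theorem comm_A (hc : c ∈ C[A]) (g : G) : ⁅g, c⁆ ∈ A := (h.mem _).2 ⟨h.comm_C hc g, by
  rw [← h.comm_pow' hc, commutatorElement_eq_one_iff_commute.2 (commute_of_mem_center (h.pow_cen hx hc) g).symm]⟩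

theorem top (hy : y ∈ A) (k : y ∉ center G) : closure ({x⁻¹, y, z} : Set G) = ⊤ := by
  rw [eq_top_iff, ← sup_zpowers_eq_top (h.idx hx) hx, ← h.sup_eq hx hy k]
  exact sup_le (sup_le (zpowers_le.2 (subset_closure (by simp))) (zpowers_le.2 (subset_closure (by simp))))
    (zpowers_le.2 (inv_mem_iff.1 (subset_closure (by simp))))

omit hx [Finite G] hp in
theorem conj_eq (hc : c ∈ C[A]) (x : G) : x⁻¹⁻¹ * c * x⁻¹ = c * ⁅x, c⁆ := by
  rw [← (h.ab (h.comm_C hc x) hc).eq, commutatorElement_def]; group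

theorem fam2 (h1 : x ^ p = 1) (h2 : ⁅x, z⁆ ∈ center G) : ∃ x y z : G, closure ({x, y, z} : Set G) = ⊤ ∧ x ^ p = 1 ∧
    y ^ p = 1 ∧ z ^ p ^ (m + 1) = 1 ∧ x * z = z * x ∧ y * z = z * y ∧ x⁻¹ * y * x = y * z ^ p ^ m := by
  obtain ⟨z', k, k1⟩ : ∃ z', Bz p A z' m ∧ Commute x z' := by
    rcases m with _ | m
    · exact ⟨z, h, by simpa using (commute_of_mem_center h.cen x).symm⟩
    obtain ⟨a, ha, e⟩ := h.exists_comm_eq hx (inv_mem ⟨h.comm_A hx h.z_mem x, h2⟩)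
    have k : ∀ i, (z * a) ^ p ^ (i + 1) = z ^ p ^ (i + 1) := fun i => by
      rw [(h.ab h.z_mem (h.le ha)).mul_pow, pow_succ' p, pow_mul a, h.pow ha, one_pow, mul_one]
    refine ⟨z * a, ⟨h.toBk, h.small, le_antisymm (sup_le h.le (zpowers_le.2 (mul_mem h.z_mem (h.le ha))))
      (h.gen.ge.trans (sup_le le_sup_left (zpowers_le.2 ((mul_mem_cancel_right (mem_sup_left ha)).1
        (mem_sup_right (mem_zpowers _)))))), k m ▸ h.cen, orderOf_eq_prime_pow (k m ▸ h.w_ne)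
          (by rw [k, ← h.ord, pow_orderOf_eq_one])⟩, commutatorElement_eq_one_iff_commute.1 ?_⟩
    rw [h.comm_mul h.z_mem (h.le ha), e, mul_inv_cancel]
  obtain ⟨y, hy, e⟩ := k.exists_comm_eq hx k.w_mem
  exact ⟨x⁻¹, y, z', k.top hx hy fun c => k.w_ne (e ▸ commutatorElement_eq_one_iff_mul_comm.2 (mem_center_iff.1 c x)),
    by rw [inv_pow, h1, inv_one], h.pow hy, k.ord ▸ pow_orderOf_eq_one z', k1.inv_left, k.ab (h.le hy) k.z_mem,
    e ▸ k.conj_eq (h.le hy) x⟩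

theorem fam3 (h1 : x ^ p = 1) (h2 : ⁅x, z⁆ ∉ center G) : 1 ≤ m ∧ ∃ (s : ℕ) (x y z : G), (s = 1 ∨ ¬ IsSquare (s : ZMod p)) ∧
    closure ({x, y, z} : Set G) = ⊤ ∧ x ^ p = 1 ∧ y ^ p = 1 ∧ z ^ p ^ (m + 1) = 1 ∧ y * z = z * y ∧
      x⁻¹ * y * x = y * z ^ (s * p ^ m) ∧ x⁻¹ * z * x = y * z := by
  refine ⟨Nat.pos_of_ne_zero fun e => h2 (by
    subst e; rw [commutatorElement_eq_one_iff_commute.2 (by simpa using (commute_of_mem_center h.cen x).symm)]
    exact one_mem _), ?_⟩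
  have key : ∀ x ∉ C[A], x ^ p = 1 → ∀ s : ℕ, ⁅x, ⁅x, z⁆⁆ = (z ^ p ^ m) ^ s → ⁅x, z⁆ ∉ center G → ∃ x y z : G,
      closure ({x, y, z} : Set G) = ⊤ ∧ x ^ p = 1 ∧ y ^ p = 1 ∧ z ^ p ^ (m + 1) = 1 ∧ y * z = z * y ∧
        x⁻¹ * y * x = y * z ^ (s * p ^ m) ∧ x⁻¹ * z * x = y * z := fun x hx h1 s e h2 => by
    have hy := h.comm_A hx h.z_mem x
    exact ⟨x⁻¹, _, z, h.top hx hy h2, by rw [inv_pow, h1, inv_one], h.pow hy, h.ord ▸ pow_orderOf_eq_one z,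
      h.ab (h.le hy) h.z_mem, by rw [h.conj_eq (h.le hy), e, ← pow_mul, mul_comm s],
      by rw [h.conj_eq h.z_mem, (h.ab (h.le hy) h.z_mem).eq]⟩
  have hy := h.comm_A hx h.z_mem x
  have hw := h.comm_mem hy x
  obtain ⟨s, hs⟩ := (mem_powers_iff_mem_zpowers.2 ((h.Z_eq hx h.w_mem h.w_ne).ge hw))
  by_cases k : IsSquare (s : ZMod p)
  swap
  · exact ⟨s, (key x hx h1 s hs.symm h2).imp fun _ k1 => k1.imp fun _ k2 => k2.imp fun _ k3 => ⟨Or.inr k, k3⟩⟩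
  obtain ⟨t, ht⟩ := k
  have k0 : orderOf (z ^ p ^ m) = p := orderOf_eq_prime (h.pow h.w_mem.1) h.w_ne
  have k1 : t ≠ 0 := fun e => h2 (h.cen_of' hx hy (commutatorElement_eq_one_iff_commute.1 (by
    rw [← hs, ← orderOf_dvd_iff_pow_eq_one, k0, ← ZMod.natCast_eq_zero_iff, ht, e, mul_zero]))).2
  have k2 : ⁅x ^ t⁻¹.val, ⁅x ^ t⁻¹.val, z⁆⁆ = (z ^ p ^ m) ^ 1 := by
    rw [comm_pow_left (commute_of_mem_center hw.2 x).symm (commute_of_mem_center hw.2 _),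
      h.comm_mul (h.le (pow_mem hw.1 _)) (h.le (pow_mem hy _)), commutatorElement_eq_one_iff_commute.2
        (commute_of_mem_center (pow_mem hw.2 _) _).symm, one_mul, h.comm_pow' (h.le hy),
      commutator_pow_left (commute_of_mem_center hw.2 x), ← hs, ← pow_mul, ← pow_mul, pow_eq_pow_iff_modEq, k0,
      ← ZMod.natCast_eq_natCast_iff]
    push_cast
    rw [ZMod.natCast_zmod_val, ht]; field_simp
  have k3 : ⁅x ^ t⁻¹.val, z⁆ ∉ center G := fun c => h.w_ne (by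
    rw [← pow_one (z ^ p ^ m), ← k2, commutatorElement_eq_one_iff_commute.2 (commute_of_mem_center c _).symm])
  exact ⟨1, (key _ (fun c => k3 (by rw [commutatorElement_eq_one_iff_commute.2 (h.ab c h.z_mem)]; exact one_mem _))
    (by rw [← pow_mul, mul_comm, pow_mul, h1, one_pow]) 1 k2 k3).imp fun _ k1 => k1.imp fun _ k2 => k2.imp
      fun _ k3 => ⟨Or.inl rfl, k3⟩⟩

theorem γ_two : γ G 1 ≤ A ∧ γ G 2 ≤ A ⊓ center G := by
  haveI := h.nrm
  have : γ G 1 ≤ A := commutator_le.2 fun a _ b _ => by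
    haveI := h.cn
    obtain ⟨c, hc, i, rfl⟩ := (mem_sup_zpowers (norm_of_normal _ ⊤ trivial)).1 ((sup_zpowers_eq_top (h.idx hx) hx).ge (mem_top a))
    obtain ⟨d, hd, j, rfl⟩ := (mem_sup_zpowers (norm_of_normal _ ⊤ trivial)).1 ((sup_zpowers_eq_top (h.idx hx) hx).ge (mem_top b))
    have k : ∀ c ∈ C[A], ∀ g : G, Commute (g : G ⧸ A) c := fun c hc g =>
      commutatorElement_eq_one_iff_commute.1 ((QuotientGroup.eq_one_iff _).2 (h.comm_A hx hc g))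
    exact (QuotientGroup.eq_one_iff _).1 (commutatorElement_eq_one_iff_commute.2 (((k c hc _).symm.mul_left
      ((k d hd _).mul_right ((Commute.refl (x : G ⧸ A)).zpow_zpow i j)))))
  exact ⟨this, by rw [γ, Subgroup.lowerCentralSeries_succ, commutator_comm]; exact commutator_le.2 fun a _ b hb => h.comm_mem (this hb) a⟩

theorem rest (h1 : ∀ x ∉ C[A], x ^ p ≠ 1) : IsMetacyclic G ∨ (p = 3 ∧ γ G (m + 1) ≠ ⊥) := by
  by_cases k : x ^ p ∈ zpowers (z ^ p)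
  swap
  · refine Or.inl (h.metacyclic hx (fun g hg => ?_) k)
    obtain ⟨a, ha, i, rfl⟩ := h.decomp hg
    rw [(h.ab (h.le ha) (zpow_mem h.z_mem i)).mul_pow, h.pow ha, one_mul, ← zpow_natCast (z ^ i), zpow_comm, zpow_natCast]
    exact zpow_mem_zpowers _ i
  obtain ⟨i, hi⟩ := mem_zpowers_iff.1 k
  have hc := inv_mem (zpow_mem h.z_mem i)
  have k1 : x * (z ^ i)⁻¹ ∉ C[A] := fun c => hx ((mul_mem_cancel_right hc).1 c)
  have k2 : ∀ W : Subgroup G, γ G (p - 1) ≤ W → (x * (z ^ i)⁻¹) ^ p ∈ W := fun W hW => by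
    have := Gen2.hallPetrescu hp.out (mem_top x) (mem_top (z ^ i)⁻¹) (fun g hg => by
      rw [h.pow ((h.γ_two hx).1 hg)]; exact one_mem W) hW
    rwa [← hi, inv_pow, ← zpow_natCast (z ^ i), zpow_comm, zpow_natCast, mul_inv_cancel, inv_one, one_mul] at this
  have k3 := hp.out.two_le
  have k4 := h.odd
  refine Or.inr ⟨by_contra fun c => h1 _ k1 (mem_bot.1 (k2 ⊥ ((γ_anti (show 3 ≤ p - 1 by omega)).trans ?_))), fun c => ?_⟩
  · exact commutator_le.2 fun a ha b _ => commutatorElement_eq_one_iff_commute.2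
      (commute_of_mem_center ((h.γ_two hx).2 ha).2 b)
  rcases m with _ | _ | m
  · exact h1 _ k1 (mem_bot.1 (k2 ⊥ ((γ_anti (by omega)).trans c.le)))
  · exact h1 _ k1 (mem_bot.1 (k2 ⊥ ((γ_anti (by omega)).trans c.le)))
  obtain ⟨j, hj⟩ := mem_zpowers_iff.1 ((h.Z_eq hx h.w_mem h.w_ne).ge (k2 _ ((γ_anti (by omega)).trans (h.γ_two hx).2)))
  have k5 : (z ^ p ^ (m + 1)) ^ j ∈ center G := zpow_mem (by rw [pow_succ, pow_mul]; exact h.pow_cen hx (pow_mem h.z_mem _)) j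
  refine h1 (x * (z ^ i)⁻¹ * ((z ^ p ^ (m + 1)) ^ j)⁻¹) (fun c => k1 ((mul_mem_cancel_right
    (inv_mem (center_le_centralizer _ k5))).1 c)) ?_
  rw [(commute_of_mem_center (inv_mem k5) _).symm.mul_pow, ← hj, inv_pow, ← zpow_natCast (_ ^ j), zpow_comm, zpow_natCast,
    ← pow_mul, ← pow_succ, mul_inv_cancel]

end Bz

/-- Blackburn's classification, with the structure of the non-metacyclic cases. -/
theorem blackburn (hG : IsPGroup p G) (h2 : p ≠ 2) (hr : PRankLE p 2 G) : IsMetacyclic G ∨ (p = 3 ∧ ∃ n, MX p G n) ∨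
    ∃ (A : Subgroup G) (z : G) (m : ℕ) (x : G), Bz p A z m ∧ x ∉ C[A] ∧ (x ^ p = 1 ∨ (p = 3 ∧ γ G (m + 1) ≠ ⊥)) := by
  by_cases hc : IsCyclic G
  · exact Or.inl ⟨⊤, inferInstance, isCyclic_of_surjective topEquiv.symm.toMonoidHom topEquiv.symm.surjective,
      haveI := QuotientGroup.subsingleton_quotient_top (G := G); isCyclic_of_subsingleton⟩
  obtain ⟨A, h⟩ := exists_bk hG h2 hr hc
  by_cases k : C[A] = ⊤
  · exact Or.inl (meta_of_sm h2 _ G rfl hG (k ▸ h.sm))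
  obtain ⟨x, hx⟩ : ∃ x, x ∉ C[A] := by_contra fun c => k (eq_top_iff.2 fun x _ => by_contra fun e => c ⟨x, e⟩)
  by_cases k1 : ∀ v ∈ h.pcen.D, v ^ p ∈ center G
  swap
  · push Not at k1
    obtain ⟨v, v1, v2⟩ := k1
    exact (h.big hx v1 v2).imp And.right fun ⟨a, n, _, b⟩ => Or.inl ⟨a, n, b⟩
  obtain ⟨z, m, hz⟩ := h.exists_z hx k1
  by_cases k2 : ∀ x ∉ C[A], x ^ p ≠ 1
  · exact (hz.rest hx k2).imp id fun a => Or.inr ⟨A, z, m, x, hz, hx, Or.inr a⟩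
  push Not at k2
  obtain ⟨y, y1, y2⟩ := k2
  exact Or.inr (Or.inr ⟨A, z, m, y, hz, y1, Or.inl y2⟩)

end Cfsg.Agent.Fus
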