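import Cfsg.Agent.Fus.Cert

/-! The certificate of `Fus.Cert` for a group containing a permutation group of odd index. -/

set_option autoImplicit false

namespace Cfsg.Agent.Fus

open Subgroup Cfsg Cfsg.Agent.Loc Equiv Cfsg.Agent.Comp

variable {α : Type*} {N : ℕ} {E : Enc α N} {w m : ℕ} {X : Type*} [Group X] [MulAction X α]

theorem perm_simple_of_hom [FaithfulSMul X α] (hp : Par N w m) {K : Subgroup X} {Y : Type*} [Group Y] [Finite Y]
    (φ : K →* Y) (hφ : Function.Injective φ)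
    (htr : ∀ (x y : K) (g : Y), φ y = g * φ x * g⁻¹ →
      {a : α | (x : X) • a = a}.ncard = {a : α | (y : X) • a = a}.ncard) {n f W : ℕ} {ys : List ℕ}
    {steps : List (ℕ × List ℕ)} {ws sq : List (List ℕ)} (hn : 0 < n) (hf : f ≤ n)
    (hc : (Nat.card Y).factorization 2 = n) (hL : CodesIn (PRep E w m) (appendL ys (mapL Prod.fst steps)) K)
    (hb : allL (appendL ys (mapL Prod.fst steps)) (fun c => Nat.blt c (Nat.pow 2 (Nat.mul w N))) = true)
    (h : chkPerm N w m n f W ys steps ws sq = true) (P : Sylow 2 Y) :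
    (groupFusionSystem (P : Subgroup Y)).IsSimple 2 := by
  have h1 := hL.toCRep hb
  simp only [chkPerm, force_eq, band_eq, Bool.and_eq_true, allLt_iff, memL_iff] at h
  obtain ⟨h2, h3, h4, h5, h6, h7⟩ := h
  have hG := (isGrp_CRep E hp (G := X)).subgroup K
  have hC := (isCanon_CRep E hp (G := X)).subgroup K
  have h8 : ∀ c ∈ appendL ys (mapL Prod.fst steps), ∃ y : Y, ∃ g : K, CRep E w m c (g : X) ∧ φ g = y :=
    fun c hc => let ⟨g, hg, e⟩ := h1 c hc; ⟨_, ⟨g, hg⟩, e, rfl⟩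
  rw [appendL_eq, mapL_eq] at h8
  refine (pc_of_chk (R := fun c y => ∃ g : K, CRep E w m c (g : X) ∧ φ g = y) ⟨?_, ?_, 1, hG.one, map_one φ⟩ ⟨?_, ?_⟩
    (fun l hl => h8 _ (List.mem_append_left _ (h2 l hl))) h3).simple hn hc h4
    (fun st hs => h8 _ (List.mem_append_right _ (List.mem_map_of_mem hs))) h5 hf h6 ?_ h7 P
  · rintro a _ b _ ⟨g, hg, rfl⟩ ⟨k, hk, rfl⟩
    exact ⟨g * k, hG.mul hg hk, map_mul φ g k⟩
  · rintro a _ ⟨g, hg, rfl⟩
    exact ⟨g⁻¹, hG.inv hg, map_inv φ g⟩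
  · rintro a _ _ ⟨g, hg, rfl⟩ ⟨k, hk, rfl⟩
    rw [hC.func hg hk]
  · rintro a b _ ⟨g, hg, rfl⟩ ⟨k, hk, e⟩
    exact hC.canon hg (hφ e ▸ hk)
  · rintro a b _ g ⟨x, hx, rfl⟩ ⟨y, hy, e⟩
    rw [fixP_eq hx.1, fixP_eq hy.1]; exact htr x y g e

end Cfsg.Agent.Fus
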