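import Cfsg.Agent.Fus.Cert
import Cfsg.Agent.Known.Collect
import Cfsg.Agent.Spor.Cent2

/-! The certificate of `Fus.Cert`, transferred from a small model of the Sylow 2-subgroup along polycyclic relations. -/

set_option autoImplicit false

namespace Cfsg.Agent.Fus

open Subgroup Cfsg Cfsg.Agent.Loc Cfsg.Agent.Comp Cfsg.Agent.Known

/-- the code of `Spor.ev`. -/
def evC (mul : ℕ → ℕ → ℕ) (one : ℕ) (L w : List ℕ) : ℕ :=
  List.rec (motive := fun _ => ℕ) one (fun a _ ih => mul ih (nthL one L a)) w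

/-- the polycyclic relations are among the equations. -/
def chkRel (D : PcData) (E : List (List ℕ × List ℕ)) : Bool :=
  D.ok && allLt D.n fun j => E.contains ([j, j], (D.pwi j).reverse) &&
    allLt j fun i => E.contains ([i, j], (i :: D.cwi j i).reverse)

/-- the square is trivial. -/
def ivSq (mul : ℕ → ℕ → ℕ) (one a : ℕ) : ℕ := bif' (Nat.beq (mul a a) one) 1 0

variable {G : Type*} [Group G] {R : ℕ → G → Prop} {mul : ℕ → ℕ → ℕ} {inv : ℕ → ℕ} {one : ℕ} {c : ℕ → ℕ} {n : ℕ}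

theorem evC_spec (hG : IsGrp R mul inv one) {L : List ℕ} {x : ℕ → G} (hx : ∀ i, R (nthL one L i) (x i)) (w : List ℕ) :
    R (evC mul one L w) (Spor.ev x w) := by
  induction w with
  | nil => exact hG.one
  | cons a w ih => exact hG.mul ih (hx a)

theorem ev_prod {K : Type*} [Group K] (k : ℕ → K) (y : ℕ → G) (w : List ℕ) :
    Spor.ev (fun i => (k i, y i)) w = (Spor.ev k w, Spor.ev y w) := by
  induction w with
  | nil => rfl
  | cons a w ih => simp [ih]

theorem W_eq_ev (x : ℕ → G) (l : List ℕ) : W x l = Spor.ev x l.reverse := by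
  induction l with
  | nil => rfl
  | cons a l ih => simp [ih, Spor.ev_append]

theorem card_le_of_eqs {D : PcData} (hp : D.pm = 1) {x : ℕ → G} {E : List (List ℕ × List ℕ)} (hE : Spor.Ct.Eqs x E)
    (h : chkRel D E = true) : Finite (closure (x '' {i | i < D.n})) ∧ Nat.card (closure (x '' {i | i < D.n})) ≤ 2 ^ D.n := by
  simp only [chkRel, Bool.and_eq_true, allLt_iff, List.contains_iff_mem] at h
  have := D.card_closure_le h.1 (x := x) (fun i hi => by
    rw [hp, W_eq_ev, ← hE _ (h.2 i hi).1]; simp [pow_two]) fun j hj i hi => by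
    rw [← W_cons, W_eq_ev, ← hE _ ((h.2 j hj).2 i hi)]; simp
  rwa [hp] at this

theorem ivSq_conj (hG : IsGrp R mul inv one) (hC : IsCanon R) (a b : ℕ) (x g : G) (ha : R a x) (hb : R b (g * x * g⁻¹)) :
    ivSq mul one a = ivSq mul one b := by
  have : Nat.beq (mul a a) one = Nat.beq (mul b b) one := by
    rw [Bool.eq_iff_iff, nbeq, nbeq, ← hC.eq_iff (hG.mul ha ha) hG.one, ← hC.eq_iff (hG.mul hb hb) hG.one,
      conj_mul, conj_eq_one_iff]
  rw [ivSq, ivSq, this]

theorem PC.transfer {K : Type*} [Group K] [Finite K] {R0 : ℕ → K → Prop} (h : PC R0 mul inv one c (n + 1))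
    (hz : chkZ mul c (n + 1) = true) {k : ℕ → K} (hk : ∀ i ≤ n, R0 (c (2 ^ (n - i))) (k i)) {y : ℕ → G}
    (hΓ : Finite (closure ((fun i => (k i, y i)) '' {i | i < n + 1})) ∧
      Nat.card (closure ((fun i => (k i, y i)) '' {i | i < n + 1})) ≤ 2 ^ (n + 1)) (hy : y n ≠ 1) :
    ∃ R : ℕ → G → Prop, PC R mul inv one c (n + 1) ∧ ∀ i ≤ n, R (c (2 ^ (n - i))) (y i) := by
  set Γ := closure ((fun i => (k i, y i)) '' {i | i < n + 1}) with hΓe
  have := hΓ.1
  have hm : ∀ i ≤ n, (k i, y i) ∈ Γ := fun i hi => subset_closure ⟨i, Nat.lt_succ_of_le hi, rfl⟩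
  have e1 : Γ.map (MonoidHom.fst K G) = UU R0 c (n + 1) := by
    rw [hΓe, MonoidHom.map_closure, UU]
    congr 1
    ext g
    constructor
    · rintro ⟨_, ⟨i, hi, rfl⟩, rfl⟩
      exact ⟨n - i, by omega, hk i (Nat.le_of_lt_succ hi)⟩
    · rintro ⟨l, hl, hg⟩
      refine ⟨_, ⟨n - l, show n - l < n + 1 by omega, rfl⟩, h.can.func (hk _ (by omega)) ?_⟩
      rwa [show n - (n - l) = l by omega]
  have h1 : ∀ g, ((1 : K), g) ∈ Γ → g = 1 := fun g hg => by
    have hi : Function.Injective ((MonoidHom.fst K G).subgroupMap Γ) :=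
      ((Nat.bijective_iff_surjective_and_card _).2 ⟨(MonoidHom.fst K G).subgroupMap_surjective Γ, le_antisymm
        (by rw [e1, h.card le_rfl]; exact hΓ.2)
        (Nat.card_le_card_of_surjective _ ((MonoidHom.fst K G).subgroupMap_surjective Γ))⟩).1
    exact congrArg (fun z : Γ => z.1.2) ((injective_iff_map_eq_one _).1 hi ⟨_, hg⟩ rfl)
  have h2 : ∀ a, (a, (1 : G)) ∈ Γ → a = 1 := by
    by_contra hc
    set N := Γ.comap (MonoidHom.inl K G)
    have hN : N ≤ UU R0 c (n + 1) := fun a ha => e1 ▸ ⟨_, ha, rfl⟩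
    have hp : IsPGroup 2 (UU R0 c (n + 1)) := .of_card (h.card le_rfl)
    obtain ⟨⟨x, hx, hc⟩, h3⟩ := ne_bot_iff_exists_ne_one.1 (inf_centralizer_ne_bot hp (hp.to_le hN)
      (le_normalizer_of_cj_le fun g hg => by
        obtain ⟨z, hz, rfl⟩ := e1.ge hg
        rintro _ ⟨a, ha, rfl⟩
        have := mul_mem (mul_mem hz ha) (inv_mem hz)
        show (_, _) ∈ Γ
        convert this using 1
        ext <;> simp) fun e => hc fun a ha => (eq_bot_iff_forall _).1 e a ha)
    have hz' : R0 (c 1) (k n) := by simpa using hk n le_rfl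
    obtain rfl := ((h.center hz hz').2 x (hN hx) hc).resolve_left fun e => h3 (Subtype.ext e)
    exact hy (h1 _ (by simpa using mul_mem (inv_mem (show (k n, (1 : G)) ∈ Γ from hx)) (hm n le_rfl)))
  refine ⟨fun a g => ∃ x, R0 a x ∧ (x, g) ∈ Γ, ⟨⟨?_, ?_, 1, h.grp.one, one_mem _⟩, ⟨?_, ?_⟩, fun l hl => ⟨y (n - l), k (n - l), ?_,
    hm _ (by omega)⟩, h.zero, h.tab, h.nmem, h.sq, h.cnj⟩, fun i hi => ⟨_, hk i hi, hm i hi⟩⟩
  · rintro a g b g' ⟨x, e, m⟩ ⟨x', e', m'⟩
    exact ⟨_, h.grp.mul e e', mul_mem m m'⟩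
  · rintro a g ⟨x, e, m⟩
    exact ⟨_, h.grp.inv e, inv_mem m⟩
  · rintro a g g' ⟨x, e, m⟩ ⟨x', e', m'⟩
    obtain rfl := h.can.func e e'
    exact inv_mul_eq_one.1 (h1 _ (by simpa using mul_mem (inv_mem m) m'))
  · rintro a b g ⟨x, e, m⟩ ⟨x', e', m'⟩
    obtain rfl : x = x' := inv_mul_eq_one.1 (h2 _ (by simpa using mul_mem (inv_mem m) m'))
    exact h.can.canon e e'
  · have := hk (n - l) (by omega)
    rwa [show n - (n - l) = l by omega] at this

theorem PC.simple' [Finite G] (h : PC R mul inv one c n) (hn : 0 < n) (hc : (Nat.card G).factorization 2 = n)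
    (hz : chkZ mul c n = true) {z : G} (hz' : R (c 1) z) {L : List ℕ} (hL : ∀ a ∈ L, ∃ g, R a (g * z * g⁻¹))
    {ws : List (List ℕ)} (hsc : band (allL L (inU c n))
      (allLt n fun l => Nat.beq (evalW mul inv one L (nthL [] ws l)) (c (Nat.pow 2 l))) = true)
    {f : ℕ} (hf : f ≤ n) {sq : List (List ℕ)} (hq : chkSq mul inv one c n f sq = true) {W : ℕ}
    (hN : chkN mul c n (ivSq mul one) W f = true) (P : Sylow 2 G) : (groupFusionSystem (P : Subgroup G)).IsSimple 2 := by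
  have hS := h.syl hc
  have hiv := ivSq_conj h.grp h.can
  refine simple_of_local hS (fun e => ?_) (fun T hT => ?_) (pResidualOf_le_of_chain hS.pg le_rfl
    (UU R c) hf le_rfl ?_ fun j h1 h2 => h.commutator_le h2 (h.normalizer_le hn hz hf hq hiv hN h1 h2.le)
      (h.normalizer_le hn hz hf hq hiv hN (by omega) h2)) P
  · have := h.card le_rfl
    rw [e, card_bot] at this
    exact absurd this (Nat.one_lt_two_pow hn.ne').ne
  · refine or_iff_not_imp_left.2 fun h0 => le_antisymm hT.1 ?_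
    obtain ⟨⟨x, hx, hc⟩, h1⟩ := ne_bot_iff_exists_ne_one.1
      (inf_centralizer_ne_bot hS.pg (hS.pg.to_le hT.1) (sc_le_normalizer hT) h0)
    obtain rfl := ((h.center hz hz').2 x (hT.1 hx) hc).resolve_left fun e => h1 (Subtype.ext e)
    simp only [band_eq, Bool.and_eq_true, allL_iff, allLt_iff, nbeq] at hsc
    have hL' : CodesIn R L T := fun a ha => let ⟨g, e⟩ := hL a ha
      ⟨_, ((grpFS_group _).sc_iff.1 hT).2 x hx g (mem_top g) (h.mem le_rfl (hsc.1 a ha) e), e⟩
    rw [UU, Subgroup.closure_le]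
    rintro g ⟨l, hl, hg⟩
    obtain ⟨x, hx, e'⟩ := h.grp.evalW_mem hL' (nthL [] ws l)
    rwa [h.can.func hg (hsc.2 l hl ▸ e')]
  · rw [h.eq_sq hf hq, Subgroup.closure_le]
    rintro _ ⟨x, hx, rfl⟩
    have := pow_mem_Phi hS.pg hx
    rwa [pow_two] at this

end Cfsg.Agent.Fus
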