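import Cfsg.Agent.Fus.Pre
import Cfsg.Agent.Fus.Free

/-! Components: the trichotomy with respect to normal subsystems, and the layer. -/

namespace Cfsg.Agent.Fus

open Subgroup Cfsg Cfsg.Agent.Loc Equiv
open Cfsg.FusionSystem (normalizerIn centralizerIn)
open scoped commutatorElement

variable {Ω : Type*} [Group Ω] {S T U P Q R N V W X Y : Subgroup Ω} {p n : ℕ} {F : FusionSystem S} {E : FusionSystem T}
  {C : FusionSystem V} {D : FusionSystem U} {a b f g k l : Perm Ω}

theorem Cz.comm (h : Cz F E X) (hX : T ≤ X) : ⁅T, T⁆ = ⊥ :=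
  commutator_eq_bot_iff_le_centralizer.2 fun _ hx => (h.le (hX hx)).2

theorem Cz.up {F' : FusionSystem R} (h : Cz F E X) (hF : F.IsSubsystemOf F') : Cz F' E X :=
  ⟨fun _ hx => ⟨sub_le hF (h.le hx).1, (h.le hx).2⟩, fun P f hf => (h.mor P f hf).sub hF⟩

theorem Cz.fix (h : Cz F E X) (hf : Mor E P f) {x : Ω} (hx : x ∈ P) (hX : x ∈ X) : f x = x := by
  obtain ⟨g, -, h2, h3⟩ := nMor_bot_iff.1 (h.mor P f hf)
  rw [← h2 x hx, h3 x hX]

theorem comp_sub (hC : C.IsComponentIn F p) : C.IsSubsystemOf F := sn_sub hC.1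

theorem comp_le (hC : C.IsComponentIn F p) : V ≤ S := sub_le (sn_sub hC.1)

variable [Finite S] [Fact p.Prime]

theorem comp_sat (hC : C.IsComponentIn F p) (hF : Sat F p) : Sat C p := sn_sat hC.1 hF

theorem comp_not_cz (hC : C.IsComponentIn F p) (hS : IsPGroup p S) {F' : FusionSystem R} (h : Cz F' C X) : ¬ V ≤ X := fun hX =>
  haveI := finite_of_le (comp_le hC)
  qs_not_abelian (hS.to_le (comp_le hC)) hC.2 (h.comm hX)

theorem Cz.central (h : Cz F E X) (hE : Sat E p) [Finite T] : E.IsCentral (X ⊓ T) :=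
  hE.central_of_fix inf_le_right fun _ _ hf _ hx hX => h.fix hf hx hX.1

theorem qs_wn (h : F.Quasisimple p) (hE : WN E F p) : F.IsSubsystemOf E ∨ T ≤ F.center := by
  have hF := hE.satF
  obtain ⟨Ω', _, S', _, θ, F', e, hk, hF', hs⟩ := qs_exists hF.pg h
  haveI := hE.finite
  have hθ := e.hom.mono hE.le
  obtain ⟨E', e'⟩ := exists_epi hE.satE hθ (by
    have : hθ.pre ⊥ = e.hom.pre ⊥ ⊓ T := le_antisymm (fun x hx => ⟨⟨hE.le hx.1, hx.2⟩, hx.1⟩) fun x hx => ⟨hx.2, hx.1.2⟩
    exact this ▸ sc_sub hE.sub e.sc_ker) rfl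
  have h1 := e.wn e' hE
  rcases ((simple_iff hF'.pg).1 hs).2.2 _ _ h1.ni_OP with k | k
  · exact Or.inr (hk ▸ (e.hom.le_pre_iff hE.le).2 k.le)
  left
  haveI := h1.finite
  have k1 : F'.IsSubsystemOf E' := sub_trans k (MG_sub _ _ _)
  have k2 : S ≤ T ⊔ F.center := by
    rw [← hk, ← e.hom.pre_img hE.le]
    exact (e.hom.le_pre_iff le_rfl).2 (e.img_eq.le.trans (sub_le k1))
  have k3 : T = S := by
    refine le_antisymm hE.le (h.2.1.ge.trans (hF.hyp_le_of_ge hE.sc le_rfl fun P hP hT a ha _ x hx => ?_))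
    obtain ⟨t, ht, z, hz, rfl⟩ := (mem_sup_of_le_normalizer_right (hE.le.trans (normal_le_normalizer
      (normal_of_central (central_center F))))).1 (k2 (hP hx))
    have hz' : z ∈ P := (P.mul_mem_cancel_left (hT ht)).1 hx
    have ha' := (iso_of_AutF hP ha).mor
    rw [ha'.homOn t (hT ht) z hz', central_fix (central_center F) ha' hz' hz]
    have := sc_le_normalizer hE.sc (inv_mem (center_le F hz))
    have h3 := (mem_normalizer_iff.1 this _).1 (mul_mem (inv_mem ht) (sc_mem hE.sc ha' (hT ht) ht))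
    simpa [mul_assoc] using h3
  subst k3
  refine hE.inv.sub_of_AutF fun a ha => ?_
  have h2 := e.ind_spec (iso_of_AutF le_rfl ha)
  obtain ⟨b, hb, h3⟩ := e'.exists_ind_eq le_rfl (e'.hom.pre_le _) (AutF_mono k1 _ h2.1)
  have hb' := AutF_mono hE.sub _ hb
  have h4 := e.ind_spec (iso_of_AutF le_rfl hb')
  have h5 : b⁻¹ * a ∈ pCoreOf p (AutF F T) := by
    refine mem_pCore_of_cen hF.pg (sc_of_normal (normal_of_central (central_center F)))
      (AutF_eq_bot_of_central (central_center F) ▸ IsPGroup.of_bot) le_rfl (center_le F) (mul_mem (inv_mem hb') ha) fun x hx => ?_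
    have h6 := (maps_of_AutF (mul_mem (inv_mem hb') ha)).mem hx
    refine hk ▸ (e.hom.eq_iff hx h6).1 (EquivLike.injective (ind θ T b) ?_)
    rw [h4.2 _ h6, h3, h2.2 x hx]; simp
  obtain ⟨k, h6⟩ := isPGroup_pCoreOf p (AutF F T) ⟨_, h5⟩
  have h7 := hE.ppr.OppA_le le_rfl (mem_OppA (mul_mem (inv_mem hb') ha) ⟨k, congrArg Subtype.val h6⟩)
  simpa using mul_mem hb h7

theorem qs_OP (h : F.Quasisimple p) (hS : IsPGroup p S) : OP F p = F := by
  have hF : Sat F p := ⟨hS, h.1⟩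
  rcases qs_wn h hF.ni_OP.toWN with k | k
  · exact sub_antisymm (MG_sub _ _ _) k
  · exact absurd (commutator_eq_bot_iff_le_centralizer.2 fun x hx => (center_le_CS F (k hx)).2) (qs_not_abelian hS h)

theorem WN.ni_of_qs (h : WN E F p) (hE : E.Quasisimple p) : NI E F p := by
  haveI := h.finite
  exact qs_OP hE h.satE.pg ▸ h.ni_OP

/-- A component lies in a normal subsystem (as a component) or centralizes its Sylow subgroup. -/
theorem comp_ni (hC : C.IsComponentIn F p) (hE : NI E F p) : C.IsComponentIn E p ∨ Cz F C T := by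
  obtain ⟨h1, h2⟩ := hC
  rename_i hfin hp
  revert hfin hp T
  induction h1 with
  | refl F =>
    intro T E _ _ hE
    rcases qs_wn h2 hE.toWN with k | k
    · exact Or.inl ((same_of_sub hE.sub k).elim (C := fun E => F.IsComponentIn E _) ⟨.refl F _, h2⟩)
    · exact Or.inr (cz_of_central (central_iff_le_center.2 k))
  | step h hn ih =>
    intro T E _ _ hE
    have hD := (ni_iff hE.satF.pg).1 hn
    haveI := hD.finite
    haveI := hE.finite
    obtain ⟨M, hM⟩ := hE.exists_meet hD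
    rcases ih h2 hM.ni₂ with k | k
    · exact Or.inl (component_of_sn k hM.ni₁.sn)
    · exact Or.inr (hD.cz_up hE.sc (sn_sat h hD.satE) h2.2.1 (sn_sub h) k)

theorem comp_sn (hC : C.IsComponentIn F p) (hF : Sat F p) (hE : E.IsSubnormalIn F p) : C.IsComponentIn E p ∨ Cz F C T := by
  refine sn_induction (C := fun {U} D => T ≤ U ∧ D.IsSubsystemOf F ∧ (C.IsComponentIn D p ∨ Cz F C U)) hE hF.pg
    (fun U S' _ _ D F' h1 h2 ih => ⟨sub_le (sn_sub h1), sub_trans h2.sub ih.2.1, ?_⟩)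
    ⟨sub_le (sn_sub hE), (same_refl F).sub, Or.inl hC⟩ |>.2.2
  rcases ih.2.2 with k | k
  · exact (comp_ni k h2).imp_right fun k => k.up ih.2.1
  · exact Or.inr (k.mono h2.le)

theorem comp_of_le (hC : C.IsComponentIn F p) (hF : Sat F p) (hE : E.IsSubnormalIn F p) (h : V ≤ T) : C.IsComponentIn E p :=
  (comp_sn hC hF hE).resolve_right fun k => comp_not_cz hC hF.pg k h

theorem comp_ni_of_le (hC : C.IsComponentIn F p) (hE : NI E F p) (h : V ≤ T) : C.IsComponentIn E p :=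
  comp_of_le hC hE.satF hE.sn h

theorem Cz.le_hyp (h : Cz F C X) (hV : V ≤ S) (hD : IsNK F X ⊥ D) : C.hyperfocalSubgroup p ≤ D.hyperfocalSubgroup p :=
  hyp_mono (hD.sub_of_cz h hV)

/-- A perfect subsystem centralizing the Sylow subgroup of a normal subsystem centralizes the subsystem. -/
theorem NI.hyp_le_CSE (hE : NI E F p) (h : Cz F C T) (hV : V ≤ S) : C.hyperfocalSubgroup p ≤ CSE E F p := by
  obtain ⟨D, hD, -⟩ := exists_centralizerSystem F hE.le
  exact (h.le_hyp hV hD).trans ((hyp_le_foc D p).trans (hE.foc_le_CSE hD))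

theorem comp_CF (hC : C.IsComponentIn F p) (hE : NI E F p) (hD : IsCF D E F p) : C.IsComponentIn E p ∨ C.IsComponentIn D p :=
  (comp_ni hC hE).imp_right fun k => comp_ni_of_le hC hD.ni (hD.eq ▸ hC.2.2.1 ▸ hE.hyp_le_CSE k (comp_le hC))

omit [Finite S] [Fact p.Prime] in
/-- `E` contains every component of `F`. -/
def AC (E : FusionSystem T) (F : FusionSystem S) (p : ℕ) : Prop :=
  ∀ (U : Subgroup Ω) (C : FusionSystem U), C.IsComponentIn F p → C.IsSubsystemOf E

omit [Finite S] [Fact p.Prime] in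
structure Lay (E : FusionSystem T) (F : FusionSystem S) (p : ℕ) : Prop where
  ni : NI E F p
  ac : AC E F p
  min : ∀ (R : Subgroup Ω) (D : FusionSystem R), NI D F p → AC D F p → E.IsSubsystemOf D

omit [Fact p.Prime] in
theorem lay_iff (hS : IsPGroup p S) : E.IsLayerOf F p ↔ Lay E F p :=
  ⟨fun h => ⟨(ni_iff hS).1 h.1, h.2.1, fun R D k => h.2.2 R D ((ni_iff hS).2 k)⟩,
    fun h => ⟨(ni_iff hS).2 h.ni, h.ac, fun R D k => h.min R D ((ni_iff hS).1 k)⟩⟩

theorem NI.ac_of_le (h : NI E F p) (h' : AC D F p) (hU : U ≤ T) : AC E F p := fun _ C hC =>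
  comp_sub (comp_ni_of_le hC h ((sub_le (h' _ C hC)).trans hU))

theorem Sat.exists_lay (hF : Sat F p) : ∃ (T : Subgroup Ω) (E : FusionSystem T), Lay E F p := by
  refine sub_induction (C := fun {T} E => NI E F p → AC E F p → ∃ (T : Subgroup Ω) (E : FusionSystem T), Lay E F p)
    (fun T _ E ih h1 h2 => ?_) F hF.ni_refl fun _ _ => comp_sub
  by_contra k
  refine k ⟨T, E, h1, h2, fun R D h3 h4 => ?_⟩
  obtain ⟨M, hM⟩ := h1.exists_meet h3
  haveI := hM.ni.finite
  refine sub_trans (by_contra fun k' => k (ih _ M hM.ni₁.sub k' hM.ni fun V C hC => ?_)) hM.ni₂.sub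
  exact comp_sub (comp_ni_of_le hC hM.ni (le_inf (sub_le (h2 _ C hC)) (sub_le (h4 _ C hC))))

omit [Finite S] [Fact p.Prime] in
theorem Lay.same (h : Lay E F p) (h' : Lay D F p) : Same E D :=
  same_of_sub (h.min _ D h'.ni h'.ac) (h'.min _ E h.ni h.ac)

theorem Lay.comp (h : Lay E F p) (hC : C.IsComponentIn F p) : C.IsComponentIn E p :=
  comp_ni_of_le hC h.ni (sub_le (h.ac _ C hC))

theorem Lay.cz (h : Lay E F p) (hQ : F.IsNormal Q) : Cz F E Q := layer_cz ((lay_iff h.ni.satF.pg).2 h) h.ni.satF hQ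

/-- The layer of a normal subsystem is normal. -/
theorem Lay.ni_up {L : FusionSystem R} (h : Lay L E p) (hE : NI E F p) : NI L F p := by
  haveI := hE.finite
  haveI := h.ni.finite
  have hl := (lay_iff hE.satE.pg).2 h
  refine h.ni.trans hE fun {a f P Q} ha hf hm => ?_
  have h1 := hE.inv.fiso ha
  obtain ⟨L', h2⟩ := h1.exists_sub L h.ni.le
  have h3 := (h2.mor_iff hf.le (f' := ⇑(a * f * a⁻¹)) (fun x hx => hf.mem_S hx) fun x _ => by simp).2 hf
  rw [hm.img_eq] at h3
  exact h3.sub (h1.layer_sub h2 hE.satE.pg hl hl)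

theorem Lay.mono {L : FusionSystem R} (h : Lay L E p) (hE : NI E F p) (hD : NI D F p) (h' : AC D F p) : L.IsSubsystemOf D := by
  haveI := hE.finite
  obtain ⟨M, hM⟩ := hE.exists_meet hD
  exact sub_trans (h.min _ M hM.ni₁ fun V C hC => comp_sub (comp_ni_of_le hC hM.ni₁
    (le_inf (comp_le hC) (sub_le (h' _ C (component_of_sn hC hE.sn)))))) hM.ni₂.sub

theorem Lay.hyp_eq (h : Lay E F p) : E.hyperfocalSubgroup p = T := by
  haveI := h.ni.finite
  obtain ⟨D, hD⟩ := h.ni.satE.exists_pres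
  refine le_antisymm (hyp_le E p) (sub_le (h.min _ D (h.ni.pres hD) fun V C hC => ?_))
  exact comp_sub (comp_ni_of_le hC (h.ni.pres hD) (hC.2.2.1.ge.trans (hyp_mono (h.ac _ C hC))))

theorem Sat.lay_bot (hF : Sat F p) (h : ¬ ∃ (T : Subgroup Ω) (C : FusionSystem T), C.IsComponentIn F p) :
    Lay (innerFusionSystem ⊥) F p :=
  ⟨hF.ni_inner (normal_bot F), fun V C hC => absurd ⟨V, C, hC⟩ h, fun _ _ _ _ => sub_of_eq_bot rfl⟩

end Cfsg.Agent.Fus
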