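import Cfsg.Agent.Fus.Cmp
import Cfsg.Agent.Fus.Prod

/-! Central products of subsystems. -/

namespace Cfsg.Agent.Fus

open Subgroup Cfsg Cfsg.Agent.Loc Equiv
open Cfsg.FusionSystem (normalizerIn centralizerIn)
open scoped commutatorElement

variable {Ω : Type*} [Group Ω] {S T T₁ T₂ U P P₁ P₂ Q R N V W X Y : Subgroup Ω} {p n : ℕ} {F : FusionSystem S}
  {E : FusionSystem T} {E₁ : FusionSystem T₁} {E₂ : FusionSystem T₂} {C : FusionSystem V} {D : FusionSystem U}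
  {a b k l : Perm Ω}

theorem mem_sup_of_comm (h : ∀ x ∈ P, ∀ y ∈ Q, x * y = y * x) {z : Ω} : z ∈ P ⊔ Q ↔ ∃ x ∈ P, ∃ y ∈ Q, x * y = z :=
  mem_sup_of_le_normalizer_right (le_trans (fun x hx => mem_centralizer_iff.2 fun y hy => (h x hx y hy).symm)
    (centralizer_le_normalizer _))

structure CP (E₁ : FusionSystem T₁) (E₂ : FusionSystem T₂) (D : FusionSystem U) : Prop where
  eq : U = T₁ ⊔ T₂
  comm : ∀ x ∈ T₁, ∀ y ∈ T₂, x * y = y * x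
  c₁ : E₁.IsCentral (T₁ ⊓ T₂)
  c₂ : E₂.IsCentral (T₁ ⊓ T₂)
  intro : ∀ {P₁ P₂ f₁ f₂ f}, Mor E₁ P₁ f₁ → Mor E₂ P₂ f₂ → (∀ x ∈ P₁, ∀ y ∈ P₂, f (x * y) = f₁ x * f₂ y) → Mor D (P₁ ⊔ P₂) f
  elim : ∀ {P f}, Mor D P f → ∃ (P₁ P₂ : Subgroup Ω) (f₁ f₂ g : Ω → Ω), Mor E₁ P₁ f₁ ∧ Mor E₂ P₂ f₂ ∧ P ≤ P₁ ⊔ P₂ ∧ (∀ x ∈ P, g x = f x) ∧
    ∀ x ∈ P₁, ∀ y ∈ P₂, g (x * y) = f₁ x * f₂ y

theorem exists_mul_fun (c₁ : E₁.IsCentral (T₁ ⊓ T₂)) (c₂ : E₂.IsCentral (T₁ ⊓ T₂)) {f₁ f₂ : Ω → Ω} (h₁ : Mor E₁ P₁ f₁)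
    (h₂ : Mor E₂ P₂ f₂) : ∃ g : Ω → Ω, ∀ x ∈ P₁, ∀ y ∈ P₂, g (x * y) = f₁ x * f₂ y := by
  classical
  refine ⟨fun z => if h : ∃ w : Ω × Ω, w.1 ∈ P₁ ∧ w.2 ∈ P₂ ∧ w.1 * w.2 = z then f₁ h.choose.1 * f₂ h.choose.2 else 1,
    fun x hx y hy => ?_⟩
  have h : ∃ w : Ω × Ω, w.1 ∈ P₁ ∧ w.2 ∈ P₂ ∧ w.1 * w.2 = x * y := ⟨(x, y), hx, hy, rfl⟩
  simp only [dif_pos h]
  obtain ⟨k1, k2, k3⟩ := h.choose_spec
  generalize h.choose.1 = u at *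
  generalize h.choose.2 = v at *
  have e : x⁻¹ * u = y * v⁻¹ := by rw [eq_mul_inv_iff_mul_eq, mul_assoc, k3, inv_mul_cancel_left]
  have m1 := P₁.mul_mem (P₁.inv_mem hx) k1
  have m2 := P₂.mul_mem hy (P₂.inv_mem k2)
  have e1 := central_fix c₁ h₁ m1 ⟨h₁.le m1, e ▸ h₂.le m2⟩
  have e2 := central_fix c₂ h₂ m2 ⟨e ▸ h₁.le m1, h₂.le m2⟩
  rw [h₁.homOn.map_inv_mul hx k1, e, ← e2, h₂.homOn.map_mul_inv hy k2, inv_mul_eq_iff_eq_mul] at e1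
  rw [e1]; group

theorem homOn_mul (h : ∀ x ∈ T₁, ∀ y ∈ T₂, x * y = y * x) : HomOn (fun x : Ω × Ω => x.1 * x.2) (T₁.prod T₂) := by
  intro x hx y hy
  simp only [Prod.fst_mul, Prod.snd_mul, mul_assoc]
  rw [← mul_assoc y.1, h y.1 hy.1 x.2 hx.2, mul_assoc]

theorem img_mul_prod (h : ∀ x ∈ P, ∀ y ∈ Q, x * y = y * x) : img (fun x : Ω × Ω => x.1 * x.2) (P.prod Q) = P ⊔ Q :=
  le_antisymm (img_le_iff.2 fun _ hx => mul_mem (mem_sup_left hx.1) (mem_sup_right hx.2)) fun z hz => by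
    obtain ⟨x, hx, y, hy, rfl⟩ := (mem_sup_of_comm h).1 hz
    exact mem_img_of_mem (fun x : Ω × Ω => x.1 * x.2) (x := (x, y)) ⟨hx, hy⟩

theorem cp_of_epi {D₀ : FusionSystem (T₁.prod T₂)} (h : IsProd E₁ E₂ D₀) (e : Epi D₀ (fun x => x.1 * x.2) D)
    (hc : ∀ x ∈ T₁, ∀ y ∈ T₂, x * y = y * x) (c₁ : E₁.IsCentral (T₁ ⊓ T₂)) (c₂ : E₂.IsCentral (T₁ ⊓ T₂)) : CP E₁ E₂ D := by
  refine ⟨e.img_eq.symm.trans (img_mul_prod hc), hc, c₁, c₂, fun {P₁ P₂ f₁ f₂ f} h₁ h₂ hf => ?_, fun {P f} hf => ?_⟩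
  · rw [← img_mul_prod fun x hx y hy => hc x (h₁.le hx) y (h₂.le hy)]
    exact e.mor_of_ind (h.mor_fun h₁ h₂ le_rfl) fun x hx => hf _ hx.1 _ hx.2
  · obtain ⟨f₀, h1, h2⟩ := e.lift' hf
    obtain ⟨f₁, f₂, h₁, h₂, h3⟩ := (h _ _).1 h1
    obtain ⟨g, hg⟩ := exists_mul_fun c₁ c₂ h₁ h₂
    have k : ∀ z ∈ P, ∃ x ∈ e.hom.pre P, x.1 * x.2 = z := fun z hz =>
      let ⟨x, hx, e'⟩ := e.exists_eq (hf.le hz); ⟨x, ⟨hx, show x.1 * x.2 ∈ P from (show x.1 * x.2 = z from e') ▸ hz⟩, e'⟩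
    refine ⟨_, _, f₁, f₂, g, h₁, h₂, fun z hz => ?_, fun z hz => ?_, hg⟩ <;> obtain ⟨x, hx, rfl⟩ := k z hz
    · exact mul_mem (mem_sup_left (fst_mem_fs hx)) (mem_sup_right (snd_mem_sn hx))
    · rw [hg _ (fst_mem_fs hx) _ (snd_mem_sn hx), h2 x hx, h3 x hx]

theorem IsProd.central_ker {D₀ : FusionSystem (T₁.prod T₂)} (h : IsProd E₁ E₂ D₀) (hc : ∀ x ∈ T₁, ∀ y ∈ T₂, x * y = y * x)
    (c₁ : E₁.IsCentral (T₁ ⊓ T₂)) (c₂ : E₂.IsCentral (T₁ ⊓ T₂)) : D₀.IsCentral ((homOn_mul hc).pre ⊥) :=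
  central_mono (h.central_prod c₁ c₂) fun x hx => by
    have e : x.1 * x.2 = 1 := hx.2
    exact ⟨⟨hx.1.1, eq_inv_of_mul_eq_one_left e ▸ T₂.inv_mem hx.1.2⟩, eq_inv_of_mul_eq_one_right e ▸ T₁.inv_mem hx.1.1, hx.1.2⟩

theorem exists_cp_epi [Finite T₁] [Finite T₂] {D₀ : FusionSystem (T₁.prod T₂)} (h : IsProd E₁ E₂ D₀)
    (hc : ∀ x ∈ T₁, ∀ y ∈ T₂, x * y = y * x) (c₁ : E₁.IsCentral (T₁ ⊓ T₂)) (c₂ : E₂.IsCentral (T₁ ⊓ T₂)) (hU : U = T₁ ⊔ T₂) :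
    ∃ D : FusionSystem U, Epi D₀ (fun x => x.1 * x.2) D := by
  have k := normal_of_central (h.central_ker hc c₁ c₂)
  obtain ⟨D, hD⟩ := exists_fac D₀ (homOn_mul hc) (sc_of_normal k) ((img_mul_prod hc).trans hU.symm)
  exact ⟨D, hD.epi_of_normal k⟩

theorem exists_cp [Finite T₁] [Finite T₂] (hc : ∀ x ∈ T₁, ∀ y ∈ T₂, x * y = y * x) (c₁ : E₁.IsCentral (T₁ ⊓ T₂))
    (c₂ : E₂.IsCentral (T₁ ⊓ T₂)) : ∃ D : FusionSystem (T₁ ⊔ T₂), CP E₁ E₂ D := by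
  obtain ⟨D₀, h⟩ := exists_isProd E₁ E₂
  obtain ⟨D, e⟩ := exists_cp_epi h hc c₁ c₂ rfl
  exact ⟨D, cp_of_epi h e hc c₁ c₂⟩

namespace CP

theorem symm (h : CP E₁ E₂ D) : CP E₂ E₁ D := by
  refine ⟨h.eq.trans (sup_comm _ _), fun x hx y hy => (h.comm y hy x hx).symm, inf_comm T₁ T₂ ▸ h.c₂, inf_comm T₁ T₂ ▸ h.c₁,
    fun {P₁ P₂ f₁ f₂ f} h₁ h₂ hf => sup_comm P₂ P₁ ▸ h.intro h₂ h₁ fun x hx y hy => ?_, fun hf => ?_⟩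
  · rw [h.comm x (h₂.le hx) y (h₁.le hy), hf y hy x hx, h.comm _ (h₂.mem_S hx) _ (h₁.mem_S hy)]
  · obtain ⟨P₁, P₂, f₁, f₂, g, h₁, h₂, h3, h4, h5⟩ := h.elim hf
    refine ⟨P₂, P₁, f₂, f₁, g, h₂, h₁, sup_comm P₁ P₂ ▸ h3, h4, fun x hx y hy => ?_⟩
    rw [← h.comm y (h₁.le hy) x (h₂.le hx), h5 y hy x hx, h.comm _ (h₁.mem_S hy) _ (h₂.mem_S hx)]

theorem sub_of_intro (h : CP E₁ E₂ D) (k : ∀ {P₁ P₂ f₁ f₂ f}, Mor E₁ P₁ f₁ → Mor E₂ P₂ f₂ →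
    (∀ x ∈ P₁, ∀ y ∈ P₂, f (x * y) = f₁ x * f₂ y) → Mor F (P₁ ⊔ P₂) f) : D.IsSubsystemOf F :=
  sub_iff.2 fun _ _ hf => by
    obtain ⟨P₁, P₂, f₁, f₂, g, h₁, h₂, h3, h4, h5⟩ := h.elim hf
    exact ((k h₁ h₂ h5).mono h3).congr fun x hx => (h4 x hx).symm

theorem same (h : CP E₁ E₂ D) (h' : CP E₁ E₂ C) : Same D C := same_of_sub (h.sub_of_intro h'.intro) (h'.sub_of_intro h.intro)

theorem le₁ (h : CP E₁ E₂ D) : T₁ ≤ U := h.eq ▸ le_sup_left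

theorem le₂ (h : CP E₁ E₂ D) : T₂ ≤ U := h.eq ▸ le_sup_right

theorem mem (h : CP E₁ E₂ D) {z : Ω} (hz : z ∈ U) : ∃ x ∈ T₁, ∃ y ∈ T₂, x * y = z := (mem_sup_of_comm h.comm).1 (h.eq ▸ hz)

theorem mor₁ (h : CP E₁ E₂ D) (hP : P ≤ T₁) {f : Ω → Ω} : Mor D P f ↔ Mor E₁ P f := by
  refine ⟨fun hf => ?_, fun hf => sup_bot_eq P ▸ h.intro hf (mor_id E₂ bot_le) fun x _ y hy => by simp [mem_bot.1 hy]⟩
  obtain ⟨P₁, P₂, f₁, f₂, g, h₁, h₂, h3, h4, h5⟩ := h.elim hf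
  obtain ⟨u, k1, k2, k3⟩ := (central_iff'.1 h.c₁).2 _ _ h₁
  have k : ∀ z ∈ P, ∃ x ∈ P₁, ∃ y ∈ P₂, y ∈ T₁ ⊓ T₂ ∧ x * y = z := fun z hz => by
    obtain ⟨x, hx, y, hy, rfl⟩ := (mem_sup_of_comm fun x hx y hy => h.comm x (h₁.le hx) y (h₂.le hy)).1 (h3 hz)
    exact ⟨x, hx, y, hy, ⟨(T₁.mul_mem_cancel_left (h₁.le hx)).1 (hP hz), h₂.le hy⟩, rfl⟩
  refine (k1.mono fun z hz => ?_).congr fun z hz => ?_ <;> obtain ⟨x, hx, y, hy, hy', rfl⟩ := k z hz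
  · exact mul_mem (mem_sup_left hx) (mem_sup_right hy')
  · rw [← h4 _ hz, h5 x hx y hy, k1.homOn x (mem_sup_left hx) y (mem_sup_right hy'), k2 x hx, k3 y hy',
      central_fix h.c₂ h₂ hy hy']

theorem sub₁ (h : CP E₁ E₂ D) : E₁.IsSubsystemOf D := sub_iff.2 fun _ _ hf => (h.mor₁ hf.le).2 hf

theorem sub₂ (h : CP E₁ E₂ D) : E₂.IsSubsystemOf D := h.symm.sub₁

theorem sc₁ (h : CP E₁ E₂ D) : D.StronglyClosed T₁ :=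
  sc_iff'.2 ⟨h.le₁, fun P _ hf _ hx hx' => ((h.mor₁ (P := P ⊓ T₁) inf_le_right).1 (hf.mono inf_le_left)).mem_S ⟨hx, hx'⟩⟩

theorem finite (h : CP E₁ E₂ D) [Finite T₁] [Finite T₂] : Finite U := by
  rw [h.eq, ← img_mul_prod h.comm]; exact (homOn_mul h.comm).finite_img

theorem epi (h : CP E₁ E₂ D) [Finite T₁] [Finite T₂] {D₀ : FusionSystem (T₁.prod T₂)} (h₀ : IsProd E₁ E₂ D₀) :
    Epi D₀ (fun x => x.1 * x.2) D := by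
  obtain ⟨D', e⟩ := exists_cp_epi h₀ h.comm h.c₁ h.c₂ h.eq
  exact fs_ext (h.same (cp_of_epi h₀ e h.comm h.c₁ h.c₂)) ▸ e

theorem sat [Fact p.Prime] (h : CP E₁ E₂ D) [Finite T₁] [Finite T₂] (h₁ : Sat E₁ p) (h₂ : Sat E₂ p) : Sat D p :=
  let ⟨_, h₀⟩ := exists_isProd E₁ E₂
  (h.epi h₀).sat (h₀.sat h₁ h₂)

theorem hyp_eq [Fact p.Prime] (h : CP E₁ E₂ D) [Finite T₁] [Finite T₂] :
    D.hyperfocalSubgroup p = E₁.hyperfocalSubgroup p ⊔ E₂.hyperfocalSubgroup p := by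
  obtain ⟨_, h₀⟩ := exists_isProd E₁ E₂
  rw [(h.epi h₀).hyp_eq, h₀.hyp_eq, img_mul_prod fun x hx y hy => h.comm x (hyp_le _ p hx) y (hyp_le _ p hy)]

theorem cz₁ (h : CP E₁ E₂ D) [Finite U] : Cz D E₁ T₂ := by
  refine ⟨le_inf h.le₂ fun y hy => mem_centralizer_iff.2 fun x hx => h.comm x hx y hy, fun P f hf => ?_⟩
  obtain ⟨g, hg⟩ := exists_mul_fun h.c₁ h.c₂ hf (mor_id E₂ le_rfl)
  obtain ⟨u, h1, h2⟩ := (h.intro hf (mor_id E₂ le_rfl) hg).exists_perm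
  refine nMor_bot_iff.2 ⟨u, h1, fun x hx => ?_, fun y hy => ?_⟩
  · simpa [h2 x (mem_sup_left hx)] using hg x hx 1 (one_mem _)
  · simpa [h2 y (mem_sup_right hy), hf.homOn.map_one] using hg 1 (one_mem _) y hy

theorem sub (h : CP E₁ E₂ D) [Finite T₁] [Finite T₂] (h₁ : Cz F E₁ T₂) (h₂ : Cz F E₂ T₁) : D.IsSubsystemOf F := by
  refine h.sub_of_intro fun {P₁ P₂ f₁ f₂ f} k₁ k₂ hf => ?_
  obtain ⟨a₁, m₁, e₁⟩ := k₁.exists_perm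
  obtain ⟨a₂, m₂, e₂⟩ := k₂.exists_perm
  obtain ⟨g₁, n₁, u₁, v₁⟩ := nMor_bot_iff.1 (h₁.mor _ _ m₁)
  obtain ⟨g₂, n₂, u₂, v₂⟩ := nMor_bot_iff.1 (h₂.mor _ _ m₂)
  have hc := fun z => mem_sup_of_comm (z := z) fun x hx y hy => h.comm x (k₁.le hx) y (k₂.le hy)
  have e : ∀ x ∈ P₁, ∀ y ∈ P₂, g₂ (x * y) = x * f₂ y := fun x hx y hy => by
    rw [n₂.homOn x (mem_sup_right (k₁.le hx)) y (mem_sup_left hy), v₂ x (k₁.le hx), u₂ y hy, e₂ y hy]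
  refine (n₁.mul (n₂.mono (sup_le (k₁.le.trans le_sup_right) le_sup_left)) fun z hz => ?_).congr fun z hz => ?_ <;>
    obtain ⟨x, hx, y, hy, rfl⟩ := (hc z).1 hz
  · rw [e x hx y hy]; exact mul_mem (mem_sup_left hx) (mem_sup_right (k₂.mem_S hy))
  · rw [Perm.mul_apply, e x hx y hy, n₁.homOn x (mem_sup_left hx) _ (mem_sup_right (k₂.mem_S hy)), u₁ x hx, e₁ x hx,
      v₁ _ (k₂.mem_S hy), hf x hx y hy]

theorem wn_of_wn [Fact p.Prime] (h : CP E₁ E₂ D) [Finite U] (hD : Sat D p) (hC : WN C E₁ p) : WN C D p :=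
  ⟨hC.satE, hD, hD.inv_of_sconj (sub_trans hC.sub h.sub₁) (sc_iff'.2 ⟨hC.le.trans h.le₁, fun P _ hf _ hx hx' =>
    sc_mem hC.sc ((h.mor₁ (P := P ⊓ V) (inf_le_right.trans hC.le)).1 (hf.mono inf_le_left)) ⟨hx, hx'⟩ hx'⟩)
    fun hk hQ => hC.inv.sconj ((h.mor₁ (hQ.trans hC.le)).1 hk) hQ⟩

theorem ni₁ [Fact p.Prime] (h : CP E₁ E₂ D) [Finite U] (hD : Sat D p) (h₁ : Sat E₁ p) : NI E₁ D p := by
  refine ⟨h.wn_of_wn hD h₁.ni_refl.toWN, fun a ha => ?_⟩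
  have ha' := iso_of_AutF le_rfl ha
  obtain ⟨g, h1, h2, h3⟩ := nMor_bot_iff.1 (h.cz₁.mor _ _ ha'.mor)
  refine ⟨g, h1.mono ((sup_CS_le h.le₁).trans h.eq.le), h2, fun c hc => ?_⟩
  obtain ⟨x, hx, y, hy, rfl⟩ := h.mem hc.1
  rw [h1.homOn x (mem_sup_left hx) y (mem_sup_right hy), h2 x hx, h3 y hy, h.comm x hx y hy, h.comm _ (ha'.mem hx) y hy]
  simpa [mul_assoc] using T₁.mul_mem (T₁.inv_mem hx) (ha'.mem hx)

end CP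

theorem cp_iff [Finite T₁] [Finite T₂] : FusionSystem.IsCentralProductOf E₁ E₂ D ↔ CP E₁ E₂ D := by
  constructor
  · rintro ⟨D₀, h₀, Z, θ, hZ, -, -, h1, h2, h3⟩
    rw [isProd_iff] at h₀
    obtain ⟨k1, k2⟩ := factor_iff.1 h3
    have hθ := homOn_ext1 θ
    have e : ∀ x ∈ T₁.prod T₂, x.1 * x.2 = ext1 θ x := fun x hx => by
      have m1 : ((x.1, 1) : Ω × Ω) ∈ T₁.prod T₂ := ⟨hx.1, one_mem _⟩
      have m2 : ((1, x.2) : Ω × Ω) ∈ T₁.prod T₂ := ⟨one_mem _, hx.2⟩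
      have := hθ _ m1 _ m2
      rw [ext1_apply θ m1, ext1_apply θ m2, h1, h2] at this
      simpa using this.symm
    have hc : ∀ x ∈ T₁, ∀ y ∈ T₂, x * y = y * x := fun x hx y hy => by
      have := (hθ.congr e) (1, y) ⟨one_mem _, hy⟩ (x, 1) ⟨hx, one_mem _⟩
      simpa using this
    have hZ' : ∀ z ∈ T₁ ⊓ T₂, z ∈ E₁.center ∧ z⁻¹ ∈ E₂.center := fun z hz => by
      have m : ((z, z⁻¹) : Ω × Ω) ∈ T₁.prod T₂ := ⟨hz.1, T₂.inv_mem hz.2⟩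
      have : ((z, z⁻¹) : Ω × Ω) ∈ D₀.center := hZ (k1 ▸ ⟨m, by rw [← e _ m]; simp⟩)
      rwa [h₀.center_eq] at this
    exact cp_of_epi h₀ ((k2.epi_of_normal (normal_of_central (central_iff_le_center.2 (k1 ▸ hZ)))).congr e) hc
      (central_iff_le_center.2 fun z hz => (hZ' z hz).1) (central_iff_le_center.2 fun z hz => inv_mem_iff.1 (hZ' z hz).2)
  · intro h
    obtain ⟨D₀, h₀⟩ := exists_isProd E₁ E₂
    have hθ := homOn_mul h.comm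
    have e : ∀ x ∈ T₁.prod T₂, ext1 hθ.toHom x = x.1 * x.2 := fun x hx => ext1_apply _ hx
    refine ⟨D₀, isProd_iff.2 h₀, hθ.pre ⊥, hθ.toHom, le_center (h₀.central_ker h.comm h.c₁ h.c₂), eq_bot_iff.2 fun x hx => ?_,
      eq_bot_iff.2 fun x hx => ?_, fun x _ => mul_one x, fun x _ => one_mul x, factor_iff.2 ⟨?_, ((h.epi h₀).congr e).fac⟩⟩
    · have h1 : x.1 * x.2 = 1 := hx.1.2
      have h2 : x.2 = 1 := hx.2.2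
      exact Prod.ext (by simpa [h2] using h1) h2
    · have h1 : x.1 * x.2 = 1 := hx.1.2
      have h2 : x.1 = 1 := hx.2.1
      exact Prod.ext h2 (by simpa [h2] using h1)
    · ext x
      exact and_congr_right fun hx => by rw [e x hx]

theorem closed_fix (hX : F.StronglyClosed X) : Closed F fun P f => ∀ x ∈ P, x ∈ X → f x = x :=
  ⟨fun h e x hx hx' => (e x hx).trans (h x hx hx'), fun h e x hx => h x (e hx),
    fun i _ h h' x hx hx' => by rw [Perm.mul_apply, h x hx hx', h' x (h x hx hx' ▸ i.mem hx) hx'],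
    fun i h x hx hx' => by
      have := h _ (i.symm.mem hx) (sc_mem hX i.symm.mor hx hx')
      rw [← this]; simp⟩

theorem closed_mor_inf (hT : F.StronglyClosed T) (E : FusionSystem T) : Closed F fun P f => Mor E (P ⊓ T) f :=
  ⟨fun k e => k.congr fun x hx => e x hx.1, fun k e => k.mono (inf_le_inf_right T e),
    fun i _ k k' => k'.mul k fun _ => (sc_maps_inf hT i).mem, fun i k => k.inv (sc_maps_inf hT i)⟩

variable [Finite S] [Fact p.Prime]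

theorem NI.fra_cz (h : NI E F p) (hf : Mor F (P₁ ⊔ P₂) a) (h₁ : P₁ ≤ T) (h₂ : P₂ ≤ CSE E F p) :
    ∃ k z : Perm Ω, Mor F (T ⊔ P₂) k ∧ Mor E P₁ z ∧ (∀ y ∈ P₂, a y = k y) ∧ ∀ x, a x = k (z x) := by
  obtain ⟨k, h1, h2⟩ := h.tg.fac hf
  rw [inf_eq_left.2 hf.le] at h1 h2
  refine ⟨k, k⁻¹ * a, h1.mono (sup_le_sup_left le_sup_right _), (h2 _ (closed_mor_inf h.sc E) (mor_one E inf_le_right)
    fun _ _ _ hb _ => hb.2.1).mono (le_inf le_sup_left h₁), fun y hy => ?_, fun x => by simp⟩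
  have := h2 _ (closed_fix h.sc_CSE) (fun _ _ _ => rfl) (fun V b hV hb hp x => h.BE_fix_CSE hV.1 hV.2 hb hp) y
    (mem_sup_right hy) (h₂ hy)
  rwa [Perm.mul_apply, Perm.inv_eq_iff_eq] at this

theorem NI.le_CSE_of_central (h : NI E F p) (hX : F.StronglyClosed X) (hc : X ≤ centralizer (T : Set Ω))
    (hz : E.IsCentral (T ⊓ X)) : X ≤ CSE E F p := fun c hc' => by
  haveI := h.finite
  refine ⟨⟨hX.1 hc', hc hc'⟩, fun Q b hb => ?_⟩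
  have hQ := hb.cen.1
  have hi := iso_of_AutF (sup_CS_le (hQ.trans h.le)) hb.mem
  have hXV : X ≤ Q ⊔ centralizerIn S Q := fun x hx => mem_sup_right ⟨hX.1 hx, centralizer_le hQ (hc hx)⟩
  refine fix_of_coprime_of_stab hb.pp (h.satE.pg.to_le (inf_le_left : T ⊓ X ≤ T)) (hi.homOn.mono hXV) (sc_maps hX hi.mor hXV)
    inf_le_right (fun x hx => central_fix hz hb.mor (centric_CS_le hb.cen ⟨hx.1, centralizer_le hQ (hc hx.2)⟩) hx)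
    (fun x hx => ⟨hb.cu x (hXV hx), X.mul_mem (X.inv_mem hx) (sc_mem hX hi.mor (hXV hx) hx)⟩) c hc'

theorem fcr_inf_sup_aux (hS : IsPGroup p S) (h₁ : F.StronglyClosed T₁) (hT : T₂ ≤ S) (hn : S ≤ normalizer (T₂ : Set Ω))
    (hc : ∀ x ∈ T₁, ∀ y ∈ T₂, x * y = y * x) (hP : F.IsCentric P) (hr : F.IsRadical p P) : T₁ ⊓ (P ⊔ T₂) ≤ P := by
  have hPS : P ≤ S := hP.1
  haveI := finite_of_le hPS
  haveI := finite_of_le (inf_le_left : P ⊓ T₁ ≤ P)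
  have hst := AutF_le_Stab_inf hPS h₁
  have hθ := (homOn_res (P ⊓ T₁)).mono hst
  refine le_of_pact hS hP hr (inf_le_left.trans h₁.1) (fun x hx => mem_normalizer_inf (sc_le_normalizer h₁ (hPS hx))
    (mem_normalizer_sup (le_normalizer hx) (hn (hPS hx)))) (pact_top hS hPS h₁ inf_le_left
      ⟨hθ.pre (AutK P (P ⊓ T₁)), hθ.pre_le _, hθ.le_normalizer_pre le_rfl (img_le_iff.2 fun a ha => ?_), ?_, fun a ha => ?_⟩)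
  · have hi := iso_of_AutF hPS ha
    have hm := sc_maps_inf h₁ hi
    refine mem_normalizer_of_cj_le ?_
    rw [cj_congr (AutK_le_AutOn _ _) hm fun x hx => res_apply hm hx]
    exact hi.homOn.cj_AutK_le inf_le_left hm le_rfl fun x => hi.mem
  · intro a ha
    obtain ⟨x, hx, hxn, rfl⟩ := mem_AutK.1 ha
    obtain ⟨y, hy, t, ht, rfl⟩ := (mem_sup_of_le_normalizer_right (hPS.trans hn)).1 hx.2
    have n1 : ∀ z ∈ S, z ∈ normalizer (P : Set Ω) → z ∈ normalizer ((P ⊓ T₁ : Subgroup Ω) : Set Ω) := fun z hz hz' =>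
      mem_normalizer_inf hz' (sc_le_normalizer h₁ hz)
    refine ⟨cr_mem_AutF F hPS ⟨h₁.1 hx.1, hxn⟩, ?_⟩
    rw [res_cr inf_le_left (n1 _ (h₁.1 hx.1) hxn) hxn, (cr_eq_cr_iff (n1 _ (h₁.1 hx.1) hxn) (n1 y (hPS hy) (le_normalizer hy))).2 ?_]
    · exact cr_mem_AutK hy (n1 y (hPS hy) (le_normalizer hy))
    · simpa using mem_centralizer_iff.2 fun z hz => hc z hz.2 t ht
  · obtain ⟨k, hk⟩ := isPGroup_AutK (hS.to_le hPS) (P ⊓ T₁) ⟨_, ha.2⟩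
    refine ⟨k, (res_eq_one_iff ((hst ha.1).pow _)).1 ?_⟩
    rw [res_pow (hst ha.1)]; exact congrArg Subtype.val hk

theorem fcr_inf_sup (hS : IsPGroup p S) (h₁ : F.StronglyClosed T₁) (h₂ : F.StronglyClosed T₂)
    (hc : ∀ x ∈ T₁, ∀ y ∈ T₂, x * y = y * x) (hP : F.IsCentric P) (hr : F.IsRadical p P) :
    P ⊓ (T₁ ⊔ T₂) ≤ P ⊓ T₁ ⊔ P ⊓ T₂ := fun z hz => by
  obtain ⟨x, hx, y, hy, rfl⟩ := (mem_sup_of_comm hc).1 hz.2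
  have : x ∈ P := fcr_inf_sup_aux hS h₁ h₂.1 (sc_le_normalizer h₂) hc hP hr
    ⟨hx, by simpa using (P ⊔ T₂).mul_mem (mem_sup_left hz.1) (mem_sup_right (T₂.inv_mem hy))⟩
  exact mul_mem (mem_sup_left ⟨this, hx⟩) (mem_sup_right ⟨(P.mul_mem_cancel_left this).1 hz.1, hy⟩)

theorem CP.le_CSE (h : CP E₁ E₂ D) (h₁ : NI E₁ F p) (h₂ : F.StronglyClosed T₂) : T₂ ≤ CSE E₁ F p :=
  h₁.le_CSE_of_central h₂ (fun y hy => mem_centralizer_iff.2 fun x hx => h.comm x hx y hy) h.c₁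

theorem CP.ext₁ (h : CP E₁ E₂ D) (h₁ : NI E₁ F p) (h₂ : F.StronglyClosed T₂) (ha : a ∈ AutF D U) (hp : (orderOf a).Coprime p) :
    ∃ g ∈ AutF F (U ⊔ centralizerIn S U), (∀ x ∈ T₁, g x = a x) ∧ (∀ x ∈ T₂, g x = x) ∧ CU U (U ⊔ centralizerIn S U) g := by
  haveI := h₁.finite
  haveI := finite_of_le h₂.1
  haveI := h.finite
  have hi := iso_of_AutF le_rfl ha
  have hm := sc_maps h.sc₁ hi.mor h.le₁
  have h1 : res T₁ a ∈ AutF E₁ T₁ := Iso.res_mem ⟨(h.mor₁ le_rfl).1 (hi.mor.mono h.le₁), hm⟩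
  obtain ⟨g, k1, k2⟩ := h₁.exists_good (V := U ⊔ centralizerIn S U) (centric_self E₁) h1 (coprime_res hm hp)
    (h.le₁.trans le_sup_left) (sup_le (h.eq ▸ sup_le_sup_left ((h.le_CSE h₁ h₂).trans (CSE_le _ _ _)) _)
      ((CS_anti S h.le₁).trans le_sup_right))
  exact ⟨g, k1.mem, fun x hx => (k2 x hx).trans (res_apply hm hx), fun x hx =>
    h₁.gd_fix_CSE k1 (mem_sup_left (h.le₂ hx)) (h.le_CSE h₁ h₂ hx), fun x hx => h.le₁ (k1.cu x hx)⟩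

/-- The central product of two normal subsystems is normal. -/
theorem CP.ni (h : CP E₁ E₂ D) (h₁ : NI E₁ F p) (h₂ : NI E₂ F p) : NI D F p := by
  haveI := h₁.finite
  haveI := h₂.finite
  haveI := h.finite
  have hF := h₁.satF
  have c₁ := h.le_CSE h₁ h₂.sc
  have c₂ := h.symm.le_CSE h₂ h₁.sc
  have hU : F.StronglyClosed U := h.eq ▸ hF.sc_sup h₁.sc h₂.sc
  have hi : AInv D F U := fun {a f P R} ha hf hm => by
    obtain ⟨P₁, P₂, f₁, f₂, g, m₁, m₂, h3, h4, h5⟩ := h.elim hf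
    obtain ⟨b₁, n₁, e₁⟩ := m₁.exists_perm
    obtain ⟨b₂, n₂, e₂⟩ := m₂.exists_perm
    have i₁ := ha.restrict (m₁.le.trans h.le₁)
    have i₂ := ha.restrict (m₂.le.trans h.le₂)
    have k₁ := h₁.inv.conj ⟨ha.mor.mono h.le₁, sc_maps h₁.sc ha.mor h.le₁⟩ n₁ i₁.maps
    have k₂ := h₂.inv.conj ⟨ha.mor.mono h.le₂, sc_maps h₂.sc ha.mor h.le₂⟩ n₂ i₂.maps
    have hs := (ha.homOn.mono (sup_le (m₁.le.trans h.le₁) (m₂.le.trans h.le₂))).maps_sup i₁.maps i₂.maps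
    refine ((h.intro (f := fun z => a (g (a⁻¹ z))) k₁ k₂ fun x hx y hy => ?_).mono ((hm.le_iff hs).2 h3)).congr fun z hz => ?_
    · have hx' := i₁.symm.mem hx
      have hy' := i₂.symm.mem hy
      simp only [Perm.mul_apply]
      rw [ha.symm.homOn x (h.le₁ (k₁.le hx)) y (h.le₂ (k₂.le hy)), h5 _ hx' _ hy',
        ha.homOn _ (h.le₁ (m₁.mem_S hx')) _ (h.le₂ (m₂.mem_S hy')), e₁ _ hx', e₂ _ hy']
    · simp only [Perm.mul_apply, h4 _ (hm.inv_mem hz)]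
  have hw : WN D F p := by
    refine ⟨h.sat h₁.satE h₂.satE, hF, h.sub (h₁.cz_iff_le.2 c₁) (h₂.cz_iff_le.2 c₂), hU, hi, fun {P f} hP hf =>
      (hF.alperin_fcr (closed_KE hU hi le_rfl) (fun P hn hc hr a ha => ?_) P f hf).imp' (p := fun a => a ∈ AutF F U ∧ _)
        id fun a k => ⟨iso_of_AutF hU.1 k.1, k.2.mono (le_inf le_rfl hP)⟩⟩
    have ha' := iso_of_AutF hn.1 ha
    obtain ⟨k, z₁, k1, k2, k3, k4⟩ := h₁.fra_cz (P₁ := P ⊓ T₁) (P₂ := P ⊓ T₂) (ha'.mor.mono (sup_le inf_le_left inf_le_left))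
      inf_le_right (inf_le_right.trans c₁)
    obtain ⟨l, z₂, l1, l2, l3, l4⟩ := h₂.fra_cz (sup_comm T₁ _ ▸ k1) inf_le_right c₂
    have hl : Iso F l U U := ⟨h.symm.eq ▸ l1, sc_maps hU l1 h.symm.eq.le⟩
    refine ⟨_, hl.res_mem, (h.intro k2 l2 fun x hx y hy => ?_).mono (h.eq ▸ fcr_inf_sup hF.pg h₁.sc h₂.sc h.comm hc hr)⟩
    have m := U.mul_mem (h.le₁ (k2.mem_S hx)) (h.le₂ (l2.mem_S hy))
    rw [Perm.mul_apply, Perm.inv_eq_iff_eq, res_apply hl.maps m, hl.homOn _ (h.le₁ (k2.mem_S hx)) _ (h.le₂ (l2.mem_S hy)),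
      ha'.homOn x hx.1 y hy.1, k4 x, k3 y hy, l4 y, l3 _ (k2.mem_S hx)]
  refine hw.ni_of_pprime fun a ha hp => ?_
  obtain ⟨g₁, m₁, u₁, v₁, w₁⟩ := h.ext₁ h₁ h₂.sc ha hp
  obtain ⟨g₂, m₂, u₂, v₂, w₂⟩ := h.symm.ext₁ h₂ h₁.sc ha hp
  have i₁ := iso_of_AutF (sup_CS_le hU.1) m₁
  have i₂ := iso_of_AutF (sup_CS_le hU.1) m₂
  have hi := iso_of_AutF le_rfl ha
  refine ⟨g₁ * g₂, (i₂.trans i₁).mor, fun z hz => ?_, (w₁.mul w₂ fun _ => i₂.mem).mono le_sup_right⟩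
  obtain ⟨x, hx, y, hy, rfl⟩ := h.mem hz
  have hy' := sc_mem h.symm.sc₁ hi.mor (h.le₂ hy) hy
  rw [Perm.mul_apply, i₂.homOn x (mem_sup_left (h.le₁ hx)) y (mem_sup_left (h.le₂ hy)), v₂ x hx, u₂ y hy,
    i₁.homOn x (mem_sup_left (h.le₁ hx)) _ (mem_sup_left (h.le₂ hy')), u₁ x hx, v₁ _ hy', hi.homOn x (h.le₁ hx) y (h.le₂ hy)]

theorem NI.exists_cp (h₁ : NI E₁ F p) (h₂ : NI E₂ F p) (c₁ : Cz F E₁ T₂) (c₂ : Cz F E₂ T₁) :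
    ∃ D : FusionSystem (T₁ ⊔ T₂), CP E₁ E₂ D ∧ NI D F p := by
  haveI := h₁.finite
  haveI := h₂.finite
  obtain ⟨D, hD⟩ := Fus.exists_cp (fun x hx y hy => (c₁.le hy).2 x hx) (inf_comm T₂ T₁ ▸ c₁.central h₁.satE) (c₂.central h₂.satE)
  exact ⟨D, hD, hD.ni h₁ h₂⟩

/-- `C_E(Q)` is normal in `F` for `Q` normal in `F`. -/
theorem NI.ni_nk_bot (h : NI E F p) (hQ : F.IsNormal Q) (hT : Q ≤ T) (hD : IsNK E Q ⊥ D) : NI D F p := by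
  haveI := h.finite
  have hn := h.toWN.normal_inf hQ
  rw [inf_eq_left.2 hT] at hn
  refine (hD.ni_bot h.satE hn).trans h fun {a f P R} ha hf hm => ?_
  obtain ⟨g, h1, h2, h3⟩ := nMor_bot_iff.1 (hD.nMor hf)
  have hq := sc_maps (sc_of_normal hQ) ha.mor hT
  have hs := (ha.homOn.mono h1.le).maps_sup hm hq
  have hU : U = centralizerIn T Q := hD.eq.trans (NK_bot T Q)
  refine hD.mor (fun z hz => ?_) (nMor_bot_iff.2 ⟨a * g * a⁻¹, h.inv.conj ha h1 hs, fun z hz => ?_, fun z hz => ?_⟩)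
  · obtain ⟨x, hx, rfl⟩ := hm.exists_eq hz
    have hx' := hU ▸ hf.le hx
    exact hU ▸ ⟨ha.mem hx'.1, ha.homOn.mem_centralizer hT hq hx'.1 hx'.2⟩
  · simp only [Perm.mul_apply, h2 _ (hm.inv_mem hz)]
  · rw [Perm.mul_apply, Perm.mul_apply, h3 _ (hq.inv_mem hz)]; simp

end Cfsg.Agent.Fus
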