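import Cfsg.Agent.Fus.Fit
import Cfsg.Agent.Fus.Ctl2

/-! Normal subsystems with `p`-solvable automizer quotient. -/

namespace Cfsg.Agent.Fus

open Subgroup Cfsg Cfsg.Agent.Loc Equiv
open Cfsg.FusionSystem (normalizerIn centralizerIn)
open scoped commutatorElement

section grp
variable {G : Type*} [Group G] {p : ℕ} {A B : Subgroup G}

/-- `A / B` is `p`-solvable. -/
def RSolv (p : ℕ) (B A : Subgroup G) : Prop := ∀ K ≤ A, K ≤ OpA p K ⊔ B → K ≤ OppA p K ⊔ B → K ≤ B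

theorem RSolv.mono {A' : Subgroup G} (h : RSolv p B A) (hA : A' ≤ A) : RSolv p B A' := fun K hK => h K (hK.trans hA)

theorem rSolv_of [Fact p.Prime] {X Y : Type*} [Group X] [Group Y] {φ : X →* G} (hφ : Function.Injective φ) (π : X →* Y)
    (h : IsPSolvable p Y) : RSolv p (π.ker.map φ) φ.range := by
  intro K hK h1 h2
  obtain ⟨K, rfl⟩ : ∃ K₀ : Subgroup X, K₀.map φ = K := ⟨_, map_comap_eq_self hK⟩
  rw [← map_OpA hφ, ← Subgroup.map_sup, map_le_map_iff_of_injective hφ] at h1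
  rw [← map_OppA hφ, ← Subgroup.map_sup, map_le_map_iff_of_injective hφ] at h2
  have k : ∀ M : Subgroup X, K ≤ M ⊔ π.ker → K.map π ≤ M.map π := fun M hM => map_le_iff_le_comap.2 (comap_map_eq π M ▸ hM)
  have hθ := homOn_hom π K
  refine map_mono ((map_eq_bot_iff K).1 (eq_bot_of_pSolv (PLocal.pSolv_subgroup h _) (le_antisymm (OpA_le _ _) ((k _ h1).trans ?_))
    (le_antisymm (OppA_le _ _) ((k _ h2).trans ?_))))
  · exact map_le_iff_le_comap.2 (hθ.img_OpA_le fun a => mem_map_of_mem π)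
  · exact map_le_iff_le_comap.2 (hθ.img_OppA_le fun a => mem_map_of_mem π)

theorem exists_pow_mem_OppA [Fact p.Prime] [Finite A] {a : G} (ha : a ∈ A) : ∃ m : ℕ, m.Coprime p ∧ a ^ m ∈ OppA p A := by
  obtain ⟨u, v, hu, hv, h1, h2, e⟩ := exists_pparts (p := p) ha
  refine ⟨_, h2, ?_⟩
  have hc : Commute u v := by
    obtain ⟨i, rfl⟩ := hu
    obtain ⟨j, rfl⟩ := hv
    exact Commute.zpow_zpow_self a i j
  rw [e, hc.mul_pow, pow_orderOf_eq_one, mul_one]
  exact pow_mem (mem_OppA (zpowers_le.2 ha hu) h1) _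

theorem exists_norm' {A V : Type*} [Group A] [Finite A] [CommGroup V] (ρ : A →* MulAut V) (T : Subgroup A) {v : V}
    (hv : ∀ t ∈ T, ρ t v = v) {U : Subgroup V} (hU : ∀ a, v⁻¹ * ρ a v ∈ U) :
    ∃ w, (∀ a, ρ a w = w) ∧ (v ^ T.index)⁻¹ * w ∈ U := by
  haveI := Fintype.ofFinite (A ⧸ T)
  refine ⟨∏ c : A ⧸ T, ρ c.out v, fun a => ?_, ?_⟩
  · rw [map_prod]
    refine Fintype.prod_equiv (MulAction.toPerm a) _ _ fun c => ?_
    obtain ⟨t, ht⟩ := QuotientGroup.mk_out_eq_mul T (a * c.out)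
    have : (MulAction.toPerm a c).out = a * c.out * t := by
      rw [← ht, MulAction.toPerm_apply, ← smul_eq_mul, ← MulAction.Quotient.smul_mk, QuotientGroup.out_eq']
    rw [this, map_mul, map_mul, MulAut.mul_apply, MulAut.mul_apply, hv t t.2]
  · have : (v ^ T.index)⁻¹ = ∏ _c : A ⧸ T, v⁻¹ := by
      rw [Finset.prod_const, Finset.card_univ, ← Nat.card_eq_fintype_card, inv_pow]; rfl
    rw [this, ← Finset.prod_mul_distrib]
    exact prod_mem fun c _ => hU _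

end grp

variable {Ω : Type*} [Group Ω] {S T U P Q R N V W X Y : Subgroup Ω} {p n : ℕ} {F : FusionSystem S}
  {E : FusionSystem T} {L : FusionSystem V} {D : FusionSystem U} {a b f g k l : Perm Ω} {K : Subgroup (Perm Ω)}

theorem rSolv_autGroup [Fact p.Prime] (hT : T ≤ S) (h : E.IsSubsystemOf F) [((E.autGroup T).subgroupOf (F.autGroup T)).Normal]
    (hs : IsPSolvable p (F.autGroup T ⧸ (E.autGroup T).subgroupOf (F.autGroup T))) : RSolv p (AutF E T) (AutF F T) := by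
  have := rSolv_of (ess_aux F hT).1 (QuotientGroup.mk' _) hs
  rwa [(ess_aux F hT).2.1, QuotientGroup.ker_mk', ← map_map, subgroupOf_map_subtype,
    inf_eq_left.2 (autGroup_le_iff.2 (AutF_mono h T))] at this

variable [Finite S] [Fact p.Prime]

open scoped IsMulCommutative in
theorem Sat.CS_le_of_normal (hF : Sat F p) (hQ : F.IsNormal Q) (hZ : centralizerIn S S ≤ Q) :
    centralizerIn S S ≤ F.center ⊔ F.focalSubgroup := fun z hz => by
  haveI := finite_AutF' F hQ.1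
  haveI : IsMulCommutative (centralizerIn Q Q) := ⟨⟨fun a b => Subtype.ext (b.2.2 a a.2.1)⟩⟩
  let ρ : AutF F Q →* MulAut (centralizerIn Q Q) :=
    { toFun a := ((homOn_of_AutF a.2).mono (CS_le _ _)).equiv ((homOn_of_AutF a.2).maps_CS_self (maps_of_AutF a.2))
      map_one' := rfl
      map_mul' _ _ := rfl }
  have hZ' : centralizerIn S S ≤ centralizerIn Q Q := le_inf hZ ((CS_anti S hQ.1).trans (CS_le_centralizer _ _))
  obtain ⟨w, h1, h2⟩ := exists_norm' ρ ((AutK S Q).subgroupOf _) (v := ⟨z, hZ' hz⟩)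
    (fun t ht => Subtype.ext (AutK_fix hz.2 (hZ hz) _ ht)) (U := F.focalSubgroup.subgroupOf _)
    fun a => mem_foc (iso_of_AutF hQ.1 a.2).mor (hZ hz)
  have h4 : w.1 ∈ F.center := mem_center_of_normal hF hQ w.2.1 fun a ha => congrArg Subtype.val (h1 ⟨a, ha⟩)
  obtain ⟨k, hk⟩ := hF.pg ⟨z, hz.1⟩
  refine mem_of_pow_mem (p := p) (k := k) ((Nat.Prime.coprime_iff_not_dvd Fact.out).2
    (hF.syl (fn_of_sc (sc_of_normal hQ))).not_dvd_relIndex).symm ?_ (by rw [show z ^ p ^ k = 1 from congrArg Subtype.val hk]; simp)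
  simpa [relIndex] using (F.center ⊔ F.focalSubgroup).mul_mem (mem_sup_left h4) (mem_sup_right (inv_mem (mem_subgroupOf.1 h2)))

theorem Sat.CS_le_of_odd (hF : Sat F p) (hp : p ≠ 2) : centralizerIn S S ≤ F.center ⊔ F.focalSubgroup := by
  have hn := (chr_ind PLocal.JAF_char hF.pg).le_normalizer
  obtain ⟨N, h1, h2, h3⟩ := hF.exists_nrm (ind_le' _ S) hn
  exact (h2.CS_le_of_normal h3 (CS_le_JA S)).trans (sup_le_sup (center_nrm_eq hF h1 hn fun _ => center_ctl_odd hp hF).le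
    (foc_mono h1.sub))

theorem NI.commutator_CS_le (h : NI E F p) : ⁅centralizerIn S T, centralizerIn S T⁆ ≤ CSE E F p := by
  obtain ⟨D, hD, -⟩ := exists_centralizerSystem F h.le
  exact (commutator_le_foc D).trans (h.foc_le_CSE hD)

theorem NI.CS_le_of_odd (h : NI E F p) (hp : p ≠ 2) (hC : CSE E F p ≤ T) : centralizerIn S T ≤ T := fun x hx => by
  have hR : T ⊔ zpowers x ≤ S := sup_le h.le ((zpowers_le (G := Ω)).2 hx.1)
  haveI := finite_of_le hR
  obtain ⟨D, hD⟩ := h.exists_pd le_sup_left hR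
  refine (sup_le ?_ ?_ : D.center ⊔ D.focalSubgroup ≤ T) (hD.sat.CS_le_of_odd hp ⟨mem_sup_right (mem_zpowers x), ?_⟩)
  · exact (h.le_CSE (((cz_of_central (central_center D)).sub hD.ppi.sub).up hD.sub)).trans hC
  · refine hD.sat.foc_eq.le.trans (sup_le hD.ppi.hyp (commutator_sup_le (le_sup_right.trans (hR.trans (sc_le_normalizer h.sc))) ?_))
    exact (commutator_eq_bot_iff_le_centralizer.2 (le_centralizer (zpowers x))).le.trans bot_le
  · exact le_centralizer_iff.1 (sup_le (le_centralizer_iff.1 ((zpowers_le (G := Ω)).2 hx.2)) (le_centralizer (zpowers x)))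
      (mem_zpowers x)

omit [Finite S] [Fact p.Prime] in
/-- A normal subsystem equal to both of its residuals. -/
structure Pf (L : FusionSystem V) (F : FusionSystem S) (p : ℕ) : Prop where
  ni : NI L F p
  hyp : L.hyperfocalSubgroup p = V
  op : L.IsPPrimeResidual p L

theorem Pf.sub_ppi (h : Pf L F p) (hD : PPI D F p) : L.IsSubsystemOf D :=
  hD.sub_of_le h.ni.satE h.ni.sub (h.hyp.ge.trans ((hyp_mono h.ni.sub).trans hD.hyp))

theorem WN.sub_of_op (h : WN E F p) (hF : F.IsPPrimeResidual p F) (e : T = S) : F.IsSubsystemOf E := by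
  subst e
  have := h.satF.ni_refl.toWN.OP_le h
  rwa [← h.satF.eq_OP hF] at this

theorem Pf.sub_of_le (h : Pf L F p) {D : FusionSystem S} (hD : NI D F p) : L.IsSubsystemOf D := by
  obtain ⟨M, hM⟩ := h.ni.exists_meet hD
  haveI := h.ni.finite
  exact sub_trans (hM.ni₁.toWN.sub_of_op h.op (inf_eq_left.2 h.ni.le)) hM.ni₂.sub

theorem Pf.of_sub (h : Pf L F p) (hD : Sat D p) (h1 : L.IsSubsystemOf D) (h2 : D.IsSubsystemOf F) : Pf L D p := by
  haveI := finite_of_le (sub_le h2)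
  haveI := h.ni.finite
  have := (h.ni.toWN.of_sub hD h1 h2).ni_OP
  rw [← h.ni.satE.eq_OP h.op] at this
  exact ⟨this, h.hyp, h.op⟩

theorem Lim.pf (h : Lim p L E) (hE : NI E F p) : Pf L F p := by
  induction h with
  | stable h1 h2 => exact ⟨hE, h1, h2⟩
  | step D D' h1 h2 _ ih =>
    have k := hE.pres h1
    haveI := k.finite
    exact ih (k.satE.eq_OP h2 ▸ k.ni_OP)

theorem Lim.sub_of_pf (h : Lim p D F) (hL : Pf L F p) : L.IsSubsystemOf D := by
  rename_i hfin _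
  revert hfin
  induction h with
  | stable => intro _; exact hL.ni.sub
  | step D D' h1 h2 _ ih =>
    intro _
    have k := h1.ni hL.ni.satF
    haveI := k.finite
    have k1 := hL.of_sub k.satE (hL.sub_ppi h1.ppi) k.sub
    have k2 : NI D' D p := k.satE.eq_OP h2 ▸ k.satE.ni_OP
    exact ih (k1.of_sub k2.satE (k1.sub_of_le k2) k2.sub)

theorem Lim.same_of_sub (h : Lim p L F) (hE : NI E F p) (hD : Lim p D E) (h1 : L.IsSubsystemOf E) : Same L D :=
  haveI := hE.finite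
  Fus.same_of_sub (hD.sub_of_pf ((h.pf hE.satF.ni_refl).of_sub hE.satE h1 hE.sub)) (h.sub_of_pf (hD.pf hE))

theorem NI.of_ppi (h : NI E F p) (hD : PPI D F p) (sD : Sat D p) (hT : T ≤ U) : NI E D p := by
  haveI := finite_of_le hD.le
  haveI := h.finite
  refine (h.toWN.of_sub sD (hD.sub_of_le h.satE h.sub hT) hD.sub).ni_of_pprime fun a ha hp => ?_
  obtain ⟨g, h1, h2, h3, h4⟩ := h.ext_pprime_CS (centric_self E) ha hp (V := T ⊔ centralizerIn U T) le_sup_left
    (sup_le_sup_left (inf_le_inf_right _ hD.le) _)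
  exact ⟨g, hD.mor _ (sup_CS_le hT) g h1 h2, h3, h4.mono le_sup_right⟩

omit [Fact p.Prime] in
theorem res_mem_AutF (hT : F.StronglyClosed T) (hg : Mor F P g) (hP : T ≤ P) : res T g ∈ AutF F T :=
  Iso.res_mem ⟨hg.mono hP, sc_maps hT hg hP⟩

theorem NI.step_ppi (h : NI E F p) : ∃ (U : Subgroup Ω) (D : FusionSystem U), Sat D p ∧ PPI D F p ∧ NI E D p ∧
    AutF D T ≤ OpA p (AutF F T) ⊔ AutF E T := by
  have hn := sc_le_normalizer h.sc
  haveI := h.finite
  have hT : T ≤ NK S T (OpA p (AutF F T) ⊔ AutF E T) := Inn_le_NK h.le ((AutK_le_AutF E le_rfl le_rfl).trans le_sup_right)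
  obtain ⟨D, h1, h2⟩ := h.satF.exists_ppi (NK_le S T _) (h.satF.hyp_le_of_ge h.sc hT fun P hP hTP a ha hp x hx => by
    have hi := iso_of_AutF hP ha
    have hm := sc_maps h.sc hi.mor hTP
    have k1 := hn (hP hx)
    have k2 := hn (hP (hi.mem hx))
    refine ⟨⟨S.mul_mem (S.inv_mem (hP hx)) (hP (hi.mem hx)), Subgroup.mul_mem _ (Subgroup.inv_mem _ k1) k2⟩, mem_sup_left ?_⟩
    have k3 := mem_OpA (res_mem_AutF h.sc hi.mor hTP) (coprime_res hm hp)
    rw [(homOn_cr T).map_inv_mul k1 k2, ← hi.homOn.conj_cr hTP hm hx k1, ← (supp_cr T x).conj_congr hm fun y hy => res_apply hm hy]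
    have := (OpA p (AutF F T)).mul_mem (conj_mem_of_mem_normalizer (le_normalizer_OpA p _
      (inv_mem (cr_mem_AutF F h.le ⟨hP hx, k1⟩))) k3) (inv_mem k3)
    simpa [mul_assoc] using this)
  haveI := finite_NK (S := S) T (OpA p (AutF F T) ⊔ AutF E T)
  have h3 := h.of_ppi h2 h1 hT
  haveI := finite_AutF D T
  refine ⟨_, D, h1, h2, h3, ?_⟩
  rw [← OpA_sup_syl (h1.syl (fn_of_sc h3.sc)), AutK_NK]
  exact sup_le ((OpA_mono (AutF_mono h2.sub T)).trans le_sup_left) inf_le_right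

theorem NI.step_ppr (h : NI E F p) : ∃ D : FusionSystem S, NI D F p ∧ NI E D p ∧ AutF D T ≤ OppA p (AutF F T) ⊔ AutF E T := by
  have hF := h.satF
  haveI := h.finite
  haveI := finite_AutF F T
  set K := OppA p (AutF F T) ⊔ AutF E T
  have hK : K ≤ AutF F T := sup_le (OppA_le _ _) (AutF_mono h.sub T)
  have hn : AutF F T ≤ normalizer (K : Set (Perm Ω)) := fun a ha =>
    mem_normalizer_sup (le_normalizer_OppA p _ ha) (h.inv.AutF_normal le_rfl ha)
  have up : ∀ P, E.IsCentric P → ∀ a ∈ AutF F T, Mor E P a → a ∈ K := fun P hP a ha hf =>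
    let ⟨_, hm, k⟩ := exists_pow_mem_OppA (p := p) ha
    h.inv.up h.satE hK hn le_sup_right hm P hP.1 hP a ha (mem_sup_left k) hf
  have hC := closed_KE h.sc h.inv.ainv hK
  have h0 : ∀ P (f : Perm Ω), Mor (E0 F p) P f → KE K E P f := fun P f hf => by
    refine E0_ind (hC.sub (E0_sub F p)) (fun g hg => KE.of_mem (mem_sup_left (le_OppA (AutK_le_AutF F le_rfl h.le)
      (isPGroup_AutK hF.pg T) (cr_mem_AutK hg (sc_le_normalizer h.sc hg)))) E fun x hx =>
        (cr_apply (sc_le_normalizer h.sc hg) hx.2).symm) (fun Q h1 h2 a ha ⟨j, hj⟩ => ?_) hf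
    have hi := iso_of_AutF h1.1 ha
    obtain ⟨k, hk, k1⟩ := h.inv.ke hi.mor
    refine ⟨k, ?_, k1⟩
    obtain ⟨m, hm, k2⟩ := exists_pow_mem_OppA (p := p) hk
    refine mem_of_pow_mem hm (k := j) (mem_sup_left k2) (up _ (h.toWN.centric_inf h1 h2) _ (pow_mem hk _) ?_)
    have k3 : ∀ n : ℕ, Mor E (Q ⊓ T) (⇑((k ^ n)⁻¹ * a ^ n)) := fun n => by
      induction n with
      | zero => simpa using mor_one E (inf_le_right : Q ⊓ T ≤ T)
      | succ n ih =>
        rw [pow_succ', pow_succ']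
        exact AInv.KE_mul h.inv.ainv h.le (pow_mem hk n) ih k1 fun _ => ((sc_maps_inf h.sc hi).pow n).mem
    have k4 := k3 (p ^ j)
    rw [hj, mul_one] at k4
    have k5 := iso_of_AutF h.le (pow_mem hk (p ^ j))
    have := h.inv.conj k5.symm.symm (k4.inv k4.maps_img) (k4.maps_img.symm.congr fun _ _ => by simp)
    simpa using this
  have hθ := (homOn_res T).mono fun a (ha : a ∈ AutF F S) => sc_maps h.sc (iso_of_AutF le_rfl ha).mor h.le
  have hA : ∀ a ∈ AutF F S, res T a ∈ AutF F T := fun a ha => res_mem_AutF h.sc (iso_of_AutF le_rfl ha).mor h.le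
  have h1 : Aut0 F p ≤ hθ.pre K := (closure_le _).2 fun a ⟨ha, P, k1, k2, k3⟩ => by
    obtain ⟨k, hk, k4⟩ := h0 P a k3
    refine ⟨ha, (K.mul_mem_cancel_left (K.inv_mem hk)).1 (up _ (h.toWN.centric_inf k1 k2) _
      (mul_mem (inv_mem (hK hk)) (hA a ha)) (k4.congr fun x hx => ?_))⟩
    rw [Perm.mul_apply, Perm.mul_apply, res_apply (sc_maps h.sc (iso_of_AutF le_rfl ha).mor h.le) hx.2]
  have h2 := hF.ni_MG (hθ.pre_le K) h1 (hθ.le_normalizer_pre le_rfl (img_le_iff.2 fun a ha => hn (hA a ha)))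
  have h3 : ∀ P, F.StronglyClosed P → T ≤ P → ∀ g, Iso F g P P → res T g ∈ K → Mor (MG F p (hθ.pre K)) P g := by
    intro P hP hTP g hg hgK
    obtain ⟨n, n1, u, u1, u2, u3⟩ := hF.frattini (fn_of_sc hP) (OppA_le p _) (le_normalizer_OppA p _)
      (le_OppA (AutK_le_AutF F le_rfl hP.1) (isPGroup_AutK hF.pg P)) hg.res_mem
    rw [NS_eq_of_le (sc_le_normalizer hP)] at u1
    have n2 := iso_of_AutF hP.1 (OppA_le p _ n1)
    have m1 := sc_maps h.sc n2.mor hTP
    have m2 := sc_maps h.sc u1.mor h.le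
    have n3 : res T n ∈ K := mem_sup_left (((homOn_res T).mono fun a (ha : a ∈ AutF F P) =>
      sc_maps h.sc (iso_of_AutF hP.1 ha).mor hTP).img_OppA_le
        (fun a ha => res_mem_AutF h.sc (iso_of_AutF hP.1 ha).mor hTP) n n1)
    have u4 : res S u ∈ hθ.pre K := ⟨u1.res_mem, (K.mul_mem_cancel_left n3).1 (by
      rw [res_res u1.maps m2 h.le, ← res_mul m1 m2, res_congr (sc_maps h.sc hg.mor hTP) fun x hx =>
        (u3 x (hTP hx)).symm.trans (res_apply hg.maps (hTP hx))]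
      exact hgK)⟩
    refine ((iso_of_AutF hP.1 (h2.toWN.ppr.OppA_le hP.1 n1)).mor.mul ((mor_MG_of_mem (hθ.pre_le K) u4).mono hP.1) fun x hx =>
      (res_apply u1.maps (hP.1 hx)).symm ▸ u2.mem hx).congr fun x hx => ?_
    rw [Perm.mul_apply, res_apply u1.maps (hP.1 hx), ← u3 x hx, res_apply hg.maps hx]
  have h4 : E.IsSubsystemOf (MG F p (hθ.pre K)) := sub_iff_perm.2 (h.satE.alperin_p (closed_mor _) (fun a ha =>
    h3 T h.sc le_rfl a ((iso_of_AutF le_rfl ha).sub h.sub) (mem_sup_right ((supp_of_AutF ha).res_eq.symm ▸ ha)))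
    fun P hP a ha hp => h2.toWN.ppr.mor P ((h.satE.ess_lt hP).le.trans h.le) a (AutF_mono h.sub P ha) hp)
  refine ⟨_, h2, ⟨h.toWN.of_sub h2.satE h4 h2.sub, fun a ha => ?_⟩, fun a ha => ?_⟩
  · obtain ⟨b, b1, b2, b3⟩ := h.ext a ha
    have hm := (maps_of_AutF ha).congr b2
    exact ⟨b, h3 _ (hF.sc_sup_CS h.sc) le_sup_left b (b1.iso_sup_CS hm) (mem_sup_right
      ((res_eq_iff hm (supp_of_AutF ha)).2 b2 ▸ ha)), b2, b3⟩
  · obtain ⟨b, hb, k1⟩ := (mor_MG (hθ.pre_le K)).1 (iso_of_AutF h.le ha).mor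
    obtain ⟨k, hk, k2⟩ := h0 T _ k1
    have hb' := iso_of_AutF le_rfl hb.1
    have m := sc_maps h.sc hb'.mor h.le
    have ha' := AutF_mono h2.sub T ha
    refine (K.mul_mem_cancel_left (K.inv_mem hb.2)).1 ((K.mul_mem_cancel_left (K.inv_mem hk)).1 (up T (centric_self E) _
      (mul_mem (inv_mem (hK hk)) (mul_mem (inv_mem (hA b hb.1)) ha')) ((k2.mono (le_inf le_rfl le_rfl)).congr fun x hx => ?_)))
    simp only [Perm.mul_apply]
    rw [res_inv_apply m ((maps_of_AutF ha').mem hx)]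

theorem NI.cu_CSE (h : NI E F p) (hg : Mor F P g) (hT : T ≤ P) (e : ∀ x ∈ T, g x = x) : CU (CSE E F p) (centralizerIn P T) g := by
  obtain ⟨D, hD, -⟩ := exists_centralizerSystem F h.le
  exact fun x hx => h.foc_le_CSE hD (mem_foc (hD.mor (inf_le_inf_right _ hg.le)
    (nMor_bot_iff.2 ⟨g, hg.mono (sup_le (CS_le P T) hT), fun _ _ => rfl, e⟩)) hx)

omit [Finite S] [Fact p.Prime] in
theorem exists_mul_CS (hT : T ≤ P) (hP : P ≤ T ⊔ centralizerIn S T) {x : Ω} (hx : x ∈ P) :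
    ∃ t ∈ T, ∃ c ∈ centralizerIn P T, t * c = x := by
  obtain ⟨t, ht, c, hc, rfl⟩ := mem_sup_CS.1 (hP hx)
  exact ⟨t, ht, c, ⟨(P.mul_mem_cancel_left (hT ht)).1 hx, hc.2⟩, rfl⟩

theorem NI.ppi_of_le (h : NI E F p) (hC : CSE E F p ≤ T) (hA : AutF F T ≤ AutF E T) : PPI E F p := by
  haveI := h.finite
  have hS : S ≤ T ⊔ centralizerIn S T := by
    rw [← NK_Inn h.le]
    refine (NK_eq_of_le (sc_le_normalizer h.sc) ?_).ge
    exact (h.toWN.inf_AutK (fn_of_sc h.sc) le_rfl).trans' (le_inf le_rfl ((AutK_le_AutF F le_rfl h.le).trans hA))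
  refine ⟨h.sub, h.satF.hyp_le_of_ge h.sc le_rfl fun P hP hT a ha hp => ?_, fun P hP a ha _ => ?_⟩
  · have hi := iso_of_AutF hP ha
    have hm := sc_maps h.sc hi.mor hT
    obtain ⟨g, g1, g2⟩ := h.exists_good (centric_self E) (hA (res_mem_AutF h.sc hi.mor hT)) (coprime_res hm hp) hT (hP.trans hS)
    have g3 := iso_of_AutF hP g1.mem
    have e : ∀ x ∈ T, (g⁻¹ * a) x = x := fun x hx => by
      rw [Perm.mul_apply, Perm.inv_eq_iff_eq, g2 x hx, res_apply hm hx]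
    have k := h.cu_CSE (hi.trans g3.symm).mor hT e
    have k1 : CU T P (g⁻¹ * a) := fun x hx => by
      obtain ⟨t, ht, c, hc, rfl⟩ := exists_mul_CS hT (hP.trans hS) hx
      rw [(hi.trans g3.symm).homOn t (hT ht) c hc.1, e t ht]
      simpa [mul_assoc] using hC (k c hc)
    simpa [CU] using g1.cu.mul k1 fun _ => (hi.trans g3.symm).mem
  · obtain ⟨b, b1, b2⟩ := h.inv.fra hP (iso_of_AutF (hP.trans h.le) ha).mor
    simpa using ((iso_of_AutF le_rfl (hA b1.res_mem)).mor.congr fun x hx => (res_apply b1.maps hx).symm).mul b2 fun _ => b2.mem_S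

theorem Pf.sub_of_rSolv (hL : Pf L F p) (h : NI E F p) (hC : CSE E F p ≤ T) (hs : RSolv p (AutF E T) (AutF F T)) :
    L.IsSubsystemOf E := by
  refine sub_induction (C := fun {S} F => Pf L F p → NI E F p → CSE E F p ≤ T → RSolv p (AutF E T) (AutF F T) → L.IsSubsystemOf E)
    (fun S _ F ih hL h hC hs => ?_) F hL h hC hs
  have key : ∀ (U : Subgroup Ω) (D : FusionSystem U), NI E D p → D.IsSubsystemOf F → L.IsSubsystemOf D →
      ¬ AutF F T ≤ AutF D T → L.IsSubsystemOf E := fun U D h1 h2 h3 h4 =>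
    haveI := finite_of_le (sub_le h2)
    ih U D h2 (fun k => h4 (AutF_mono k T)) (hL.of_sub h1.satF h3 h2) h1
      ((h.le_CSE (h1.cz_CSE.up h2)).trans hC) (hs.mono (AutF_mono h2 T))
  by_cases k1 : AutF F T ≤ OpA p (AutF F T) ⊔ AutF E T
  · by_cases k2 : AutF F T ≤ OppA p (AutF F T) ⊔ AutF E T
    · exact hL.sub_ppi (h.ppi_of_le hC (hs _ le_rfl k1 k2))
    obtain ⟨D, h1, h2, h3⟩ := h.step_ppr
    exact key _ D h2 h1.sub (hL.sub_of_le h1) fun k => k2 (k.trans h3)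
  obtain ⟨U, D, -, h1, h2, h3⟩ := h.step_ppi
  exact key _ D h2 h1.sub (hL.sub_ppi h1) fun k => k1 (k.trans h3)

theorem Pd.mor_of_z {D : FusionSystem R} (k : Pd D E F p) (h : NI E F p) (hR : F.StronglyClosed R) (hP : P ≤ R)
    (hf : ZG F p S (fun V => V ≤ S ∧ E.IsCentric (V ⊓ T)) (BE E F) P f) : Mor D P f := by
  refine (hf _ (closed_mor_inf hR D) (mor_one D inf_le_right) fun V b hV hb hp => ?_).mono (le_inf le_rfl hP)
  have hm := sc_maps_inf hR (iso_of_AutF hV.1 hb.1)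
  exact (k.gen _ inf_le_right (by rw [inf_assoc, inf_eq_right.2 k.ppi.le]; exact hV.2) _
    (res_mem_BE hV.1 hb inf_le_left hm) (coprime_res hm hp)).congr fun x hx => (res_apply hm hx).symm

theorem Pd.ainv {D : FusionSystem R} (k : Pd D E F p) (h : NI E F p) : AInv D F R := fun {a f P Q} ha hf hm => by
  haveI := finite_of_le ha.le
  refine hm.img_eq ▸ (k.sat.alperin_p' (closed_conj D D ha.homOn) (fun t ht => ⟨le_rfl, mor_conj_cp ha.homOn (fun _ => ha.mem) ht⟩)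
    (fun P hP b hb hc => ?_) P f hf).2
  obtain ⟨h1, h2, h3⟩ := k.sat.base_fcr hP
  have hi := ha.restrict h1.1
  have hn := k.ni h.toWN
  refine ⟨h1.1, k.gen _ (img_le_iff.2 fun x hx => ha.mem (h1.1 hx)) ?_ _
    (h.inv.conj_BE hi (k.ppi.mem_BE hn.sc k.sub h1.1 hb hc)) (coprime_conj hc a)⟩
  exact h.inv.centric_iso (hn.toWN.centric_inf h2 h3) ⟨hi.mor.mono inf_le_left, sc_maps_inf h.sc hi⟩

/-- The normal subsystem `(E * C_F(E)) C_S(T)`. -/
theorem NI.exists_env (h : NI E F p) : ∃ D : FusionSystem (T ⊔ centralizerIn S T), NI D F p ∧ E.IsSubsystemOf D ∧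
    AutF D T = AutF E T ∧ ∀ P (g : Perm Ω), Mor F P g → T ≤ P → P ≤ T ⊔ centralizerIn S T → (∀ x ∈ T, g x = x) → Mor D P g := by
  have hF := h.satF
  haveI := h.finite
  obtain ⟨Z, hZ⟩ := h.exists_isCF
  haveI := hZ.ni.finite
  obtain ⟨M, hM, nM⟩ := h.exists_cp hZ.ni h.cz_CSE ⟨h.cz_CSE.le_CS h.le, hZ.mor⟩
  have hV := hF.sc_sup_CS h.sc
  haveI := finite_of_le hV.1
  haveI := nM.finite
  have hUV : T ⊔ CSE E F p ≤ T ⊔ centralizerIn S T := sup_le_sup_left (CSE_le E F p) T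
  obtain ⟨D, hD⟩ := nM.exists_pd hUV hV.1
  have key : ∀ P (g : Perm Ω), Mor F P g → T ≤ P → P ≤ T ⊔ centralizerIn S T → (∀ x ∈ T, g x = x) → Mor D P g := by
    obtain ⟨N, hN⟩ := exists_isNK F h.le (AutK T T) (NK_Inn h.le).symm
    have hI := AutK_le_AutF F h.le h.le
    have sN := hN.sat hF (fkn_of_fc_syl hF.pg (hF.fc_of_fn (fn_of_sc h.sc)) (by
      rw [inf_eq_right.2 (AutK_mono h.le T), inf_eq_right.2 hI]; exact sylIn_self (isPGroup_AutK h.satE.pg T)))
    have k0 : ∀ P (g : Perm Ω), Mor F P g → T ≤ P → P ≤ T ⊔ centralizerIn S T → (∀ x ∈ T, g x = x) → Mor N P g :=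
      fun P g hg h1 h2 e => by
        have hm : Maps g T T := (maps_one T).congr e
        exact hN.mor_of_le hg h2 h1 hm ((res_eq_one_iff hm).2 e ▸ one_mem _)
    suffices N.IsSubsystemOf D from fun P g hg h1 h2 e => (k0 P g hg h1 h2 e).sub this
    refine sub_iff_perm.2 (sN.alperin_p' (closed_mor D) (fun t ht => mor_cp D le_rfl ht) fun P hP b hb hp => ?_)
    obtain ⟨h1, h2, h3⟩ := sN.base_fcr hP
    have hTP := normal_le_cr sN.pg (hN.normal le_sup_left) h2 h3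
    have hi := iso_of_AutF h1.1 hb
    have hi' := hi.sub hN.sub
    have hm := sc_maps h.sc hi'.mor hTP
    have e : ∀ x ∈ T, b x = x := (res_eq_one_iff hm).1 (eq_one_of_pprime_of_pgroup (isPGroup_AutK h.satE.pg T)
      (hN.AutF_self le_sup_left ▸ Iso.res_mem ⟨hi.mor.mono hTP, hm⟩ : _ ∈ AutF F T ⊓ AutK T T).2 (coprime_res hm hp))
    have e1 : P ⊓ (T ⊔ CSE E F p) = T ⊔ P ⊓ CSE E F p := le_antisymm (fun x hx => by
      obtain ⟨t, ht, c, hc, rfl⟩ := hM.mem hx.2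
      exact mul_mem (mem_sup_left ht) (mem_sup_right ⟨(P.mul_mem_cancel_left (hTP ht)).1 hx.1, hc⟩))
      (sup_le (le_inf hTP le_sup_left) (inf_le_inf_left P le_sup_right))
    have m := sc_maps_inf h.sc_CSE hi'
    refine hD.gen P h1.1 (e1 ▸ centric_iff.2 ⟨sup_le_sup_left inf_le_right T, fun f W hf y hy => ?_⟩) b
      ⟨AutF_mono hN.sub P hb, e1 ▸ hM.intro (mor_id E le_rfl) (f₂ := b) ?_ fun x hx y hy => ?_, fun x hx => ?_⟩ hp
    · obtain ⟨t, ht, c, hc, rfl⟩ := hM.mem hy.1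
      have f1 := sc_maps hM.sc₁ hf.mor le_sup_left
      have f2 := hf.restrict le_sup_right
      have f3 : T ≤ W := (f1.le_iff hf.maps).2 le_sup_left
      have f4 : img f (P ⊓ CSE E F p) ≤ W := (f2.maps.le_iff hf.maps).2 le_sup_right
      have f5 := (hM.symm.mor₁ inf_le_right).1 f2.mor
      refine W.mul_mem (f3 ht) (f4 (((sN.tc_inf (sc_sub' hN.sub h.sc_CSE (le_sup_right.trans hUV)) h2 h3).2 f _
        ⟨hN.mor (inf_le_left.trans h1.1) ((hZ.mor _ f f5).mono_K bot_le), f2.maps⟩) ⟨hc, ?_⟩))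
      refine (Subgroup.mul_mem_cancel_left _ (mem_centralizer_iff.2 fun z hz => ?_)).1 (centralizer_le f4 hy.2)
      exact (hM.comm t ht z ((img_le_iff.2 fun _ => f5.mem_S) hz)).symm
    · refine (hZ.pp _ inf_le_right _ (Iso.res_mem ⟨hi'.mor.mono inf_le_left, m⟩) (coprime_res m hp) (nMor_bot_iff.2
        ⟨b, hi'.mor.mono (sup_le inf_le_left hTP), fun x hx => (res_apply m hx).symm, e⟩)).congr fun x hx => (res_apply m hx).symm
    · rw [hi.homOn x (hTP hx) y hy.1, e x hx]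
    · obtain ⟨t, ht, c, hc, rfl⟩ := exists_mul_CS hTP h1.1 hx
      rw [hi.homOn t (hTP ht) c hc.1, e t ht]
      simpa [mul_assoc] using mem_sup_right (S := T) (h.cu_CSE hi'.mor hTP e c hc)
  have hw : WN D F p := by
    refine ⟨hD.sat, hF, hD.sub, hV, hD.ainv nM, fun {P f} hP hf => ?_⟩
    obtain ⟨k, k1, k2⟩ := nM.tg.fac hf
    rw [inf_eq_left.2 hf.le] at k1 k2
    have hT : T ≤ T ⊔ CSE E F p ⊔ P := le_sup_left.trans le_sup_left
    have m := sc_maps h.sc k1 hT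
    obtain ⟨l, l1, l2⟩ := hF.ext_CS (hF.fc_of_fn (fn_of_sc h.sc)) ⟨k1.mono hT, m⟩
    rw [sup_comm] at l1
    have l3 := l1.iso_sup_CS (m.congr l2)
    have k3 := key _ (l⁻¹ * k) (l3.symm.mor.mul k1 fun x hx => sc_mem hV k1 hx (sup_le hUV hP hx)) hT (sup_le hUV hP)
      fun x hx => by rw [Perm.mul_apply, ← l2 x hx]; simp
    exact ⟨l, l3, by simpa [mul_assoc] using k3.mul (hD.mor_of_z nM hV hP k2) fun _ => (nM.tg.zcu k2).mem_sup⟩
  have h1 := sub_trans hM.sub₁ hD.ppi.sub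
  haveI := finite_AutF D T
  refine ⟨D, hw.ni_of_CS_le ((CS_anti S le_sup_left).trans le_sup_right), h1, le_antisymm ?_ (AutF_mono h1 T), key⟩
  rw [← OpA_sup_syl (hD.sat.syl (fn_of_sc (sc_sub' hD.sub h.sc le_sup_left)))]
  refine sup_le ((OpA_le_AutF_iff le_rfl).2 fun a ha hp => (hM.mor₁ le_rfl).1 (hD.ppi.mor T le_sup_left a ha hp)) ?_
  rw [← NK_Inn h.le, AutK_NK]
  exact inf_le_right.trans (AutK_le_AutF E le_rfl le_rfl)

theorem Pf.sub_env (hL : Pf L F p) (h : NI E F p) (hs : RSolv p (AutF E T) (AutF F T)) {D : FusionSystem (T ⊔ centralizerIn S T)}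
    (hD : NI D F p) (h1 : AutF D T = AutF E T)
    (h2 : ∀ P (g : Perm Ω), Mor F P g → T ≤ P → P ≤ T ⊔ centralizerIn S T → (∀ x ∈ T, g x = x) → Mor D P g) :
    L.IsSubsystemOf D := by
  haveI := hD.finite
  refine hL.sub_of_rSolv hD ((CSE_le D F p).trans ((CS_anti S le_sup_left).trans le_sup_right)) fun K hK k1 k2 a ha => ?_
  have hm : ∀ a ∈ AutF F (T ⊔ centralizerIn S T), Maps a T T := fun a ha => sc_maps h.sc (iso_of_AutF hD.le ha).mor le_sup_left
  have hθ := (homOn_res T).mono hm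
  have hT := sc_sub' hD.sub h.sc le_sup_left
  have hB : ∀ M ≤ K, K ≤ M ⊔ AutF D (T ⊔ centralizerIn S T) → img (res T) K ≤ img (res T) M ⊔ AutF D T := fun M hM k =>
    (img_mono _ k).trans (((hθ.mono (sup_le (hM.trans hK) (AutF_mono hD.sub _))).img_sup).le.trans (sup_le_sup_left
      (img_le_iff.2 fun a ha => res_mem_AutF hT (iso_of_AutF le_rfl ha).mor le_sup_left) _))
  have hθ' := hθ.mono hK
  have hI : ∀ a ∈ K, res T a ∈ img (res T) K := fun a => mem_img_of_mem _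
  have k3 : res T a ∈ AutF D T := h1.ge (hs _ (img_le_iff.2 fun a ha => res_mem_AutF h.sc (iso_of_AutF hD.le (hK ha)).mor le_sup_left)
    ((hB _ (OpA_le p K) k1).trans (sup_le_sup (img_le_iff.2 (hθ'.img_OpA_le hI)) h1.le))
    ((hB _ (OppA_le p K) k2).trans (sup_le_sup (img_le_iff.2 (hθ'.img_OppA_le hI)) h1.le)) (hI a ha))
  obtain ⟨g, g1, g2⟩ := hD.satE.ext_CS (hD.satE.fc_of_fn (fn_of_sc hT)) (iso_of_AutF le_sup_left k3)
  have g3 := (g1.mono (sup_le le_sup_right (le_sup_of_le_left (le_inf le_sup_right (CS_le_centralizer S T))))).iso_S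
  have ha' := iso_of_AutF hD.le (hK ha)
  have g4 := h2 _ _ (ha'.trans (g3.sub hD.sub).symm).mor le_sup_left le_rfl fun x hx => by
    rw [Perm.mul_apply, Perm.inv_eq_iff_eq, g2 x hx, res_apply (hm a (hK ha)) hx]
  exact (mem_AutF le_rfl).2 ⟨by simpa using g3.mor.mul g4 fun _ => g4.mem_S, supp_of_AutF (hK ha)⟩

end Cfsg.Agent.Fus
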