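import Cfsg.Agent.Small.F24C
import Cfsg.Agent.Fischer.Loc
import Cfsg.Agent.Known.Fi23Out
import Cfsg.Agent.Spor.Fi24Card

/-! The outer automorphism group of `Fi24'` (helper26): every automorphism of the commutator subgroup `L` of a group
with `B24 D` is induced by conjugation (`FiOut.PA.inner`), `FiOut.out`. -/

set_option autoImplicit false

namespace Cfsg.Agent.Fus.FiOut

open Subgroup Cfsg.Agent.Fischer
open scoped commutatorElement

variable {G : Type*} [Group G] {D : Set G} {b : G → G}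

/-- `b` is an injective endomorphism of the commutator subgroup. -/
structure PA (b : G → G) : Prop where
  mem : ∀ {x}, x ∈ commutator G → b x ∈ commutator G
  mul : ∀ {x y}, x ∈ commutator G → y ∈ commutator G → b (x * y) = b x * b y
  inj : ∀ {x y}, x ∈ commutator G → y ∈ commutator G → b x = b y → x = y

def K (l : List G) : Subgroup G := commutator G ⊓ centralizer {y | y ∈ l}

theorem mem_K {l : List G} {g : G} : g ∈ K l ↔ g ∈ commutator G ∧ ∀ a ∈ l, Commute g a := and_congr_right' mem_cent_list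

theorem exists_phi {A B : Type*} [Group A] [Group B] [Finite B] {π : A →* B} (hs : Function.Surjective π)
    (hk : π.ker = center A) (γ : MulAut A) : ∃ φ : MulAut B, ∀ a, π (γ a) = φ (π a) := by
  have h1 : π.ker ≤ (π.comp γ.toMonoidHom).ker := fun a ha => by
    rw [hk, mem_center_iff] at ha
    show γ a ∈ π.ker
    rw [hk, mem_center_iff]
    intro g; obtain ⟨g, rfl⟩ := γ.surjective g
    rw [← map_mul, ← map_mul, ha]
  obtain ⟨ψ, h2⟩ : ∃ ψ : B →* B, ∀ a, ψ (π a) = π (γ a) :=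
    ⟨_, π.liftOfRightInverse_comp_apply _ (Function.rightInverse_surjInv hs) ⟨_, h1⟩⟩
  refine ⟨.ofBijective ψ (Finite.surjective_iff_bijective.1 fun y => ?_), fun a => (h2 a).symm⟩
  obtain ⟨a, rfl⟩ := (hs.comp γ.surjective) y
  exact ⟨_, h2 a⟩

namespace PA
variable (p : PA b)
include p

theorem conj (g : G) : PA fun x => g * b x * g⁻¹ :=
  ⟨fun h => (inferInstance : (commutator G).Normal).conj_mem _ (p.mem h) g, fun h h' => by simp [p.mul h h', mul_assoc],
    fun h h' e => p.inj h h' ((conj_inj g).1 e)⟩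

theorem one : b 1 = 1 := by simpa using p.mul (one_mem _) (one_mem _)

theorem inv {x : G} (h : x ∈ commutator G) : b x⁻¹ = (b x)⁻¹ :=
  eq_inv_of_mul_eq_one_left (by rw [← p.mul (inv_mem h) h, inv_mul_cancel, p.one])

theorem comm {x y : G} (h : x ∈ commutator G) (h' : y ∈ commutator G) (c : Commute x y) : Commute (b x) (b y) := by
  rw [Commute, SemiconjBy, ← p.mul h h', ← p.mul h' h, c.eq]

def comap (H : Subgroup G) : Subgroup G where
  carrier := {x | x ∈ commutator G ∧ b x ∈ H}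
  one_mem' := ⟨one_mem _, by rw [p.one]; exact one_mem _⟩
  mul_mem' := fun h h' => ⟨mul_mem h.1 h'.1, by rw [p.mul h.1 h'.1]; exact mul_mem h.2 h'.2⟩
  inv_mem' := fun h => ⟨inv_mem h.1, by rw [p.inv h.1]; exact inv_mem h.2⟩

theorem restrict [Finite G] {H : Subgroup G} (hL : H ≤ commutator G) (h : H ≤ p.comap H) :
    ∃ γ : MulAut H, ∀ x, (γ x : G) = b x :=
  ⟨.ofBijective (MonoidHom.mk' (fun x : H => (⟨b x, (h x.2).2⟩ : H)) fun x y => Subtype.ext (p.mul (hL x.2) (hL y.2)))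
    (Finite.injective_iff_bijective.1 fun x y e => Subtype.ext (p.inj (hL x.2) (hL y.2) (congrArg Subtype.val e))),
    fun _ => rfl⟩

end PA

variable [Finite G] (h : B24 D)
include h

omit [Finite G] in
theorem mul_mem_L {x y : G} (hx : x ∈ D) (hy : y ∈ D) : x * y ∈ commutator G := by
  obtain ⟨ε, e, k⟩ := h.eps
  rw [e, MonoidHom.mem_ker, map_mul, k x hx, k y hy]; rfl

omit [Finite G] in
theorem or_mul_mem {x : G} (hx : x ∈ D) (g : G) : ∃ g' ∈ commutator G, g' = g ∨ g' = g * x := by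
  obtain ⟨ε, e, k⟩ := h.eps
  rcases Int.units_eq_one_or (ε g) with e' | e'
  · exact ⟨g, e ▸ e', .inl rfl⟩
  · exact ⟨_, by rw [e, MonoidHom.mem_ker, map_mul, k x hx, e']; rfl, .inr rfl⟩

omit [Finite G] in
theorem not_mem_L {x : G} (hx : x ∈ D) : x ∉ commutator G := by
  obtain ⟨ε, e, k⟩ := h.eps
  rw [e, MonoidHom.mem_ker, k x hx]; decide

theorem two {d e : G} (k : CL D [d, e]) : K [d, e] = closure ((· * d) '' Dl D [d, e]) ∧
    K22 ((· * d) '' Dl D [d, e]) ∧ K [d, e] = ⁅K [d, e], K [d, e]⁆ := by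
  have h2 := (h.cz2 k).2.2
  obtain ⟨h3, h4, h5, -⟩ := h.twist (h.cz k) h2.trA.tr1 (K := K [d, e]) rfl rfl
  refine ⟨h4, h2.map h3, ?_⟩
  rw [← map_subtype_commutator, h5.commutator_eq_top, ← MonoidHom.range_eq_map, range_subtype]

theorem one' {d : G} (hd : d ∈ D) : K [d] = closure ((· * d) '' Dl D [d]) ∧ K23 ((· * d) '' Dl D [d]) := by
  have k : CL D [d] := cl_cons.2 ⟨hd, cl_nil _⟩
  have h2 : K23 (Dl D [d]) := (Dl_one D d).symm ▸ h.k.loc d hd
  obtain ⟨h3, h4, -⟩ := h.twist (l := []) ⟨h.fl, k, h.fl.cn1 hd, h.fl.zn1 hd, h.k.noCL.mono (by simp), by simp,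
    h.k.trA _ (by simp)⟩ h2.trA.tr1 (K := K [d]) rfl rfl
  obtain ⟨f, hf⟩ := h2
  exact ⟨h4, _, h3.comp hf⟩

theorem map_K (p : PA b) {a c a' c' : G} (k : CL D [a, c]) (k' : CL D [a', c']) (e : b (a * c) = a' * c') :
    K [a, c] ≤ p.comap (K [a', c']) := by
  have key : ∀ x ∈ K [a, c], ∀ y ∈ [a', c'], (b x)⁻¹ * y * (b x)⁻¹⁻¹ ∈ [a', c'] := fun x hx => by
    have := p.comm (mem_K.1 hx).1 (mul_mem_L h (k.2.1 a (by simp)) (k.2.1 c (by simp)))
      (((mem_K.1 hx).2 a (by simp)).mul_right ((mem_K.1 hx).2 c (by simp)))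
    exact ((h.cz k').conj (by simpa [e] using this.inv_left)).1
  have ne : a' ≠ c' := by simpa using k'.1
  rw [(two h k).2.2, commutator_le]
  intro x hx y hy
  have hx' := (mem_K.1 hx).1
  have hy' := (mem_K.1 hy).1
  have m := commutator_mem_commutator (mem_top x) (mem_top y)
  refine ⟨m, mem_K.2 ⟨p.mem m, fun z hz => ?_⟩⟩
  rw [commutatorElement_def, p.mul (mul_mem (mul_mem hx' hy') (inv_mem hx')) (inv_mem hy'),
    p.mul (mul_mem hx' hy') (inv_mem hx'), p.mul hx' hy', p.inv hx', p.inv hy']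
  have h1 := key x hx
  have h2 := key y hy
  generalize (b x) = u at h1
  generalize (b y) = v at h2
  have h3 : u⁻¹ * (v⁻¹ * z * v⁻¹⁻¹) * u⁻¹⁻¹ = v⁻¹ * (u⁻¹ * z * u⁻¹⁻¹) * v⁻¹⁻¹ := by
    have i1 := (conj_inj (x := a') (y := c') u⁻¹).not.2 ne
    have i2 := (conj_inj (x := a') (y := c') v⁻¹).not.2 ne
    simp only [List.mem_cons, List.not_mem_nil, or_false, forall_eq_or_imp, forall_eq] at h1 h2 hz
    obtain ⟨h1 | h1, h1' | h1'⟩ := h1 <;> obtain ⟨h2 | h2, h2' | h2'⟩ := h2 <;> rcases hz with rfl | rfl <;>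
      first | exact absurd (h1.trans h1'.symm) i1 | exact absurd (h2.trans h2'.symm) i2 | simp only [h1, h1', h2, h2']
  rw [Commute, SemiconjBy, ← mul_inv_eq_iff_eq_mul]
  calc _ = u * v * (u⁻¹ * (v⁻¹ * z * v⁻¹⁻¹) * u⁻¹⁻¹) * v⁻¹ * u⁻¹ := by group
    _ = z := by rw [h3]; group

theorem card_K {d e : G} (k : CL D [d, e]) : 2 * 64561751654400 ≤ Nat.card (K [d, e]) := by
  obtain ⟨h1, ⟨f, hf⟩, -⟩ := two h k
  have := Spor.Fi24M.card'
  haveI : Finite Cfsg.Spor.Fi22 := Nat.finite_of_card_ne_zero (by rw [Spor.Fi22M.card]; decide)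
  obtain ⟨π, hs, hk, -⟩ := hf.exists_quot (top_unique fun g _ => F22.b.fl.top g) F22.b.fl.z
  have c : Commute d e := k.2.2 d (by simp) e (by simp)
  have m : d * e ∈ K [d, e] := mem_K.2 ⟨mul_mem_L h (k.2.1 d (by simp)) (k.2.1 e (by simp)), by
    simp [c, c.symm, Commute.mul_left]⟩
  have n : Nontrivial π.ker := (nontrivial_iff_exists_ne_one _).2 ⟨⟨_, h1 ▸ m⟩, by
    rw [hk]
    refine mem_center_closure ?_
    rintro _ ⟨x, hx, rfl⟩
    exact ((hx.2.2 d (by simp)).mul_right (.refl _)).mul_left ((hx.2.2 e (by simp)).mul_right c.symm), fun e' =>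
      k.prod_ne_one h.fl.wt h.k.noCL.noC (by simp) (by simp) (by simpa using congrArg Subtype.val e')⟩
  rw [h1, card_eq_card_quotient_mul_card_subgroup π.ker,
    Nat.card_congr (QuotientGroup.quotientKerEquivOfSurjective π hs).toEquiv, F22.b.card, mul_comm]
  exact Nat.mul_le_mul_left _ Finite.one_lt_card

theorem stepA (p : PA b) {d e : G} (k : CL D [d, e]) : ∃ g, g * b (d * e) * g⁻¹ = d * e := by
  have m := mul_mem_L h (k.2.1 d (by simp)) (k.2.1 e (by simp))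
  have n : d * e ≠ 1 := by simpa using k.prod_ne_one h.fl.wt h.k.noCL.noC (by simp) (by simp)
  obtain ⟨l, k', hl, e1⟩ := h.inv (b (d * e)) (by
    rw [← p.mul m m, show d * e * (d * e) = 1 by simpa using k.prod_sq h.fl.wt, p.one])
  have ev : Even l.length := by
    obtain ⟨ε, e, k⟩ := h.eps
    have := p.mem m
    rw [e, MonoidHom.mem_ker, ← e1, eps_prod k k'.2.1] at this
    exact (neg_one_pow_eq_one_iff_even (by decide)).1 this
  match l, ev, hl with
  | [], _, _ => exact absurd (p.inj m (one_mem _) (e1.symm.trans p.one.symm)) n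
  | [_], ev, _ | [_, _, _], ev, _ => simp [Nat.even_iff] at ev
  | [_, _], _, _ =>
    obtain ⟨g, -, hg⟩ := h.k.trA 2 (by simp) _ _ k' k rfl rfl
    exact ⟨g, by rw [← e1, ← prod_map_conj, hg]; simp⟩
  | [a₁, a₂, a₃, a₄], _, _ =>
    have h1 := Small.card_c4 h k' ((Set.ncard_le_ncard (Set.sep_subset _ _)).trans h.k.ncard.le)
    have h2 : Nat.card (K [d, e]) ≤ Nat.card ↥(commutator G ⊓ centralizer {[a₁, a₂, a₃, a₄].prod}) :=
      Nat.card_le_card_of_injective (fun x => ⟨b x, p.mem x.2.1, mem_centralizer_singleton_iff.2 (e1 ▸ p.comm x.2.1 m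
        (((mem_K.1 x.2).2 d (by simp)).mul_right ((mem_K.1 x.2).2 e (by simp))))⟩)
        fun x y e => Subtype.ext (p.inj x.2.1 y.2.1 (congrArg Subtype.val e))
    have := card_K h k
    omega

theorem stepC (p : PA b) {d e x : G} (k : CL D [d, e]) (e1 : b (d * e) = d * e) (hx : x ∈ Dl D [d, e]) :
    ∃ y ∈ Dl D [d, e], b (x * d) = y * d ∨ b (x * d) = y * e := by
  obtain ⟨h1, ⟨f, hf⟩, -⟩ := two h k
  haveI : Finite Cfsg.Spor.Fi22 := Nat.finite_of_card_ne_zero (by rw [Spor.Fi22M.card]; decide)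
  obtain ⟨π, hs, hk, hπ⟩ := hf.exists_quot (top_unique fun g _ => F22.b.fl.top g) F22.b.fl.z
  obtain ⟨γ, hγ⟩ := p.restrict (h1 ▸ inf_le_left) (h1 ▸ map_K h p k k e1)
  obtain ⟨φ, hφ⟩ := exists_phi hs hk γ
  obtain ⟨x₀, h2, h3⟩ := hf.surj ⟨x, hx, rfl⟩
  have h4 : φ x₀ ∈ F22.D22 := F22.b.aut φ ▸ ⟨x₀, h2, rfl⟩
  obtain ⟨y, hy, h5⟩ := hf.mem h4
  have h6 := hφ ⟨f x₀, subset_closure (hf.mem h2)⟩
  rw [hπ _ h2, ← hπ _ h4, MonoidHom.eq_iff, hk] at h6
  set c := (⟨f (φ x₀), subset_closure (hf.mem h4)⟩ : Subgroup.closure _)⁻¹ * γ ⟨f x₀, subset_closure (hf.mem h2)⟩ with hc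
  have h7 : (c : G) = (y * d)⁻¹ * b (x * d) := by
    rw [hc, coe_mul, coe_inv, hγ]; exact congrArg₂ (fun u v => u⁻¹ * b v) h5.symm h3
  have h8 := mem_K.1 (h1.ge c.2)
  have h9 : (c : G) ∈ closure {y | y ∈ [d, e]} := (h.cz k).zen.2 fun u hu => by
    have := congrArg Subtype.val (mem_center_iff.1 h6 ⟨u * d, subset_closure ⟨u, hu, rfl⟩⟩)
    simpa using (show Commute (c : G) (u * d) from this.symm).mul_right (h8.2 d (by simp)).inv_right
  refine ⟨y, hy, (eq_or_ne (c : G) 1).imp (fun e => (inv_mul_eq_one.1 (h7 ▸ e)).symm) fun n => ?_⟩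
  obtain ⟨u, v, k', hu, hv, e2⟩ := h.even k (by simp) h9 h8.1 n
  have ne : u ≠ v := by simpa using k'.1
  have : u * v = d * e := by
    simp only [List.mem_cons, List.not_mem_nil, or_false] at hu hv
    rcases hu with rfl | rfl <;> rcases hv with rfl | rfl
    exacts [absurd rfl ne, rfl, (k.2.2 _ (by simp) _ (by simp)).eq, absurd rfl ne]
  rw [← mul_inv_cancel_left (y * d) (b _), ← h7, ← e2, this, mul_assoc, ← mul_assoc d, h.fl.wt.sq d (k.2.1 d (by simp)),
    one_mul]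

theorem gen {d e x : G} (k : CL D [d, e]) (hx : x ∈ Dl D [d, e]) {N : Subgroup G} (h1 : K [d, e] ≤ N)
    (h2 : K [x, d] ≤ N) : K [d] ≤ N := by
  have hd := k.2.1 d (by simp)
  have k1 := cl_cons'.1 ((cl_cons'.2 ⟨k, hx⟩).perm (List.perm_append_comm (l₁ := [x, d]) (l₂ := [e])) : CL D [e, x, d])
  have he : e ∈ Dd D d := (cl_cons.1 (cl_cons.1 k).2).1
  rw [(one' h hd).1, closure_le]
  rintro _ ⟨u, hu, rfl⟩
  rw [Dl_one] at hu
  have mk : ∀ {u v : G}, u ∈ D → Commute u d → Commute u v → Commute d v → ∀ a ∈ [d, v], Commute (u * d) a :=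
    fun _ c1 c2 c3 => by simp [c1, c2, c3, Commute.mul_left]
  by_cases c : Commute u e
  · exact h1 (mem_K.2 ⟨mul_mem_L h hu.1 hd, mk hu.1 hu.2.2.symm c he.2.2⟩)
  obtain ⟨w, hw, n⟩ := h.k.noCL _ k1.1 (by simp) e k1.2
  have hw' : w ∈ Dd D d := ⟨hw.1, fun e => hw.2.1 (by simp [e]), hw.2.2 d (by simp)⟩
  obtain ⟨g, hg, e1, e2⟩ := (h.k.loc d hd).trN w hw' e he u hu e he n c
  have c1 := closure_Dd_commute hg
  have c2 : Commute g e := mul_inv_eq_iff_eq_mul.1 e2
  obtain ⟨g', m, e3⟩ := or_mul_mem h hd g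
  have m1 : g' ∈ N := h1 (mem_K.2 ⟨m, by
    rcases e3 with rfl | rfl <;> simp [c1, c2, he.2.2, Commute.mul_left]⟩)
  have m2 : w * d ∈ N := h2 (mem_K.2 ⟨mul_mem_L h hw.1 hd, fun a ha => mk hw.1 hw'.2.2.symm
    (hw.2.2 x (by simp)).symm (hx.2.2 d (by simp)) a (by simpa [or_comm] using ha)⟩)
  refine (congrArg (· ∈ N) (?_ : u * d = _)).mpr (mul_mem (mul_mem m1 m2) (inv_mem m1))
  rw [← e1]
  rcases e3 with rfl | rfl
  · rw [mul_assoc _ _ d, c1.inv_left.eq]; group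
  · rw [mul_assoc _ _ d, c1.inv_left.eq, mul_assoc g d, ← mul_assoc d w, hw'.2.2.eq]; group

theorem stepE (p : PA b) {d : G} (hd : d ∈ D) (hb : K [d] ≤ p.comap (K [d])) :
    ∃ m, ∀ x ∈ K [d], m * b x * m⁻¹ = x := by
  obtain ⟨h1, f, hf⟩ := one' h hd
  haveI : Finite Cfsg.Spor.Fi23 := Nat.finite_of_card_ne_zero (by rw [Spor.Fi23M.card]; decide)
  obtain ⟨π, hs, hk, -⟩ := hf.exists_quot (top_unique fun g _ => F23.b.fl.top g) F23.b.fl.z
  obtain ⟨γ, hγ⟩ := p.restrict (h1 ▸ inf_le_left) (h1 ▸ hb)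
  obtain ⟨φ, hφ⟩ := exists_phi hs hk γ
  obtain ⟨a, rfl⟩ := (QuotientGroup.eq_one_iff φ).1 ((Nat.card_eq_one_iff_unique.1 Known.Fi23O.out).1.elim _ _)
  obtain ⟨m, rfl⟩ := hs a
  refine ⟨(m : G)⁻¹, fun x hx => ?_⟩
  have h6 := hφ ⟨x, h1 ▸ hx⟩
  rw [MulAut.conj_apply, ← map_inv, ← map_mul, ← map_mul, MonoidHom.eq_iff, hk] at h6
  set c := (m * ⟨x, h1 ▸ hx⟩ * m⁻¹)⁻¹ * γ ⟨x, h1 ▸ hx⟩ with hc
  have h8 := mem_K.1 (h1.ge c.2)
  have h9 := h.fl.zen hd (h8.2 d (by simp)) fun u hu => by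
    have := congrArg Subtype.val (mem_center_iff.1 h6 ⟨u * d, subset_closure ⟨u, (Dl_one D d).symm ▸ hu, rfl⟩⟩)
    simpa using (show Commute (c : G) (u * d) from this.symm).mul_right (h8.2 d (by simp)).inv_right
  have h7 := h9.resolve_right fun e => not_mem_L h hd (e ▸ h8.1)
  rw [hc, coe_mul, coe_inv, hγ, inv_mul_eq_one] at h7
  rw [← h7]; simp [mul_assoc]

/-- the map induced on `D`. -/
def T (b : G → G) (d y y' : G) : Prop := ∃ g ∈ commutator G, g * d * g⁻¹ = y ∧ b g * d * (b g)⁻¹ = y'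

section
variable (p : PA b) {d : G} (hd : d ∈ D) (hb : ∀ x ∈ K [d], b x = x)
include p hd

omit [Finite G] p in
theorem T.ex {y : G} (hy : y ∈ D) : ∃ y' ∈ D, T b d y y' := by
  obtain ⟨g, -, e⟩ := h.fl.tr1 d hd y hy
  obtain ⟨g', m, e'⟩ := or_mul_mem h hd g
  exact ⟨_, TG.conj h.fl.tg _ hd, g', m, by rcases e' with rfl | rfl <;> simp [← e], rfl⟩

omit [Finite G] h hd in
theorem T.conj {y y' c : G} (t : T b d y y') (m : c ∈ commutator G) : T b d (c * y * c⁻¹) (b c * y' * (b c)⁻¹) := by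
  obtain ⟨g, hg, rfl, rfl⟩ := t
  exact ⟨c * g, mul_mem m hg, by group, by rw [p.mul m hg]; group⟩

include hb

omit [Finite G] h hd in
theorem T.uniq {y y' y'' : G} (t : T b d y y') (t' : T b d y y'') : y' = y'' := by
  obtain ⟨g, hg, rfl, rfl⟩ := t
  obtain ⟨g', hg', e, rfl⟩ := t'
  have c : Commute (g⁻¹ * g') d := by
    rw [Commute, SemiconjBy, ← mul_inv_eq_iff_eq_mul, mul_inv_rev, mul_assoc, mul_assoc, ← mul_assoc d, ← mul_assoc g',
      ← mul_assoc g', e]; group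
  have := hb _ (mem_K.2 ⟨mul_mem (inv_mem hg) hg', by simpa using c⟩)
  rw [p.mul (inv_mem hg) hg', p.inv hg, inv_mul_eq_iff_eq_mul] at this
  rw [this, mul_assoc _ _ d, c.eq]; group

omit [Finite G] h hd in
theorem T.comm {y y' c : G} (t : T b d y y') (m : c ∈ commutator G) (c1 : Commute c d) (c2 : Commute c y) :
    Commute y' c := by
  have := t.conj p m
  rw [conj_eq_of_commute c2, hb c (mem_K.2 ⟨m, by simpa using c1⟩)] at this
  exact (mul_inv_eq_iff_eq_mul.1 (this.uniq p hb t) :).symm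

omit [Finite G] h hd in
theorem T.eq_d {y : G} (t : T b d y d) : y = d := by
  obtain ⟨g, hg, rfl, e⟩ := t
  have c : Commute (b g) d := mul_inv_eq_iff_eq_mul.1 e
  rw [← p.inj (p.mem hg) hg (hb _ (mem_K.2 ⟨p.mem hg, by simpa using c⟩)), e]

theorem T.nc {a a' : G} (ha : a ∈ D) (n : ¬ Commute d a) (ha' : a' ∈ D) (t : T b d a a') : a' = a ∨ a' = d * a * d := by
  obtain ⟨Y, hY⟩ := h.k.xs d hd a ha n
  refine (h.fl.fb d hd a ha n a' ha' fun u hu c => ?_).resolve_left fun e => n (by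
    rw [T.eq_d p hb (y := a) (e ▸ t)])
  obtain ⟨l, k, hl⟩ := hY.wEq.2
  match l, hl with
  | x :: y :: _, _ =>
    obtain ⟨g, hg, e⟩ := hY.tr1 x (k.2.1 x (by simp)) u ⟨hu, c⟩
    have hv := hY.wt.conj_mem hg (k.2.1 y (by simp))
    have ne : x ≠ y := fun e => by simpa [e] using k.1
    exact (h.fl.wt.comm2 ha' hu.1 hv.1.1 (e ▸ (conj_inj g).not.2 ne)
      (e ▸ (commute_conj_iff g).2 (k.2.2 x (by simp) y (by simp))) (t.comm p hb (mul_mem_L h hu.1 hv.1.1)
        (hu.2.2.symm.mul_left hv.1.2.2.symm) (c.mul_left hv.2))).1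

theorem T.id {a : G} (ha : a ∈ D) (n : ¬ Commute d a) (t : T b d a a) : ∀ x ∈ commutator G, b x = x := by
  have key : ∀ y ∈ D, T b d y y := fun y hy => by
    by_cases c : Commute d y
    · obtain ⟨y', hy', t⟩ := T.ex (b := b) h hd hy
      by_cases e : y = d
      · exact ⟨1, one_mem _, by simp [e], by simp [e, p.one]⟩
      have k : CL D [d, y] := cl_two hd hy (Ne.symm e) c
      have h1 : ∀ u ∈ D, u ≠ d → Commute d u → Commute y u → Commute y' u ∧ Commute y' d := fun u hu n c1 c2 =>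
        h.fl.wt.comm2 hy' hu hd n c1.symm (t.comm p hb (mul_mem_L h hu hd) (c1.symm.mul_left (.refl _))
          (c2.symm.mul_left c))
      have h2 := h1 y hy e c (.refl _)
      by_contra n'
      obtain ⟨w, hw, n''⟩ := h.k.noCL _ k (by simp) y' ⟨hy', by
        simp only [List.mem_cons, List.not_mem_nil, or_false, not_or]
        exact ⟨fun e' => e (T.eq_d p hb (e' ▸ t)), fun e' => n' (e' ▸ t)⟩, by simp [h2.1.symm, h2.2.symm]⟩
      exact n'' (h1 w hw.1 (fun e => hw.2.1 (by simp [e])) (hw.2.2 d (by simp)) (hw.2.2 y (by simp))).1.symm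
    · obtain ⟨g, -, e1, e2⟩ := h.fl.trN d hd a ha d hd y hy n c
      obtain ⟨Y, hY⟩ := h.k.xs d hd a ha n
      obtain ⟨u, hu⟩ := hY.ne 0
      have hu' := hY.sub 0 hu
      obtain ⟨g', m, e3⟩ := or_mul_mem h hu'.1.1 g
      have c1 : Commute g d := mul_inv_eq_iff_eq_mul.1 e1
      have c2 : Commute g' d := by rcases e3 with rfl | rfl; exacts [c1, c1.mul_left hu'.1.2.2.symm]
      have e4 : g' * a * g'⁻¹ = y := by
        rcases e3 with rfl | rfl
        · exact e2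
        · rw [← e2, mul_assoc g, (show Commute u a from hu'.2).eq]; group
      have := t.conj p m
      rwa [hb _ (mem_K.2 ⟨m, by simpa using c2⟩), e4] at this
  refine fun x hx => (inv_mul_eq_one.1 (h.fl.eq_one fun y hy => ?_)).symm
  have := ((key y hy).conj p hx).uniq p hb (key _ (TG.conj h.fl.tg x hy))
  rw [Commute, SemiconjBy, ← mul_inv_eq_iff_eq_mul, mul_inv_rev, mul_assoc, mul_assoc, ← mul_assoc y, ← mul_assoc (b x),
    ← mul_assoc (b x), this]; group

theorem stepF : ∃ g, ∀ x ∈ commutator G, g * b x * g⁻¹ = x := by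
  obtain ⟨a, ha, n⟩ := h.k.noCL.noC d hd
  have n' : ¬ Commute d a := fun c => n c.symm
  obtain ⟨a', ha', t⟩ := T.ex (b := b) h hd ha
  rcases T.nc h p hd hb ha n' ha' t with rfl | rfl
  · exact ⟨1, by simpa using T.id h p hd hb ha n' t⟩
  refine ⟨d, T.id h (p.conj d) hd (fun x hx => ?_) ha n' ?_⟩
  · rw [hb x hx, ← ((mem_K.1 hx).2 d (by simp)).eq, mul_inv_cancel_right]
  · obtain ⟨g, hg, e, e'⟩ := t
    refine ⟨g, hg, e, ?_⟩
    have := h.fl.wt.inv hd
    calc _ = d * (b g * d * (b g)⁻¹) * d⁻¹ := by group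
      _ = (d * d⁻¹) * a * (d * d⁻¹) := by rw [e', this]; group
      _ = a := by group

end

theorem PA.inner (p : PA b) : ∃ g, ∀ x ∈ commutator G, g * b x * g⁻¹ = x := by
  obtain ⟨l, k, hl⟩ := h.k.wEq.2
  obtain ⟨x, d, e, k⟩ : ∃ x d e, CL D [x, d, e] := by
    match l, hl with
    | x :: d :: e :: _, _ => exact ⟨x, d, e, k.sub (by simpa using (k.1.sublist (List.take_sublist 3 _))) (by simp)⟩
  obtain ⟨k, hx⟩ := cl_cons'.1 k
  have hd := k.2.1 d (by simp)
  have k2 : ∀ y ∈ Dl D [d, e], CL D [y, d] := fun y hy =>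
    cl_two hy.1 hd (fun e => hy.2.1 (by simp [e])) (hy.2.2 d (by simp)).symm
  have fin : ∀ {b}, PA b → b (d * e) = d * e → ∀ y ∈ Dl D [d, e], b (x * d) = y * d →
      ∃ g, ∀ x ∈ commutator G, g * b x * g⁻¹ = x := fun p e1 y hy e2 => by
    have le : ∀ {l l' : List G}, d ∈ l' → K l ≤ p.comap (K l') → K l ≤ p.comap (K [d]) := fun m h x hx =>
      ⟨(h hx).1, mem_K.2 ⟨(h hx).2.1, by simpa using (mem_K.1 (h hx).2).2 d m⟩⟩
    obtain ⟨m, hm⟩ := stepE h p hd (gen h k hx (le (by simp) (map_K h p k k e1))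
      (le (by simp) (map_K h p (k2 x hx) (k2 y hy) e2)))
    obtain ⟨g, hg⟩ := stepF h (p.conj m) hd hm
    exact ⟨g * m, fun x hx => (by group : _ = g * (m * _ * m⁻¹) * g⁻¹).trans (hg x hx)⟩
  obtain ⟨g, e1⟩ := stepA h p k
  obtain ⟨y, hy, e2 | e2⟩ := stepC h (p.conj g) k e1 hx
  · obtain ⟨g', hg⟩ := fin (p.conj g) e1 y hy e2
    exact ⟨g' * g, fun x hx => (by group : _ = g' * (g * _ * g⁻¹) * g'⁻¹).trans (hg x hx)⟩
  obtain ⟨w, -, hw⟩ := h.k.trA 2 (by simp) _ _ (k.perm (.swap _ _ _)) k rfl rfl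
  simp only [List.map_cons, List.map_nil, List.cons.injEq, and_true] at hw
  have c := (k.2.2 d (by simp) e (by simp)).eq
  have e3 : w * (d * e) * w⁻¹ = d * e := by
    rw [c]; exact (by group : _ = w * e * w⁻¹ * (w * d * w⁻¹)).trans (by rw [hw.1, hw.2, c])
  obtain ⟨g', hg⟩ := fin ((p.conj g).conj w) (by rw [e1, e3]) _ (((h.cz k).conj (c := w)
    (by simpa using show Commute w (d * e) from mul_inv_eq_iff_eq_mul.1 e3)).2 y hy) (by rw [e2, ← hw.1]; group)
  exact ⟨g' * w * g, fun x hx => (by group : _ = g' * (w * (g * _ * g⁻¹) * w⁻¹) * g'⁻¹).trans (hg x hx)⟩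

theorem card_out (z : center (commutator G) = ⊥) : Nat.card (MulAut (commutator G)) = Nat.card G := by
  classical
  refine (Nat.card_eq_of_bijective (MulAut.conjNormal : G →* MulAut (commutator G)) ⟨?_, fun β => ?_⟩).symm
  · refine (injective_iff_map_eq_one _).2 fun g hg => h.fl.eq_one fun y _ => ?_
    have c : g ∈ centralizer (commutator G : Set G) := fun x hx =>
      (mul_inv_eq_iff_eq_mul.1 (congrArg Subtype.val (DFunLike.congr_fun hg (⟨x, hx⟩ : commutator G)))).symm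
    have c' := mul_mem c ((inferInstance : (centralizer (commutator G : Set G)).Normal).conj_mem _ (inv_mem c) y)
    have m := commutator_mem_commutator (mem_top g) (mem_top y)
    have : (⟨_, m⟩ : commutator G) ∈ center _ := mem_center_iff.2 fun x => Subtype.ext <| by
      simpa only [coe_mul, commutatorElement_def, mul_assoc] using c' _ x.2
    rw [z, mem_bot] at this
    exact commutatorElement_eq_one_iff_commute.1 (congrArg Subtype.val this)
  · obtain ⟨g, hg⟩ := PA.inner h (b := fun x => if m : x ∈ commutator G then β ⟨x, m⟩ else x)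
      ⟨fun m => by simp [m], fun m m' => by simp only [m, m', mul_mem m m', dite_true, ← coe_mul, ← map_mul]; rfl,
        fun m m' e => by simpa [m, m'] using e⟩
    refine ⟨g⁻¹, MulEquiv.ext fun x => Subtype.ext ?_⟩
    have := hg x x.2
    simp only [x.2, dite_true] at this
    rw [MulAut.conjNormal_apply, ← this]; group

omit h in
theorem out : Nat.card (Cfsg.Out Cfsg.Spor.Fi24') = 2 := by
  haveI : Finite Cfsg.Spor.Fi24 := Nat.finite_of_card_ne_zero (by rw [Spor.Fi24M.card]; decide)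
  haveI := Spor.Fi24M.simple'
  have z := (simple_facts (G := Cfsg.Spor.Fi24') (by rw [Spor.Fi24M.card']; norm_num)).1
  have := card_aut_eq z
  rw [card_out F24.b z, F24.b.card, Spor.Fi24M.card'] at this
  omega

end Cfsg.Agent.Fus.FiOut
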