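import Cfsg.Agent.Fus.Cp
import Cfsg.Prelude.Def_FusionFitting

/-! The generalized Fitting subsystem and balance. -/

namespace Cfsg.Agent.Fus

open Subgroup Cfsg Cfsg.Agent.Loc Equiv
open Cfsg.FusionSystem (normalizerIn centralizerIn)
open scoped commutatorElement

variable {Ω : Type*} [Group Ω] {S S₀ T T₁ T₂ U P Q R N V W X Y : Subgroup Ω} {p n : ℕ} {F : FusionSystem S}
  {E : FusionSystem T} {E₁ : FusionSystem T₁} {E₂ : FusionSystem T₂} {C : FusionSystem V} {D : FusionSystem U}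
  {a b f g k l : Perm Ω} {K : Subgroup (Perm Ω)}

theorem cz_inner (hQ : Q ≤ S) (hX : X ≤ centralizerIn S Q) : Cz F (innerFusionSystem Q) X :=
  ⟨hX, fun P f hf => by
    obtain ⟨hP, g, hg, e⟩ := mor_inner.1 hf
    exact (nMor_bot_cp (hP.trans hQ) (hX.trans (CS_le S Q)) (hQ hg)
      (mem_centralizer_iff.2 fun x hx => ((hX hx).2 g hg).symm)).congr e⟩

theorem Cz.le_CS (h : Cz F E X) (hT : T ≤ S) : T ≤ centralizerIn S X :=
  le_inf hT (le_centralizer_iff.1 fun _ hx => (h.le hx).2)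

/-- `D` is the generalized Fitting subsystem of `F`. -/
def GF (D : FusionSystem U) (F : FusionSystem S) (p : ℕ) : Prop :=
  ∃ (T : Subgroup Ω) (E : FusionSystem T), Lay E F p ∧ CP (innerFusionSystem F.core) E D

theorem IsNK.nMor_bot (h : IsNK F Q K E) (hQ : Q ≤ R) (hR : R ≤ T) (hP : P ≤ T) (hf : NMor F R ⊥ P f) : NMor E R ⊥ P f := by
  obtain ⟨g, h1, h2, h3⟩ := nMor_bot_iff.1 hf
  have hm : Maps g Q Q := (maps_one Q).congr fun x hx => h3 x (hQ hx)
  refine nMor_bot_iff.2 ⟨g, h.mor_of_le h1 (sup_le hP hR) (hQ.trans le_sup_right) hm ?_, h2, h3⟩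
  rw [(res_eq_one_iff hm).2 fun x hx => h3 x (hQ hx)]; exact one_mem _

theorem IsNK.same (h : IsNK F Q K E) (h' : IsNK F Q K D) [Finite S] : Same E D :=
  haveI := h.finite
  haveI := h'.finite
  same_of_sub (sub_iff_perm.2 fun _ _ hf => h'.mor (h'.eq ▸ h.eq ▸ hf.le) (h.nMor hf))
    (sub_iff_perm.2 fun _ _ hf => h.mor (h.eq ▸ h'.eq ▸ hf.le) (h'.nMor hf))

variable [Finite S]

theorem IsNK.nk_bot (h : IsNK F Q K E) (hQ : Q ≤ R) (h' : IsNK E R ⊥ D) : IsNK F R ⊥ D := by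
  have hU : U = centralizerIn S R := by
    rw [h'.eq, NK_bot]
    exact le_antisymm (inf_le_inf_right _ h.T_le) fun x hx => ⟨h.eq ▸ CS_le_NK S Q K (CS_anti S hQ hx), hx.2⟩
  exact ⟨h'.le.trans h.T_le, hU.trans (NK_bot S R).symm, fun P f => (h'.mor_iff P f).trans (and_congr_right fun hP =>
    ⟨fun k => k.sub h.sub, h.nMor_bot hQ h'.le (hP.trans h'.T_le)⟩)⟩

theorem IsNK.cz (h : IsNK F Q K E) (hQ : Q ≤ X) (hX : X ≤ T) (hV : V ≤ T) (hC : Cz F C X) : Cz E C X :=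
  ⟨fun _ hx => ⟨hX hx, (hC.le hx).2⟩, fun P f hf => h.nMor_bot hQ hX (hf.le.trans hV) (hC.mor P f hf)⟩

theorem IsNK.normal_of_normal (h : IsNK F Q K E) (hR : F.IsNormal R) (hT : R ≤ T) : E.IsNormal R := by
  haveI := h.finite
  refine normal_of_perm hT fun P f hf => ?_
  obtain ⟨g, h1, h2, h3, h4⟩ := h.nMor hf
  obtain ⟨u, k1, k2, k3⟩ := normal_ext hR h1
  have e : ∀ x ∈ Q, u x = g x := fun x hx => k2 x (mem_sup_right hx)
  exact ⟨u, h.mor (sup_le hf.le hT) ⟨u, sup_right_comm P Q R ▸ k1, fun _ _ => rfl, h3.congr e, res_congr h3 e ▸ h4⟩,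
    fun x hx => (k2 x (mem_sup_left hx)).trans (h2 x hx), fun _ => k3.mem⟩

theorem IsNK.mor_conj {E' : FusionSystem W} (h : IsNK F Q ⊤ E) (h' : IsNK F R ⊤ E') (hg : Iso F g T W) (hm : Maps g Q R)
    (hf : Mor E P f) : Mor E' (img g P) (⇑(g * f * g⁻¹)) := by
  obtain ⟨u, h1, h2, h3, -⟩ := h.nMor hf
  have hQ := h.le_T le_top
  refine h'.mor (img_le_iff.2 fun x hx => hg.mem (hf.le hx)) (((NMor.conj hg.mor h1 (sup_le hf.le hQ) (h1.homOn.mem_of_sup
    (fun x hx => h2 x hx ▸ hf.mem_S hx) fun x hx => hQ (h3.mem hx)) le_sup_right h3 hm).mono (img_mono _ le_sup_left)).congr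
    fun y hy => ?_)
  simp only [Perm.mul_apply, h2 _ ((hg.restrict hf.le).symm.mem hy)]

theorem IsNK.fiso {E' : FusionSystem W} (h : IsNK F Q ⊤ E) (h' : IsNK F R ⊤ E') (hg : Iso F g T W) (hm : Maps g Q R) :
    FIso E g E' := by
  haveI := h.finite
  haveI := h'.finite
  refine ⟨⟨hg.homOn, hg.maps.img_eq, fun hf => ?_, fun {P' f'} hf => ?_⟩,
    fun x _ e => g.injective (e.trans hg.homOn.map_one.symm)⟩
  · obtain ⟨u, h1, h2⟩ := hf.exists_perm
    exact ⟨_, h.mor_conj h' hg hm h1, fun x hx => by simp [h2 x hx]⟩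
  · obtain ⟨u, h1, h2⟩ := hf.exists_perm
    refine ⟨_, (h'.mor_conj h hg.symm hm.symm h1).mono fun x hx => ?_, fun x hx => by simp [h2 _ hx.2]⟩
    simpa using mem_img_of_mem (⇑g⁻¹) hx.2

theorem Cz.conj_fiso {C' : FusionSystem W} (h : Cz F C X) (hC : C.IsSubsystemOf F) (hg : Mor F N g) (hV : V ≤ N) (hX : X ≤ N)
    (hm : Maps g X Y) (e : FIso C g C') : C'.IsSubsystemOf F ∧ Cz F C' Y := by
  haveI := finite_of_le (sub_le hC)
  have hW : Maps g V W := e.img_eq ▸ (hg.mono hV).maps_img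
  have key : ∀ P' (f' : Perm Ω), Mor C' P' f' → NMor F Y ⊥ P' f' := fun P' f' hf => by
    obtain ⟨u, h1, h2⟩ := e.lift hf
    obtain ⟨v, k1, k2, k3⟩ := nMor_bot_iff.1 (h.mor _ _ h1)
    have m1 := (hg.mono (h1.le.trans hV)).maps_img
    rw [e.img_pre hf.le] at m1
    have m2 := (hg.homOn.mono (sup_le (h1.le.trans hV) hX)).maps_sup m1 hm
    refine nMor_bot_iff.2 ⟨g * v * g⁻¹, (hg.mul k1 (k1.homOn.mem_of_sup (fun x hx => k2 x hx ▸ hV (h1.mem_S hx))
      fun x hx => (k3 x hx).symm ▸ hX hx)).mul ((hg.mono (sup_le (h1.le.trans hV) hX)).inv m2) fun _ => m2.inv_mem,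
      fun y hy => ?_, fun y hy => ?_⟩
    · rw [Perm.mul_apply, Perm.mul_apply, k2 _ (m1.inv_mem hy), ← h2 _ (m1.inv_mem hy)]; simp
    · rw [Perm.mul_apply, Perm.mul_apply, k3 _ (hm.inv_mem hy)]; simp
  haveI := hW.finite
  refine ⟨sub_iff_perm.2 fun P' f' hf => (key P' f' hf).mor, fun y hy => ?_, key⟩
  obtain ⟨x, hx, rfl⟩ := hm.exists_eq hy
  exact hg.mem_CS hV hW (hX hx) (h.le hx).2

theorem TG.zsconj {ℋ : Subgroup Ω → Prop} {B : Subgroup Ω → Subgroup (Perm Ω)} [Fact p.Prime] (h : TG F p T S₀ ℋ B)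
    (hf : ZG F p S₀ ℋ B P f) (hk : Mor F Q k) (hQ : Q ≤ S₀) (hP : P ≤ Q) (hm : ∀ x ∈ P, f x ∈ Q) (hR : Maps k P R) :
    ZG F p S₀ ℋ B R (k * f * k⁻¹) := by
  obtain ⟨l, h1, h2⟩ := h.fac hk
  rw [inf_eq_left.2 hQ] at h1 h2
  have hi := ((h.zmor h2).mono hP).iso
  have h3 := h.zmul (h.zmul h2 hf hm) (closed_ZG.inv hi (closed_ZG.mono h2 hP)) fun _ => hi.symm.mem
  have h4 := h.zconj h3 (h1.mono (sup_le le_sup_left (img_le_iff.2 fun x hx => (h.zcu h2).mem_sup (hP hx)))) (Q := R)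
    fun x => by simpa using (hi.maps.symm.trans hR) x
  simpa [mul_assoc] using h4

variable [Fact p.Prime]

theorem gf_iff (hS : IsPGroup p S) : D.IsGeneralizedFittingOf F p ↔ GF D F p := by
  haveI := finite_of_le (core_le F)
  refine exists_congr fun T => exists_congr fun E => ?_
  rw [lay_iff hS]
  exact and_congr_right fun h => haveI := h.ni.finite; cp_iff

theorem Lay.exists_cp (h : Lay E F p) : ∃ D : FusionSystem (F.core ⊔ T), CP (innerFusionSystem F.core) E D ∧ NI D F p :=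
  have k := h.cz (normal_core F)
  (h.ni.satF.ni_inner (normal_core F)).exists_cp h.ni (cz_inner (core_le F) (k.le_CS h.ni.le)) k

theorem Sat.exists_gf (hF : Sat F p) : ∃ (U : Subgroup Ω) (D : FusionSystem U), GF D F p :=
  let ⟨T, E, h⟩ := hF.exists_lay
  let ⟨D, hD, _⟩ := h.exists_cp
  ⟨_, D, T, E, h, hD⟩

theorem GF.ni (h : GF D F p) : NI D F p :=
  let ⟨_, _, h1, h2⟩ := h
  h2.ni (h1.ni.satF.ni_inner (normal_core F)) h1.ni

omit [Finite S] [Fact p.Prime] in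
theorem GF.ac (h : GF D F p) : AC D F p :=
  let ⟨_, _, h1, h2⟩ := h
  fun _ C hC => sub_trans (h1.ac _ C hC) h2.sub₂

omit [Finite S] [Fact p.Prime] in
theorem GF.core_le (h : GF D F p) : F.core ≤ U := let ⟨_, _, _, h2⟩ := h; h2.le₁

theorem NI.CSE_le_core (h : NI E F p) (h1 : AC E F p) (h2 : F.core ≤ T) : CSE E F p ≤ F.core := by
  obtain ⟨D, hD⟩ := h.exists_isCF
  haveI := hD.ni.finite
  have hc : D.IsConstrained p := hD.ni.satE.constrained_iff.2 fun ⟨V, C, hC⟩ =>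
    comp_not_cz hC hD.ni.satE.pg ((h.cz_iff_le.2 le_rfl).sub (h1 _ C (component_of_sn hC hD.ni.sn))) (comp_le hC)
  have k := hD.ni.toWN.core_le
  exact fun x hx => k ((constrained_iff.1 hc).2 ⟨hx, centralizer_le (k.trans h2) (CSE_le E F p hx).2⟩)

theorem GF.cz_iff (h : GF D F p) : Cz F D Y ↔ Y ≤ D.center := by
  haveI := h.ni.finite
  refine ⟨fun k => le_center ?_, fun k => ((cz_of_central (central_center D)).up h.ni.sub).mono k⟩
  have := k.central h.ni.satE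
  rwa [inf_eq_left.2 ((h.ni.le_CSE k).trans ((h.ni.CSE_le_core h.ac h.core_le).trans h.core_le))] at this

theorem GF.not_cz (h : GF D F p) (hC : C.Quasisimple p) (hV : V ≤ S) : ¬ Cz F C U := fun k =>
  haveI := finite_of_le hV
  qs_not_abelian (h.ni.satF.pg.to_le hV) hC (k.comm (hC.2.1.ge.trans ((h.ni.hyp_le_CSE k hV).trans
    ((h.ni.CSE_le_core h.ac h.core_le).trans h.core_le))))

theorem sn_cases (h : C.IsSubnormalIn F p) (hS : IsPGroup p S) :
    Same C F ∨ ∃ (U : Subgroup Ω) (D : FusionSystem U), NI D F p ∧ ¬ F.IsSubsystemOf D ∧ C.IsSubnormalIn D p := by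
  rename_i hfin hp
  revert hfin hp
  induction h with
  | refl F => intro _ _; exact Or.inl (same_refl F)
  | step h hn ih =>
    intro _ _
    have hD := (ni_iff hS).1 hn
    haveI := hD.finite
    refine (em _).elim (fun k => ?_) fun k => Or.inr ⟨_, _, hD, k, h⟩
    exact (same_of_sub k hD.sub).elim (C := fun F => Same _ F ∨ ∃ (U : Subgroup Ω) (D : FusionSystem U), NI D F _ ∧
      ¬ F.IsSubsystemOf D ∧ FusionSystem.IsSubnormalIn _ D _) (ih hD.satE.pg)

/-- Components are normal in the layer. -/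
theorem Lay.wn_comp (h : Lay E F p) (hC : C.IsComponentIn F p) : WN C E p := by
  refine sub_induction (C := fun {S} F => ∀ (T : Subgroup Ω) (E : FusionSystem T), Lay E F p → C.IsComponentIn F p → WN C E p)
    (fun S _ F ih T E h hC => ?_) F T E h hC
  have hF := h.ni.satF
  rcases sn_cases hC.1 hF.pg with k | ⟨U, D, h1, h2, h3⟩
  · exact (same_of_sub (sub_trans h.ni.sub k.symm.sub) (h.ac _ C hC)).elim (C := fun E => WN C E p) (comp_sat hC hF).ni_refl.toWN
  haveI := h1.finite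
  obtain ⟨T₁, L₁, l₁⟩ := h1.satE.exists_lay
  have n₁ := l₁.ni_up h1
  obtain ⟨Z, hZ⟩ := n₁.exists_isCF
  haveI := hZ.ni.finite
  obtain ⟨T₂, L₂, l₂⟩ := hZ.ni.satE.exists_lay
  have c₁ := n₁.cz_iff_le.2 l₂.ni.le
  obtain ⟨M, m1, m2⟩ := n₁.exists_cp (l₂.ni_up hZ.ni) c₁ ⟨c₁.le_CS n₁.le, fun P f hf => hZ.mor P f (hf.sub l₂.ni.sub)⟩
  haveI := m2.finite
  refine (m1.wn_of_wn m2.satE (ih U D h1.sub h2 T₁ L₁ l₁ ⟨h3, hC.2⟩)).of_sub h.ni.satE (h.ac _ C hC) (h.min _ M m2 fun W C' hC' => ?_)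
  rcases comp_CF hC' n₁ hZ with k | k
  · exact sub_trans (comp_sub k) m1.sub₁
  · exact sub_trans (l₂.ac _ C' k) m1.sub₂

theorem GF.ni_comp (h : GF D F p) (hC : C.IsComponentIn F p) : NI C D p := by
  haveI := h.ni.finite
  have hD := h.ni.satE
  obtain ⟨_, _, h1, h2⟩ := h
  exact (h2.symm.wn_of_wn hD (h1.wn_comp hC)).ni_of_qs hC.2

/-- The normalizer of `X` in a normal subsystem. -/
theorem NI.exists_nrm (h : NI E F p) (hX : F.IsFullyNormalized X) (hN : IsNK F X ⊤ D) :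
    ∃ M : FusionSystem (normalizerIn T X), NI M D p ∧ M.IsSubsystemOf E := by
  haveI := h.finite
  haveI := hN.finite
  have hU : U = normalizerIn S X := hN.eq.trans (NK_top S X)
  subst hU
  have k := h.pd_S
  have hX' : h.tg.sys.IsFullyNormalized X := fn_iff.2 ⟨hX.1, fun f Q hf => (fn_iff.1 hX).2 f Q (hf.sub k.sub)⟩
  obtain ⟨N', hN', -⟩ := exists_normalizerSystem h.tg.sys hX.1
  have sN := k.sat.normalizer hX' hN'
  have h0 : normalizerIn T X ≤ normalizerIn S X := inf_le_inf_right _ h.le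
  obtain ⟨M, sM, hM⟩ := sN.exists_ppi h0 fun x hx => ⟨k.ppi.hyp (hyp_mono hN'.sub hx), (hyp_le N' p hx).2⟩
  have hND : N'.IsSubsystemOf D := sub_iff_perm.2 fun P f hf => hN.mor hf.le ((hN'.nMor hf).sub k.sub)
  have hw : WN M D p := by
    refine ⟨sM, h.satF.normalizer hX hN, sub_trans hM.sub hND, ?_, fun {a f P R} ha hf hm => ?_, fun {P f} hP hf => ?_⟩
    · have := sc_sub hN.sub h.sc
      rwa [show T ⊓ normalizerIn S X = normalizerIn T X from le_antisymm (fun x hx => ⟨hx.1, hx.2.2⟩) (le_inf (NS_le T X) h0)] at this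
    · refine hm.img_eq ▸ (sM.alperin_p' (closed_conj M M ha.homOn) (fun t ht => ⟨le_rfl, mor_conj_cp ha.homOn (fun _ => ha.mem) ht⟩)
        (fun P hP b hb hc => ?_) P f hf).2
      have hPT := (sM.base_fcr hP).1.1
      have hi := ha.restrict hPT
      have hb' := iso_of_AutF hPT hb
      have hP' : img a P ≤ normalizerIn T X := img_le_iff.2 fun x hx => ha.mem (hPT hx)
      refine ⟨hPT, hM.mor _ hP' _ ((mem_AutF (hP'.trans h0)).2 ⟨?_, (supp_of_AutF hb).conj hi.maps⟩) (coprime_conj hc a)⟩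
      obtain ⟨u, u1, u2, u3, -⟩ := hN'.nMor (hb'.mor.sub hM.sub)
      obtain ⟨v, v1, v2, v3, v4⟩ := Iso.exists_pprime ⟨u1, u1.homOn.maps_sup (hb'.maps.congr u2) u3⟩ le_sup_left hc hb'.maps u2
        (H := Stab X) ((u1.homOn.maps_sup (hb'.maps.congr u2) u3).res u3 le_sup_right)
      have v5 := iso_of_AutF u1.le v1
      obtain ⟨w, w1, w2, w3, -⟩ := hN.nMor ha.mor
      have m1 : Maps w P (img a P) := hi.maps.congr fun x hx => w2 x (hPT hx)
      have m2 := (w1.homOn.mono (sup_le_sup_right hPT X)).maps_sup m1 w3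
      refine hN'.mor (hP'.trans h0) ⟨w * v * w⁻¹, h.tg.mor_of_z (h.tg.zsconj (h.tg.z_of_pprime v5 v3) w1 w1.le
        (sup_le_sup_right hPT X) (fun x hx => sup_le_sup_right hPT X (v5.mem hx)) m2), fun y hy => ?_,
        (w3.symm.trans v2).trans w3 |>.congr fun _ _ => by simp only [Perm.mul_apply], mem_top _⟩
      have hy' := hi.symm.mem hy
      rw [Perm.mul_apply, Perm.mul_apply, hi.maps.inv_eq_of_eq (fun x hx => w2 x (hPT hx)) y hy, v4 _ hy',
        w2 _ (hPT (hb'.mem hy')), Perm.mul_apply, Perm.mul_apply]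
    · obtain ⟨g, g1, g2, g3, -⟩ := hN.nMor hf
      obtain ⟨l, l1, l2⟩ := h.tg.fac g1
      rw [inf_eq_left.2 g1.le] at l1 l2
      have z1 := h.tg.mor_of_z l2
      have i1 := (z1.mono le_sup_right).iso
      set X' := img (⇑(l⁻¹ * g)) X
      have m1 : Maps l X' X := fun x => by simpa using (i1.maps.symm.trans g3) x
      have hX1 : X' ≤ T ⊔ (P ⊔ X) := img_le_iff.2 fun x hx => (h.tg.zcu l2).mem_sup (mem_sup_right hx)
      obtain ⟨m, n1, n2⟩ := k.sat.NS_mor hX' i1.symm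
      have n3 := n1.sub k.sub
      have hz : ∀ x ∈ P ⊔ X, (l⁻¹ * g) x ∈ normalizerIn S X' := fun x hx =>
        z1.mem_NS le_sup_right i1.maps hx (sup_le (hP.trans (NS_le_normalizer T X)) le_normalizer hx)
      obtain ⟨c, c1, c2⟩ := (hM.ni sN sM ((NS_le_normalizer_NS (sc_le_normalizer h.sc) X))).inv.fra hP
        (hN'.mor (hP.trans h0) ⟨_, n1.mul z1 hz, fun _ _ => rfl, i1.maps.trans n2, mem_top _⟩)
      have lT := sc_maps h.sc l1 le_sup_left
      have m2 : Maps l (normalizerIn T X') (normalizerIn T X) := fun x => ⟨fun hx => by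
        have k1 := (lT x).1 hx.1
        have := (l1.homOn.inv l1.maps_img).mem_normalizer ((m1.le_iff l1.maps_img).2 hX1) m1.symm
          (mem_img_of_mem _ (mem_sup_left k1)) hx.2
        exact ⟨k1, by simpa using this⟩, fun hx => ⟨lT.mem hx.1, l1.homOn.mem_normalizer hX1 m1 (mem_sup_left hx.1) hx.2⟩⟩
      have h0' : normalizerIn T X' ≤ normalizerIn S X' := inf_le_inf_right _ h.le
      have m3 : Maps m (normalizerIn T X') (normalizerIn T X) := (n3.homOn.mono h0').maps_of_card (fun x hx =>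
        ⟨sc_mem h.sc n3 (h0' hx) hx.1, (n3.mem_NS (le_NS i1.le') n2 (h0' hx) hx.2).2⟩) m2.card_eq.ge
      have j1 := n3.mono (sup_le h0' (le_NS i1.le'))
      have j2 := j1.homOn.maps_sup m3 n2
      have j3 : Iso D (l * m⁻¹) (normalizerIn T X) (normalizerIn T X) := ⟨hN.mor h0 ⟨_, l1.mul (j1.inv j2) fun x hx =>
        sup_le ((NS_le T X').trans le_sup_left) hX1 (j2.inv_mem hx), fun _ _ => rfl, n2.symm.trans m1, mem_top _⟩, m3.symm.trans m2⟩
      refine ⟨_, (c1.sub hND).trans j3, c2.congr fun x hx => ?_⟩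
      simp [g2 x hx]
  haveI := hw.finite
  exact ⟨_, hw.ni_OP, sub_trans (MG_sub _ _ _) (k.ppi.sub_of_le sM (sub_trans hM.sub hN'.sub) (NS_le T X))⟩

theorem comp_nrm (hC : C.IsComponentIn F p) (hE : NI E F p) (h : Cz F C T) (hD : IsNK F T ⊤ D) : C.IsComponentIn D p := by
  obtain ⟨Z, hZ⟩ := hE.exists_isCF
  haveI := hZ.ni.finite
  haveI := hD.finite
  have h1 := comp_ni_of_le hC hZ.ni (hC.2.2.1.ge.trans (hE.hyp_le_CSE h (comp_le hC)))
  have h2 := hZ.ni.toWN.of_sub (hE.satF.normalizer (fn_of_sc hE.sc) hD) (sub_iff_perm.2 fun P f hf => hD.mor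
    (hf.le.trans ((CSE_le E F p).trans (hD.eq ▸ CS_le_NK S T ⊤))) ((hZ.mor P f hf).mono_K bot_le)) hD.sub
  exact component_of_sn (comp_ni_of_le h1 hZ.ni.satE.ni_OP (comp_le h1)) h2.ni_OP.sn

theorem comp_cz_sup (hC : C.IsComponentIn F p) (hE : NI E F p) (h : Cz F C T) (hX : F.IsNormal X) : Cz F C (T ⊔ X) := by
  obtain ⟨D, hD, sD, h1⟩ := hE.satF.exists_nrm hE.le (sc_le_normalizer hE.sc)
  exact (component_cz (comp_nrm hC hE h hD) sD (normal_sup h1 (hD.normal_of_normal hX hX.1))).up hD.sub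

omit [Finite S] [Fact p.Prime] in
/-- All conjugates of `Y` are self-centralizing in `TY`. -/
def TY (F : FusionSystem S) (T Y : Subgroup Ω) : Prop := ∀ f W, Iso F f Y W → centralizerIn (T ⊔ W) W ≤ W

omit [Finite S] [Fact p.Prime] in
theorem TY.mono (h : TY F T Y) (hT : F.StronglyClosed T) (h1 : Y ≤ X) (h2 : X ≤ T ⊔ Y) : TY F T X := fun f W hf x hx => by
  have hi := hf.restrict h1
  have k : img f Y ≤ W := (hi.maps.le_iff hf.maps).2 h1
  refine k (h f _ hi ⟨(show T ⊔ W ≤ _ from sup_le le_sup_left fun y hy => ?_) hx.1, centralizer_le k hx.2⟩)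
  obtain ⟨z, hz, rfl⟩ := hf.maps.exists_eq hy
  obtain ⟨t, ht, u, hu, rfl⟩ := (mem_sup_of_le_normalizer_left ((h1.trans hf.le).trans (sc_le_normalizer hT))).1 (h2 hz)
  have ht' : t ∈ X := (X.mul_mem_cancel_right (h1 hu)).1 hz
  rw [hf.homOn t ht' u (h1 hu)]
  exact mul_mem (mem_sup_left (sc_mem hT hf.mor ht' ht)) (mem_sup_right (hi.mem hu))

theorem Sat.ty_of_fn (hF : Sat F p) (hT : F.StronglyClosed T) (hX : F.IsFullyNormalized X) : TY F T (normalizerIn T X ⊔ X) := by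
  intro f W hf x hx
  have hi := hf.restrict le_sup_right
  obtain ⟨g, g1, g2⟩ := hF.NS_mor hX hi.symm
  have h0 : normalizerIn T (img f X) ≤ normalizerIn S (img f X) := inf_le_inf_right _ hT.1
  haveI := finite_of_le hT.1
  have m := (hf.homOn.mono le_sup_left).maps_of_card (Q := normalizerIn T (img f X)) (fun y hy =>
    ⟨sc_mem hT hf.mor (mem_sup_left hy) hy.1, hf.homOn.mem_normalizer le_sup_right hi.maps (mem_sup_left hy) hy.2⟩)
    ((g1.homOn.mono h0).card_le fun y hy => ⟨sc_mem hT g1 (h0 hy) hy.1, (g1.mem_NS (le_NS hi.le') g2 (h0 hy) hy.2).2⟩)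
  have e := hf.maps.unique (hf.homOn.maps_sup m hi.maps)
  subst e
  obtain ⟨t, ht, u, hu, rfl⟩ := (mem_sup_of_le_normalizer_left (hi.le'.trans (sc_le_normalizer hT))).1
    (sup_le le_sup_left (sup_le_sup_right (NS_le _ _) _) hx.1)
  refine mul_mem (mem_sup_left ⟨ht, ?_⟩) (mem_sup_right hu)
  exact (Subgroup.mul_mem_cancel_right _ (le_normalizer hu)).1 (centralizer_le_normalizer _ (CS_anti _ le_sup_right hx).2)

/-- A version of the `A × B`-lemma. -/
theorem Sat.climb (hF : Sat F p) (hT : F.StronglyClosed T)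
    (h : ∀ (V : Subgroup Ω) (C : FusionSystem V), C.Quasisimple p → C.IsSubsystemOf F → ¬ Cz F C T) :
    ∀ Y ≤ S, TY F T Y → ∀ (V : Subgroup Ω) (C : FusionSystem V), C.Quasisimple p → C.IsSubsystemOf F → ¬ Cz F C Y := by
  refine down_induction fun Y hY ih h1 V C hC hCF hz => ?_
  haveI := finite_of_le (sub_le hCF)
  obtain ⟨g, W, hW, g1, g2⟩ := hF.exists_NS_mor hY
  have hV := (hz.le_CS (sub_le hCF)).trans (CS_le_NS S Y)
  obtain ⟨C', e⟩ := exists_fiso C (g1.homOn.mono hV) (fun x _ e => g.injective (e.trans g1.homOn.map_one.symm)) rfl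
  obtain ⟨k1, k2⟩ := hz.conj_fiso hCF g1 hV (le_NS hY) g2 e
  have k3 := e.qs (hF.pg.to_le (sub_le hCF)) hC
  have hi : Iso F g Y W := ⟨g1.mono (le_NS hY), g2⟩
  have h2 : TY F T W := fun f W' hf => h1 _ W' (hi.trans hf)
  by_cases hTW : T ≤ W
  · exact h _ C' k3 k1 (k2.mono hTW)
  obtain ⟨M, hM, -⟩ := exists_normalizerSystem F hW.1
  have sM := hF.normalizer hW hM
  have nM := hM.normal (le_NS hW.1)
  obtain ⟨Z, hZ, -⟩ := exists_centralizerSystem M (le_NS hW.1)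
  have h3 : W < W ⊔ T ⊓ normalizerIn S W := by
    obtain ⟨t, t1, t2, t3⟩ := exists_mem_normalizer_not_mem hF.pg hW.1 hT.1 (hW.1.trans (sc_le_normalizer hT)) hTW
    exact left_lt_sup.2 fun k => t2 (k ⟨t1, hT.1 t1, t3⟩)
  have h4 : W ⊔ T ⊓ normalizerIn S W ≤ T ⊔ W := sup_le le_sup_right (inf_le_left.trans le_sup_left)
  have h5 : W ⊔ T ⊓ normalizerIn S W ≤ S := sup_le hW.1 (inf_le_left.trans hT.1)
  haveI := finite_of_le h5
  haveI := finite_of_le (sub_le k1)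
  have hV' := (k2.le_CS (sub_le k1)).trans (CS_le_NS S W)
  have k4 := hM.cz le_rfl (le_NS hW.1) hV' k2
  have k5 := hZ.sub_of_cz k4 hV'
  refine ih _ h5 (hi.card_eq ▸ card_lt_card h3) (h2.mono hT h3.le h4) _ C' k3 k1 (((hZ.ni_bot sM nM).cz_up
    (sM.sc_sup (sc_of_normal nM) (sc_sub hM.sub hT)) ⟨hF.pg.to_le (sub_le k1), k3.1⟩ k3.2.1 k5
    ((cz_of_central (hZ.central (Z := (W ⊔ T ⊓ normalizerIn S W) ⊓ centralizerIn (normalizerIn S W) W) (fun x hx => h2 1 W (iso_one F hW.1) ⟨h4 hx.1, hx.2.2⟩) inf_le_right)).sub k5)).up hM.sub)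

theorem GF.comp_nrm (h : GF D F p) (hX : F.IsFullyNormalized X) {M : FusionSystem R} (hM : IsNK F X ⊤ M)
    (hC : C.IsComponentIn M p) : C.IsSubsystemOf D := by
  have hF := h.ni.satF
  haveI := hM.finite
  obtain ⟨Z, h1, h2⟩ := h.ni.exists_nrm hX hM
  rcases comp_ni hC h1 with k | k
  · exact sub_trans (comp_sub k) h2
  exact absurd ((comp_cz_sup hC h1 k (hM.normal (hM.le_T le_top))).up hM.sub) (hF.climb h.ni.sc
    (fun V C hC hCF => h.not_cz hC (sub_le hCF)) _ (sup_le ((NS_le _ _).trans h.ni.le) hX.1) (hF.ty_of_fn h.ni.sc hX) V C hC.2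
    (sub_trans (comp_sub hC) hM.sub))

theorem Lay.comp_nrm_le (h : Lay E F p) (hX : F.IsFullyNormalized X) {M : FusionSystem R} (hM : IsNK F X ⊤ M)
    (hC : C.IsComponentIn M p) : V ≤ T := by
  obtain ⟨D, hD, -⟩ := h.exists_cp
  haveI := h.ni.finite
  haveI := finite_of_le (core_le F)
  have := hyp_mono (p := p) (GF.comp_nrm ⟨T, E, h, hD⟩ hX hM hC)
  rw [hC.2.2.1, hD.hyp_eq, hyp_inner (h.ni.satF.pg.to_le (core_le F)), bot_sup_eq] at this
  exact this.trans (hyp_le E p)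

/-- Balance for the layer. -/
theorem Lay.balance (h : Lay E F p) (hX : F.IsFullyNormalized X) {M : FusionSystem R} (hM : IsNK F X ⊤ M) (hD : Lay D M p) :
    D.IsSubsystemOf E := by
  haveI := hM.finite
  obtain ⟨Z, h1, h2⟩ := h.ni.exists_nrm hX hM
  exact sub_trans (hD.min _ Z h1 fun V C hC => comp_sub (comp_ni_of_le hC h1
    (le_inf (h.comp_nrm_le hX hM hC) ((comp_le hC).trans hM.T_le_normalizer)))) h2

theorem IsNK.constrained_top (h : IsNK F Q ⊤ E) (hF : Sat F p) (hc : F.IsConstrained p) (hQ : F.IsFullyNormalized Q) :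
    E.IsConstrained p := by
  haveI := h.finite
  have hE := hF.normalizer hQ h
  refine hE.constrained_iff.2 fun ⟨V, C, hC⟩ => ?_
  haveI := finite_of_le (comp_le hC)
  have := le_bot_iff.1 ((hF.lay_bot (hF.constrained_iff.1 hc)).comp_nrm_le hQ h hC)
  exact qs_not_abelian (hE.pg.to_le (comp_le hC)) hC.2 (by simp [this])

theorem IsNK.constrained_iff_bot (h : IsNK F Q ⊤ E) (h' : IsNK F Q ⊥ D) (hF : Sat F p) (hQ : F.IsFullyNormalized Q) :
    E.IsConstrained p ↔ D.IsConstrained p := by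
  haveI := h.finite
  have hE := hF.normalizer hQ h
  have hT := h.le_T le_top
  obtain ⟨Z, hZ, -⟩ := exists_centralizerSystem E hT
  have h1 := hZ.ni_bot hE (h.normal hT)
  refine (h'.same (h.nk_bot le_rfl hZ)).elim (C := fun D => E.IsConstrained p ↔ D.IsConstrained p) ⟨h1.constrained, fun k => ?_⟩
  refine hE.constrained_iff.2 fun ⟨V, C, hC⟩ => h1.satE.constrained_iff.1 k ⟨V, C, comp_ni_of_le hC h1 ?_⟩
  exact (component_cz hC hE (h.normal hT)).le_CS (comp_le hC)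

theorem Sat.charP_of (hF : Sat F p) (h : ∀ X : Subgroup Ω, Nat.card X = p → F.IsFullyNormalized X → ∀ C : FusionSystem (centralizerIn S X),
    IsNK F X ⊥ C → C.IsConstrained p) (hQ : F.IsFullyNormalized Q) (h0 : Q ≠ ⊥) (hE : IsNK F Q ⊤ E) : E.IsConstrained p := by
  haveI := finite_of_le hQ.1
  haveI := hE.finite
  have hT : T = normalizerIn S Q := hE.eq.trans (NK_top S Q)
  subst hT
  have h1 := inf_centralizer_ne_bot (hF.pg.to_le (NS_le S Q)) (hF.pg.to_le hQ.1) (NS_le_normalizer S Q) h0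
  haveI := finite_of_le (inf_le_left : Q ⊓ Subgroup.centralizer (normalizerIn S Q : Set Ω) ≤ Q)
  obtain ⟨⟨z, hz⟩, h2⟩ := exists_prime_orderOf_dvd_card' p
    (((hF.pg.to_le (inf_le_left.trans hQ.1)).card_eq_or_dvd.resolve_left fun e => h1 (card_eq_one.1 e)))
  have h3 : zpowers z ≤ Q ⊓ Subgroup.centralizer (normalizerIn S Q : Set Ω) := (zpowers_le (G := Ω)).2 hz
  have h4 := h3.trans inf_le_left
  obtain ⟨g, X, hX, g1, g2⟩ := hF.exists_NS_mor (h4.trans hQ.1)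
  have h5 : normalizerIn S Q ≤ centralizerIn S (zpowers z) := le_inf (NS_le S Q) (le_centralizer_iff.1 (h3.trans inf_le_right))
  have g3 := g1.mono (h5.trans (CS_le_NS S _))
  have g4 := (g3.mono (le_NS hQ.1)).maps_img
  set Q' := img g Q
  have hQ' := fn_iso hQ g3 g4
  have g5 := fn_maps_NS hQ g3 g4
  have h6 : normalizerIn S Q' ≤ centralizerIn S X := fun y hy => by
    obtain ⟨x, hx, rfl⟩ := g5.exists_eq hy
    exact g3.mem_CS (h4.trans (le_NS hQ.1)) g2 hx (h5 hx).2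
  obtain ⟨E', hE', -⟩ := exists_normalizerSystem F hQ'.1
  obtain ⟨D, hD, -⟩ := exists_centralizerSystem F hX.1
  have sD := hF.centralizer (hF.fc_of_fn hX) hD
  have h7 := (le_NS hQ'.1).trans h6
  have h8 : D.IsFullyNormalized Q' := fn_iff.2 ⟨h7, fun f R hf => ((card_le_card (K := normalizerIn S R) (inf_le_inf_right _ (CS_le S X))).trans
    ((fn_iff.1 hQ').2 f R (hf.sub hD.sub))).trans (card_le_card (le_inf h6 (NS_le_normalizer S Q')))⟩
  obtain ⟨M, hM, -⟩ := exists_normalizerSystem D h7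
  obtain ⟨Z, hZ, -⟩ := exists_centralizerSystem D h7
  have h9 := (hM.constrained_iff_bot hZ sD h8).1 (hM.constrained_top sD (h X (by
    rw [← g2.card_eq, Nat.card_zpowers, ← h2, orderOf_mk]) hX D hD) h8)
  exact (hE'.fiso hE (Iso.symm ⟨g3, g5⟩) g4.symm).constrained (hF.pg.to_le (NS_le S Q'))
    ((hE'.constrained_iff_bot (hD.nk_bot ((g2.le_iff g4).2 h4) hZ) hF hQ').2 h9)

end Cfsg.Agent.Fus
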