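import Cfsg.Agent.Fus.OutD
import Cfsg.Agent.Fus.HnKS
import Cfsg.Agent.Spor.HnG
import Cfsg.Agent.Spor.MAct

/-! The Harada-Norton group: automorphisms of `K = 2.HS.2` (`data`), suborbits (`orbs`), matrix relations and the
outer automorphism `σ` (helper26). -/

set_option Elab.async false
set_option maxRecDepth 100000
set_option exponentiation.threshold 100000

namespace Cfsg.Agent.Fus.HnOut

open Subgroup Cfsg.Agent.Comp Cfsg.Agent.Known Cfsg.Agent.Spor HnKS

instance finK0 : Finite HnK.G := mdl.finite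

noncomputable def z : HnK.G := W y [0, 0]

theorem hz (k : HnK.G) : k * z = z * k :=
  mem_centralizer_singleton_iff.1 ((show genL y (List.range 5) ≤ centralizer {z} from genL_le fun x hx =>
    mem_centralizer_singleton_iff.2 (by
      simpa [z, mul_assoc] using mdl.eq (u := [x, 0, 0]) (v := [0, 0, x]) (by revert x; decide +kernel)))
    (mdl.top ▸ mem_top k))

theorem zz : z * z = 1 := by simpa [z, mul_assoc] using mdl.eq (u := [0, 0, 0, 0]) (v := []) (by decide +kernel)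

theorem z1 : z ≠ 1 := mdl.ne (u := [0, 0]) (v := []) (b := 0) (by decide +kernel)

theorem oc : orderOf (W y [6]) = 11 := (mdl.rel_spec (by norm_num) rel).2.1

theorem hC (k : HnK.G) (h : k * W y [6] = W y [6] * k) : k ∈ zpowers (W y [6]) ∨ k * z ∈ zpowers (W y [6]) := by
  have e1 : y 5 = W y [6] ^ 6 * z := by
    simpa [z, pow_succ, mul_assoc] using mdl.eq (u := [5]) (v := [6, 6, 6, 6, 6, 6, 0, 0]) (by decide +kernel)
  have h1 : k ∈ zpowers (y 5) := mdl.cent tpc k (by
    rw [pow_one, e1, ← mul_assoc, (show Commute k _ from h).pow_right, mul_assoc, hz, mul_assoc])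
  obtain ⟨j, rfl⟩ := (mem_powers_iff_mem_zpowers.2 h1 : ∃ j, y 5 ^ j = k)
  beta_reduce
  rw [e1, (show Commute _ z from hz _).mul_pow]
  have h2 := pow_mem (pow_mem (mem_zpowers (W y [6])) 6) j
  have h3 : ∀ i, z ^ (2 * i) = 1 := fun i => by rw [pow_mul, pow_two, zz, one_pow]
  obtain ⟨i, rfl | rfl⟩ := j.even_or_odd'
  · rw [h3, mul_one]; exact .inl h2
  · rw [pow_succ z, h3, one_mul, mul_assoc, zz, mul_one]; exact .inr h2

theorem data : OutData (W y [6]) (y 7) (W y [8]) (W y [8, 0, 0]) 1 :=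
  outData' mdl (by norm_num) rel top (fun α => by
    have := exists_norm_aut2 (r := 1) (R := [1]) (t := W y mw) (by norm_num) HnK.card (by decide +kernel) oc
      (by
        have := mdl.eq (u := mw ++ [6]) (v := [6] ++ [6] ++ mw) (by decide +kernel)
        rwa [W_append, W_append, W_append, ← pow_two] at this) hz zz hC α
    rwa [← W_append, mdl.eq (u := mw ++ mw) (v := [7]) (by decide +kernel), W_cons _ 7, W_nil, mul_one] at this) tpt

open HnG

noncomputable def d (i : ℕ) : Cfsg.Spor.HN := ev (Dce.gD ι HnL.y T 10) (Dce.pw HnD.tab.at (getL HnD.nm 0 i))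

theorem orbs : Dce.Orbs ι (fun i => d i • basePt ι.range) HnD.sz.length HnD.sz :=
  (cert.main' (n := 1539000) gen (by decide) ρ (invT ZMod.val _ _ ts) (fun k a k' => invT_mul _ _ (cE k) (cE k') a)
    (rρ.sep (mc := 7) (by decide +kernel) ts h1 rfl (fun i => Dce.pw HnD.tab.at (getL HnD.nm 0 i))
      (vals := [[(true, 0), (true, 0)], [(false, 0), (true, 0)], [(false, 4), (false, 0)], [(true, 2), (false, 0)], [(false, 1), (false, 0)], [(false, 0), (false, 0)], [(false, 3), (false, 0)], [(false, 4), (true, 0)], [(true, 3), (true, 0)]])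
      (by decide +kernel) (by decide +kernel) (by decide))
    (by decide +kernel) rfl (fun k hk => injψ (hk.trans ψ.map_one.symm)) (by decide) (by decide) HnK.card
    (by decide +kernel)).1

theorem m0 : MAct HnM.D ρ HnM.As 7 g := rρ.mAct main.2.1 7 (by decide +kernel)

theorem r1 : ev g [5, 0] = ev g [0, 5, 5, 5] :=
  m0.eq (a := .mul (.lt 5) (.lt 0)) (b := .mul (.mul (.lt 0) (.lt 5)) (.sq (.lt 5))) (by decide) (by decide +kernel)

theorem n1 : ev g [5] ≠ ev g [6] := m0.ne (a := .lt 5) (b := .lt 6) (by decide) (by decide +kernel)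

theorem n2 : ev g [4, 5, 5, 4, 5, 5, 4, 5, 5] ≠ ev g [0, 1] :=
  m0.ne (a := .mul (.sq (.mul (.lt 4) (.sq (.lt 5)))) (.mul (.lt 4) (.sq (.lt 5)))) (b := .mul (.lt 0) (.lt 1))
    (by decide) (by decide +kernel)

def sw : List (List ℕ) := [[0], [1], [2], [3], [4, 0, 0], [5, 5], [6, 6]]

def es : List Ex := [.mul (.sq (.mul (.mul (.lt 4) (.sq (.lt 0))) (.sq (.lt 5)))) (.mul (.mul (.lt 4) (.sq (.lt 0))) (.sq (.lt 5))),
  .mul (.sq (.sq (.sq (.lt 5)))) (.sq (.lt 5)),
  .mul (.mul (.lt 1) (.sq (.lt 5))) (.mul (.lt 0) (.sq (.sq (.lt 5)))),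
  .mul (.mul (.sq (.lt 6)) (.lt 3)) (.mul (.sq (.lt 5)) (.lt 2))]

theorem hes : ∀ r ∈ es.map Ex.w, ev g r = 1 := m0.rels (by decide) (by decide +kernel)

theorem hι {w : List ℕ} (h : ∀ x ∈ w, x < 5) : ι (ev HnK.g w) = ev g w := by
  rw [map_ev]
  exact ev_congr fun x hx => (exι.choose_spec x (h x hx)).trans (by
    rw [renG, show getL jl [] x = [x] by have := h x hx; clear hx h; revert x; decide, ev_one])

theorem Wy {w : List ℕ} (h : ∀ x ∈ w, x < 5) : W y w = (ev HnK.g w)⁻¹ := by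
  induction w with
  | nil => simp
  | cons a w ih =>
    rw [W_cons, ih fun x hx => h x (List.mem_cons_of_mem _ hx), ev_cons, mul_inv_rev, HnKS.y,
      show nthL [0] wds a = [a] by have := h a List.mem_cons_self; clear h ih; revert a; decide, ev_one]

theorem eqK {u v : List ℕ} (h : (∀ x ∈ u, x < 5) ∧ (∀ x ∈ v, x < 5) ∧ eqB act [8, 7, 3, 377, 0] u v = true) :
    ev HnK.g u = ev HnK.g v := inv_injective ((Wy h.1).symm.trans ((mdl.eq h.2.2).trans (Wy h.2.1)))

theorem exσ : ∃ σ : Cfsg.Spor.HN →* Cfsg.Spor.HN, ∀ i < 7, σ (g i) = renG g sw i :=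
  lifts_of_ltOk lt (rels := HnG.rels) (by decide +kernel) _ _ (renG_rels (hi.rels
    (bs := HnK.rels.map (renW sw) ++ es.map Ex.w) (List.forall_mem_append.2 ⟨fun r hr => by
      have h : (∀ x ∈ r, x < 5) ∧ (∀ x ∈ [], x < 5) ∧ eqB act [8, 7, 3, 377, 0] r [] = true := by
        revert r; decide +kernel
      rw [← hι h.1, eqK h, ev_nil, map_one], hes⟩) (by decide +kernel) (by decide +kernel)))

instance finG : Finite Cfsg.Spor.HN := Nat.finite_of_card_ne_zero (by rw [main.2.2.2.2.1]; decide)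

theorem eT : T = g 5 := (congrArg (ev g) (show getL R [] 10 = [5] by decide +kernel)).trans (ev_one _ _)

theorem T5 : T ^ 5 = 1 := by
  rw [eT]; simpa [pow_succ, mul_assoc] using hg [5, 5, 5, 5, 5] (by decide)

theorem aut : ∃ σ : MulAut Cfsg.Spor.HN, σ (ι (W y [6])) = ι (W y [6]) ∧ σ (ι (y 7)) = ι (y 7) ∧
    σ (ι (W y [8])) = ι (W y [8, 0, 0]) := by
  obtain ⟨σ, h⟩ := exσ
  have h1 : ∀ u v : List ℕ, (∀ x ∈ u, x < 5) ∧ (∀ x ∈ renW sw u, x < 5) ∧ (∀ x ∈ v, x < 5) ∧
      eqB act [8, 7, 3, 377, 0] (renW sw u) v = true → σ (ι (ev HnK.g u)⁻¹) = ι (ev HnK.g v)⁻¹ := fun u v e => by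
    rw [map_inv, map_inv, map_inv, hι e.1, map_ev, ev_congr (g' := renG g sw) fun x hx => h x ((e.1 x hx).trans (by decide)),
      ev_renG, ← hι e.2.1, eqK e.2]
  have e1 : σ (ι (W y [6])) = ι (W y [6]) := by
    rw [W_cons, W_nil, mul_one]; exact h1 _ _ (by decide +kernel)
  have e2 : σ (ι (y 7)) = ι (y 7) := h1 _ _ (by decide +kernel)
  have e3 : σ (ι (W y [8])) = ι (W y [8, 0, 0]) := by
    rw [mdl.eq (u := [8, 0, 0]) (v := nthL [0] wds 8 ++ [0, 0]) (by decide +kernel), Wy (w := _ ++ _) (by decide +kernel),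
      W_cons, W_nil, mul_one]
    exact h1 _ _ (by decide +kernel)
  have hs : σ.range = ⊤ := gen _ (fun k => (show ⊤ ≤ σ.range.comap ι from mdl.top.ge.trans (genL_le fun x hx =>
    ⟨_, h1 (nthL [0] sw x) _ (by revert x; decide +kernel)⟩)) trivial) ⟨g 5 ^ 3, by
      rw [map_pow, h 5 (by decide), show renG g sw 5 = ev g [5, 5] from rfl, ev_two, ← eT, ← pow_two, ← pow_mul,
        pow_succ, T5, one_mul]⟩
  exact ⟨MulEquiv.ofBijective σ (Finite.surjective_iff_bijective.1 (MonoidHom.range_eq_top.1 hs)), e1, e2, e3⟩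

end Cfsg.Agent.Fus.HnOut
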