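import Cfsg.Agent.Fus.HnOA

/-! The outer automorphism group of the Harada-Norton group has order 2 (helper26). -/

set_option maxRecDepth 100000
set_option exponentiation.threshold 100000

namespace Cfsg.Agent.Fus.HnOut

open Subgroup Cfsg.Agent.Comp Cfsg.Agent.Known Cfsg.Agent.Spor HnKS HnG

theorem inj : Function.Injective ι := main.2.2.1

theorem d0 : d 0 = 1 := by rw [d, show getL HnD.nm 0 0 = 0 from rfl, Dce.pw_zero, ev_nil]

theorem d1 : d 1 = T := by
  rw [d, show Dce.pw HnD.tab.at (getL HnD.nm 0 1) = [10] by decide +kernel, ev_one, Dce.gD_t]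

theorem centc {a : Cfsg.Spor.HN} (h : a * ι (W y [6]) = ι (W y [6]) * a) : a ∈ ι.range := by
  obtain ⟨i, hi, k, v, e, -, h3⟩ := dc_card orbs (zpowers (W y [6])) (g := a) fun u hu =>
    mem_centralizer_singleton_iff.1 ((zpowers_le (H := (centralizer {a}).comap ι)).2
      (mem_centralizer_singleton_iff.2 h.symm) hu)
  rw [Nat.card_zpowers, oc, HnK.card] at h3
  obtain rfl : i = 0 := by clear e; revert i; decide
  rw [e, d0, mul_one, ← map_mul]
  exact ⟨_, rfl⟩

theorem hX : ι (HnK.g 0) * T = T ^ 3 * ι (HnK.g 0) := by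
  have := r1
  rw [← ev_one HnK.g 0, hι (by decide), eT]
  simpa [pow_succ, mul_assoc] using this

theorem zX : z = HnK.g 0 * HnK.g 0 := by
  rw [eq_inv_of_mul_eq_one_left zz, z, Wy (by decide), inv_inv, ev_two]

theorem hZ : ι z * T = T⁻¹ * ι z := by
  rw [zX, map_mul, mul_assoc, hX, ← mul_assoc, conj_pow_of hX, mul_assoc, mul_left_inj, eq_inv_iff_mul_eq_one,
    ← pow_succ, show 3 * 3 + 1 = 5 * 2 from rfl, pow_mul, T5, one_pow]

theorem centZ : centralizer {ι z} = ι.range := by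
  have h : ι.range ≤ centralizer {ι z} := by
    rintro _ ⟨k, rfl⟩
    rw [mem_centralizer_singleton_iff, ← map_mul, hz, map_mul]
  refine (main.2.2.2.2.2.1.le_iff.1 h).resolve_left fun e => n1 ?_
  have h1 := mem_centralizer_singleton_iff.1 (e ▸ mem_top T : T ∈ centralizer {ι z})
  rw [hZ, mul_left_inj] at h1
  rw [ev_one, ev_one, ← eT, h1, eT, inv_eq_iff_mul_eq_one]
  simpa using hg [6, 5] (by decide)

noncomputable abbrev U : Subgroup HnK.G := genW HnL.y (sing [5, 6, 7, 8, 9])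

theorem hU {u : HnK.G} (h : u ∈ U) : ι u * T = T * ι u :=
  mem_centralizer_singleton_iff.1 ((show U ≤ (centralizer {T}).comap ι from (genW_sing _ _).le.trans
    (genL_le fun x hx => mem_centralizer_singleton_iff.2 (by
      rw [comm x (by revert x; decide +kernel), show Dce.sgm HnD.sgc x = x by revert x; decide +kernel]))) h)

theorem cardU : Nat.card U = 126000 :=
  card_of_index (rψ.index_eq stabC (rψ.trans (by decide) HnO.otr)) HnK.card (by decide) (by decide)

theorem FdT : Ct.Fd ι T = U :=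
  (eq_of_le_of_card_ge (fun u hu => Ct.mem_Fd.2 ⟨u, hU hu⟩) (by
    rw [cardU, ← d1, Ct.card_Fd orbs (by decide) HnK.card (n := 126000) (by decide +kernel)])).symm

theorem normU {k : HnK.G} (h : ∀ u ∈ U, k⁻¹ * u * k ∈ U) : ∃ i < 4, (HnK.g 0 ^ i)⁻¹ * k ∈ U := by
  have h1 : ∀ x ∈ [5, 8, 9], (Ct.mvM HnO.nets 1408 11 [x]).testBit (ψ k 0) = false := fun x hx => by
    have h2 := (stabC _).1 (h _ (mem_genW HnL.y (w := [x]) (by revert x; decide)))
    rw [map_mul, map_mul, map_inv, Equiv.Perm.mul_apply, Equiv.Perm.mul_apply, Equiv.Perm.inv_eq_iff_eq,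
      rψ.map_ev (by clear h2; revert x; decide)] at h2
    exact Bool.eq_false_iff.2 fun e => (Ct.mvM_spec rψ.ok (by decide) _ _).1 e h2
  have h2 := congrArg (Nat.testBit · (ψ k 0)) (show ivl 0 1408 = Ct.mvM HnO.nets 1408 11 [5] |||
    Ct.mvM HnO.nets 1408 11 [8] ||| Ct.mvM HnO.nets 1408 11 [9] ||| appW HnO.nets (powW [0] 0) (Nat.shiftLeft 1 0) |||
    appW HnO.nets (powW [0] 1) (Nat.shiftLeft 1 0) ||| appW HnO.nets (powW [0] 2) (Nat.shiftLeft 1 0) |||
    appW HnO.nets (powW [0] 3) (Nat.shiftLeft 1 0) from Nat.eq_of_beq_eq_true (by decide +kernel))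
  simp only [Nat.testBit_or, h1 5 (by decide), h1 8 (by decide), h1 9 (by decide), ivl_testBit, Bool.false_or,
    appW_testBit' rψ.ok] at h2
  rw [decide_eq_true ⟨Nat.zero_le _, rψ.lt k (by decide)⟩, eq_comm] at h2
  have h3 : ∀ i, (Nat.shiftLeft 1 0).testBit ((ev (PP HnO.nets) (powW [0] i))⁻¹ (ψ k 0)) = true →
      (HnK.g 0 ^ i)⁻¹ * k ∈ U := fun i e => (stabC _).2 (by
    have := testBit_one_shiftLeft e
    rwa [ev_powW, ← rψ.map_ev (w := [0]) (by decide), ev_one, HnL.y, renG, show getL HnL.renK [] 0 = [0] from rfl,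
      ev_one, ← map_pow, ← map_inv, ← Equiv.Perm.mul_apply, ← map_mul] at this)
  simp only [Bool.or_eq_true] at h2
  rcases h2 with ((e | e) | e) | e <;> exact ⟨_, by decide, h3 _ e⟩

theorem n3 : ev g [4, 5, 5, 5, 4, 5, 5, 5, 4, 5, 5, 5] ≠ ev g [0, 1] :=
  m0.ne (a := .mul (.sq (.mul (.mul (.lt 4) (.lt 5)) (.sq (.lt 5)))) (.mul (.mul (.lt 4) (.lt 5)) (.sq (.lt 5))))
    (b := .mul (.lt 0) (.lt 1)) (by decide) (by decide +kernel)

theorem fixT {β : MulAut Cfsg.Spor.HN} (hβ : ∀ k, β (ι k) = ι k) : β ∈ Cfsg.Inn Cfsg.Spor.HN := by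
  obtain ⟨i, hi, k, v, e, h2, h3⟩ := dc_card orbs U (g := β T) fun u hu => by rw [← hβ u, ← map_mul, hU hu, map_mul]
  rw [cardU, HnK.card] at h3
  have ext : ∀ γ : MulAut Cfsg.Spor.HN, (∀ k, γ (ι k) = ι k) → β T = γ T → β = γ := fun γ h e =>
    MulEquiv.ext fun a => (gen (β.toMonoidHom.eqLocus γ.toMonoidHom) (fun k => (hβ k).trans (h k).symm) e).ge (mem_top a)
  obtain rfl | rfl : i = 0 ∨ i = 1 := by clear e h2; revert i; decide
  · rw [d0, mul_one, ← map_mul, ← hβ] at e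
    exact absurd (gen ι.range (fun k => ⟨k, rfl⟩) ⟨_, (β.injective e).symm⟩) main.2.2.2.2.2.1.1
  rw [d1, FdT] at h2
  rw [d1] at e
  obtain ⟨j, hj, h4⟩ := normU h2
  set a := HnK.g 0 ^ j
  have e1 : β T = ι a * (T * ι (a⁻¹ * k * v * a)) * (ι a)⁻¹ := by
    rw [e, map_mul _ _ a, map_mul _ _ v, ← mul_assoc T, ← mul_assoc T, ← hU h4, map_mul, map_inv]; group
  set s := a⁻¹ * k * v * a
  have c : ∀ k, ι z * ι k = ι k * ι z := fun k => by rw [← map_mul, ← hz, map_mul]
  have e2 : ι z * (T * ι s) = (T * ι s)⁻¹ * ι z := by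
    have := congrArg β hZ
    rw [map_mul, map_mul, map_inv, hβ, e1] at this
    calc ι z * (T * ι s) = (ι a)⁻¹ * (ι a * ι z) * (T * ι s) := by group
      _ = (ι a)⁻¹ * (ι z * (ι a * (T * ι s) * (ι a)⁻¹)) * ι a := by rw [← c]; group
      _ = (T * ι s)⁻¹ * (ι a)⁻¹ * (ι z * ι a) := by rw [this]; group
      _ = _ := by rw [c]; group
  rw [← mul_assoc, hZ, mul_assoc, c, ← mul_assoc, mul_left_inj, mul_inv_rev, inv_mul_eq_iff_eq_mul, ← mul_assoc,
    eq_mul_inv_iff_mul_eq] at e2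
  have h5 : ι s * T = T * ι s := hU (FdT ▸ Ct.mem_Fd.2 ⟨s⁻¹, by rw [e2, map_inv]⟩)
  have h6 : ι s ^ 2 = 1 := by
    rw [h5, mul_right_inj] at e2
    rw [pow_two]; nth_rewrite 1 [e2]; exact inv_mul_cancel _
  have h7 : ι s = 1 := by
    have := congrArg β T5
    rw [map_pow, map_one, e1, conj_pow, mul_inv_eq_one, mul_eq_left, (show Commute T (ι s) from h5.symm).mul_pow, T5,
      one_mul, pow_succ _ (2 * 2), pow_mul, h6, one_pow, one_mul] at this
    exact this
  have h8 : ∀ j, ι (HnK.g 0 ^ j) * T = T ^ 3 ^ j * ι (HnK.g 0 ^ j) := fun j => by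
    induction j with
    | zero => simp
    | succ j ih => rw [pow_succ', map_mul, mul_assoc, ih, ← mul_assoc, conj_pow_of hX, mul_assoc, pow_succ' 3]
  rw [h7, mul_one, h8, mul_inv_cancel_right, pow_eq_pow_mod _ T5] at e1
  have h9 : (β T * g 4) ^ 3 = 1 := by
    have h : g 4 = ι (ev HnK.g [4]) := ((hι (by decide)).trans (ev_one _ _)).symm
    rw [h, ← hβ, ← h, ← map_mul, ← map_pow, eT, MulEquiv.map_eq_one_iff]
    simpa [pow_succ, mul_assoc] using hg [4, 5, 4, 5, 4, 5] (by decide)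
  have h0 := hg [0, 1] (by decide)
  interval_cases j
  · rw [ext 1 (fun _ => rfl) (e1.trans (pow_one T))]; exact one_mem _
  · refine absurd ?_ n3
    rw [e1, eT] at h9
    rw [h0]; simpa [pow_succ, mul_assoc] using h9
  · refine ⟨ι z, (ext _ (fun k => ?_) ?_).symm⟩
    · rw [MulAut.conj_apply, c, mul_inv_cancel_right]
    · rw [e1, MulAut.conj_apply, hZ, mul_inv_cancel_right, eq_inv_iff_mul_eq_one]; exact T5
  · refine absurd ?_ n2
    rw [e1, eT] at h9
    rw [h0]; simpa [pow_succ, mul_assoc] using h9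

theorem out : Nat.card (Cfsg.Out Cfsg.Spor.HN) = 2 := by
  obtain ⟨σ, s1, s2, s3⟩ := aut
  have hc : orderOf (ι (W y [6])) = 11 := (orderOf_injective ι inj _).trans oc
  have h11 : ∀ w ∈ zpowers (W y [6]), w * w = 1 → w = 1 := fun w hw h => by
    obtain ⟨i, -, rfl⟩ := exists_pow_lt oc hw
    rw [← pow_add, ← two_mul, ← orderOf_dvd_iff_pow_eq_one, oc] at h
    exact orderOf_dvd_iff_pow_eq_one.1 (oc ▸ (Nat.Coprime.dvd_of_dvd_mul_left (by norm_num) h))
  refine Nat.card_eq_two_iff.2 ⟨1, QuotientGroup.mk σ, fun e => ?_, Set.eq_univ_of_forall fun x => ?_⟩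
  · obtain ⟨a, rfl⟩ := (QuotientGroup.eq_one_iff σ).1 e.symm
    obtain ⟨k, rfl⟩ := centc (mul_inv_eq_iff_eq_mul.1 s1)
    simp only [MulAut.conj_apply, ← map_inv, ← map_mul, inj.eq_iff, mul_inv_eq_iff_eq_mul] at s1 s2 s3
    have ht := (mdl.rel_spec (by norm_num) rel).2.2.1
    have hv : W y [8] ≠ W y [8, 0, 0] := mdl.ne (b := 0) (by decide +kernel)
    rcases hC k s1 with h | h
    · rw [noninner_pow (by norm_num) (by decide) oc ht h s2, one_mul, mul_one] at s3
      exact hv s3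
    · rw [eq_inv_of_mul_eq_one_left (noninner_pow (by norm_num) (by decide) oc ht h (by
        rw [mul_assoc, ← hz, ← mul_assoc, s2, mul_assoc])), inv_mul_eq_iff_eq_mul, ← mul_assoc, ← hz,
        mul_inv_cancel_right] at s3
      exact hv s3
  obtain ⟨α, rfl⟩ := QuotientGroup.mk_surjective x
  obtain ⟨a, ha⟩ := aut_fix_inv (z := ι z) (by norm_num) main.2.2.2.2.1 (by decide) hc
    (fun e => z1 (inj (e.trans ι.map_one.symm))) (by rw [← map_mul, zz, map_one]) (by rw [← map_mul, ← hz, map_mul])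
    (fun b h1 h2 => by
      obtain ⟨k, rfl⟩ := centc h1
      rw [← map_mul, ← map_mul, inj.eq_iff] at h1
      rw [← map_mul, ← ι.map_one, inj.eq_iff] at h2
      refine (hC k h1).imp (fun h => by rw [h11 k h h2, map_one]) fun h => congrArg ι ?_
      rw [eq_inv_of_mul_eq_one_left (h11 _ h (by rw [mul_assoc, ← mul_assoc z, ← hz, mul_assoc, zz, mul_one, h2])),
        inv_eq_of_mul_eq_one_left zz]) α
  obtain ⟨γ, hγ⟩ := exists_restrict inj (β := MulAut.conj a * α) fun k => by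
    rw [← centZ, mem_centralizer_singleton_iff, ← ha, ← map_mul, ← map_mul, ← map_mul, ← map_mul, hz]
  obtain ⟨k, hk⟩ := data.cases γ
  have h1 : ∀ u, (MulAut.conj (ι k) * (MulAut.conj a * α)) (ι u) = ι ((MulAut.conj k * γ) u) := fun u => by
    rw [MulAut.mul_apply, ← hγ]; simp
  rw [← out_mk_conj a α, ← out_mk_conj (ι k) (_ * α)]
  rcases hk _ rfl with e | ⟨e1, e2, e3⟩
  · exact .inl ((QuotientGroup.eq_one_iff _).2 (fixT fun u => by rw [h1, e]; rfl))
  refine .inr (QuotientGroup.eq.2 (fixT fun u => ?_)).symm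
  rw [MulAut.mul_apply, MulAut.inv_def, MulEquiv.symm_apply_eq]
  refine (show ⊤ ≤ ((MulAut.conj (ι k) * (MulAut.conj a * α)).toMonoidHom.comp ι).eqLocus (σ.toMonoidHom.comp ι) from
    data.top.ge.trans ((closure_le _).2 ?_)) (mem_top u)
  rintro _ (rfl | rfl | rfl)
  exacts [(h1 _).trans ((congrArg ι (e1.trans (pow_one _))).trans s1.symm), (h1 _).trans ((congrArg ι e2).trans s2.symm),
    (h1 _).trans ((congrArg ι e3).trans s3.symm)]

end Cfsg.Agent.Fus.HnOut
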