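import Cfsg.Agent.Fus.Mx2
import Cfsg.Agent.BG4.Meta
import Cfsg.Agent.Gen.Metacyc
import Cfsg.Agent.PGrp.Meta2

/-! Huppert's criterion `|G : ℧₁(G)| ≤ p²` for metacyclic `p`-groups and `p`-central groups. -/

set_option autoImplicit false

universe u

namespace Cfsg.Agent.Fus

open Subgroup Cfsg.Agent.BG Cfsg.Agent.PGrp
open scoped commutatorElement

variable {G : Type*} [Group G] {p k : ℕ} {x y g v : G} {C H T U : Subgroup G}

theorem comm_pow_left (h1 : Commute x ⁅x, ⁅x, v⁆⁆) (h2 : Commute ⁅x, ⁅x, v⁆⁆ ⁅x, v⁆) (k : ℕ) :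
    ⁅x ^ k, v⁆ = ⁅x, ⁅x, v⁆⁆ ^ k.choose 2 * ⁅x, v⁆ ^ k := by
  induction k with
  | zero => simp
  | succ k ih =>
    rw [show ⁅x ^ (k + 1), v⁆ = x * ⁅x ^ k, v⁆ * x⁻¹ * ⁅x, v⁆ by simp only [commutatorElement_def, pow_succ']; group, ih,
      ← mul_assoc, (h1.pow_right _).eq, mul_assoc _ x, mul_assoc _ (x * _), ← conj_pow,
      show x * ⁅x, v⁆ * x⁻¹ = ⁅x, ⁅x, v⁆⁆ * ⁅x, v⁆ by rw [commutatorElement_def x ⁅x, v⁆]; group, h2.mul_pow,
      Nat.choose_succ_succ, Nat.choose_one_right, add_comm k, pow_add, pow_succ]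
    simp only [mul_assoc]

/-- `|C : ℧₁(C)| ≤ k` -/
def Sm (p k : ℕ) (C : Subgroup G) : Prop := ∀ U : Subgroup G, (∀ g ∈ C, g ^ p ∈ U) → U.relIndex C ≤ k

theorem Sm.quot (h : Sm p k (⊤ : Subgroup G)) (T : Subgroup G) [T.Normal] : Sm p k (⊤ : Subgroup (G ⧸ T)) := fun U hU => by
  have := h (U.comap (QuotientGroup.mk' T)) fun g _ => hU g trivial
  rwa [relIndex_top_right, index_comap_of_surjective _ (QuotientGroup.mk'_surjective T), ← relIndex_top_right] at this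

theorem Sm.of_top (h : Sm p k (⊤ : Subgroup C)) : Sm p k C := fun U hU =>
  (relIndex_top_right _).ge.trans (h (U.subgroupOf C) fun g _ => hU g g.2)

variable [Finite G] [hp : Fact p.Prime]

theorem meta_step (hG : IsPGroup p G) [T.Normal] (h1 : T ≤ ⁅(⊤ : Subgroup G), ⊤⁆) (h2 : #T = p)
    (hd : ¬ #(⁅(⊤ : Subgroup G), (⊤ : Subgroup G)⁆ : Subgroup G) ≤ p) (h : IsMetacyclic (G ⧸ T)) : IsMetacyclic G := by
  obtain ⟨a, b, k1, k2⟩ := ABG.meta_gen h
  obtain ⟨a, rfl⟩ := QuotientGroup.mk_surjective a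
  obtain ⟨b, rfl⟩ := QuotientGroup.mk_surjective b
  have hG' := hG.to_subgroup ⊤
  have hT : ∀ t ∈ T, ∀ g, Commute t g := fun t ht g => (BG4.cent_of_card_le hG' (hG.to_subgroup T)
    (norm_of_normal _ ⊤) h2.le (mem_top g) t ht)
  have hgen : zpowers a ⊔ zpowers b = ⊤ := eq_of_le_sup_commutator hG' le_top fun g _ => by
    obtain ⟨i, j, e⟩ := k1 g
    rw [← inv_mul_cancel_left (a ^ i * b ^ j)⁻¹ g, inv_inv]
    exact mul_mem (mem_sup_left (mul_mem_sup (zpow_mem_zpowers a i) (zpow_mem_zpowers b j)))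
      (mem_sup_right (h1 (QuotientGroup.eq.1 e.symm)))
  have k3 : ∀ g, ∃ (i : ℤ), ∃ t ∈ T, g * a * g⁻¹ = a ^ i * t := fun g => (k2 g).imp fun i e =>
    ⟨_, QuotientGroup.eq.1 e.symm, by simp⟩
  obtain ⟨i, t, ht, e⟩ := k3 b
  have e1 : ⁅b, a⁆ = a ^ (i - 1) * t := by rw [commutatorElement_def, e, mul_assoc, (hT t ht _).eq]; group
  have c1 : Commute ⁅b, a⁆ a := e1 ▸ ((Commute.refl a).zpow_left _).mul_left (hT t ht a)
  have hd1 : ⁅(⊤ : Subgroup G), ⊤⁆ ≤ zpowers ⁅b, a⁆ := by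
    refine BG4.der_two_gen_le ⟨le_top, hgen.ge.trans (sup_le (zpowers_le.2 (cent_sub _ ((C_zpowers _).ge (mem_cent1.2 c1.symm))))
      (zpowers_le.2 (Loc.mem_normalizer_of_cj_le ?_)))⟩ ((sup_comm _ _).trans hgen) (mem_zpowers _)
    rw [Loc.cj_zpowers, zpowers_le, BG4.conj_comm, mul_inv_cancel_right, e,
      commutator_mul_right (by rw [commutatorElement_eq_one_iff_commute.2 (hT t ht b).symm]; exact Commute.one_left _),
      commutatorElement_eq_one_iff_commute.2 (hT t ht b).symm, mul_one, commutator_zpow_right c1]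
    exact zpow_mem_zpowers _ _
  have hTa : T ≤ zpowers a := fun s hs => by
    obtain ⟨j, rfl⟩ := mem_zpowers_iff.1 (hd1 (h1 hs))
    obtain ⟨m, rfl⟩ := dvd_of_zpow_mem hp.out (H := T ⊔ zpowers (⁅b, a⁆ ^ p)) (fun c => hd ((card_le_of_le (hd1.trans
      (Phi_nongen (h1.trans hd1) (zpowers_le.2 ((sup_le_sup_left (zpowers_le.2 (BG.pow_mem_Phi (hG.to_subgroup _)
        (mem_zpowers _))) T) c))).ge)).trans h2.le)) (mem_sup_right (mem_zpowers _)) (mem_sup_left hs)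
    rw [zpow_mul, zpow_natCast, e1, (hT t ht _).symm.mul_pow, BG4.pow_eq_one_of_card h2 ht, mul_one]
    exact zpow_mem (pow_mem (zpow_mem_zpowers _ _) _) _
  refine BG4.metacyclic_top.1 (BG4.metacyclic_of_gen (fun g _ => Loc.mem_normalizer_of_cj_le ?_) hgen)
  obtain ⟨i, t, ht, e⟩ := k3 g
  rw [Loc.cj_zpowers, zpowers_le, e]
  exact mul_mem (zpow_mem_zpowers a i) (hTa ht)

/-- Huppert's criterion. -/
theorem meta_of_sm (h2 : p ≠ 2) (n : ℕ) : ∀ (G : Type u) [Group G] [Finite G], Nat.card G = n → IsPGroup p G →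
    Sm p (p ^ 2) (⊤ : Subgroup G) → IsMetacyclic G := by
  induction n using Nat.strong_induction_on with | _ n ih => ?_
  intro G _ _ hn hG h
  have hG' := hG.to_subgroup ⊤
  by_cases hd : #(⁅(⊤ : Subgroup G), (⊤ : Subgroup G)⁆ : Subgroup G) ≤ p
  · have hc := BG4.class2_of_card_der_le hG' hd
    obtain ⟨F, hF, e⟩ := BG4.exists_mho (U := (⊤ : Subgroup G)) fun x hx y hy => BG4.pow_morph_nil23 hG' h2
      (BG4.class3_of_class2 hc) (fun _ => hc)
      (Loc.le_omegaOne le_top fun z hz => BG4.pow_eq_one_of_card_le (hG.to_subgroup _) hd hz) hx hy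
    refine BG4.metacyclic_top.1 (BG4.metacyclic_of_card_der_le hG' h2 (le_of_eq_of_le ?_
      (h F fun g hg => (hF _).2 ⟨g, hg, rfl⟩)) hd)
    rw [← Solv.card_mul_relIndex (le_top (a := F)), mul_comm] at e
    exact (Nat.eq_of_mul_eq_mul_right Nat.card_pos e).symm
  obtain ⟨T, _, h1, h3⟩ := exists_normal_card_eq hG (N := ⁅(⊤ : Subgroup G), ⊤⁆) 1 (by rw [pow_one]; omega)
  rw [pow_one] at h3
  refine meta_step hG h1 h3 hd (ih _ ?_ _ rfl (hG.to_quotient T) (h.quot T))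
  rw [← hn, T.card_eq_card_quotient_mul_card_subgroup, h3]
  exact lt_mul_of_one_lt_right Nat.card_pos hp.out.one_lt

/-- `p`-central subgroups. -/
structure PCen (p : ℕ) (C : Subgroup G) : Prop where
  pg : IsPGroup p G
  odd : p ≠ 2
  cen : ∀ a ∈ C, a ^ p = 1 → ∀ g ∈ C, Commute a g

namespace PCen

theorem comm (h : PCen p C) : ∀ H ≤ C, ∀ x ∈ H, (x ^ p) ^ p = 1 → ∀ g ∈ H, ⁅x, g⁆ ^ p = 1 := fun H => by
  induction H using WellFoundedLT.induction with | _ H ih => ?_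
  intro hH x hx hxp g hg
  by_cases hc : IsMulCommutative H
  · rw [commutatorElement_eq_one_iff_mul_comm.2 (hc.comm hx hg), one_pow]
  have hlt := Gen2.zpowers_sup_der_lt h.pg hx hc
  have h1 : g * x⁻¹ * g⁻¹ ∈ zpowers x ⊔ ⁅H, H⁆ := by
    rw [show g * x⁻¹ * g⁻¹ = x⁻¹ * ⁅x, g⁆ by simp only [commutatorElement_def]; group]
    exact mul_mem_sup (inv_mem (mem_zpowers x)) (commutator_mem_commutator hx hg)
  have h2 := ih _ hlt (hlt.le.trans hH) _ h1 (by simp [conj_pow, hxp]) x (mem_sup_left (mem_zpowers x))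
  have h3 := h.cen _ (hH (commutator_le_self _ (commutator_mem_commutator (hlt.le h1) hx))) h2
  rw [show ⁅x, g⁆ = x * (g * x⁻¹ * g⁻¹) by simp only [commutatorElement_def, mul_assoc],
    mul_pow_prime hp.out h.odd (h3 x (hH hx)) (h3 _ (hH (hlt.le h1))) h2, conj_pow, inv_pow,
    ← (h.cen _ (pow_mem (hH hx) p) hxp g (hH hg)).inv_left.eq]
  group

theorem mul_pow (h : PCen p C) (hx : x ∈ C) (hy : y ∈ C) (h1 : (y ^ p) ^ p = 1) : (x * y) ^ p = x ^ p * y ^ p :=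
  have k := h.comm C le_rfl y hy h1 x hx
  have k' := h.cen _ (commutator_le_self _ (commutator_mem_commutator hy hx)) k
  mul_pow_prime hp.out h.odd (k' x hx) (k' y hy) k

/-- `Ω₂(C)` -/
def D (h : PCen p C) : Subgroup G where
  carrier := {x | x ∈ C ∧ (x ^ p) ^ p = 1}
  one_mem' := ⟨one_mem C, by simp⟩
  mul_mem' {x y} hx hy := ⟨mul_mem hx.1 hy.1, by
    rw [h.mul_pow hx.1 hy.1 hy.2, (h.cen _ (pow_mem hx.1 p) hx.2 _ (pow_mem hy.1 p)).mul_pow, hx.2, hy.2, one_mul]⟩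
  inv_mem' hx := ⟨inv_mem hx.1, by rw [inv_pow, inv_pow, hx.2, inv_one]⟩

theorem card_D (h : PCen p C) {A : Subgroup G} (hA : ∀ a ∈ C, a ^ p = 1 → a ∈ A) (hU : ∀ g ∈ h.D, g ^ p ∈ U) :
    A.relIndex h.D ≤ #U := by
  let f : h.D →* G := MonoidHom.mk' (fun d => (d : G) ^ p) fun a b => h.mul_pow a.2.1 b.2.1 b.2.2
  refine le_trans (index_antitone (show f.ker ≤ A.subgroupOf h.D from fun d hd => hA d d.2.1 hd)) ?_
  rw [index_ker]
  exact card_le_of_le (by rintro _ ⟨d, rfl⟩; exact hU d d.2)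

end PCen

theorem PCen.sm_aux (n : ℕ) : ∀ (G : Type u) [Group G] [Finite G], Nat.card G = n → PCen p (⊤ : Subgroup G) →
    ∀ A : Subgroup G, (∀ a, a ∈ A ↔ a ^ p = 1) → Sm p (#A) (⊤ : Subgroup G) := by
  induction n using Nat.strong_induction_on with | _ n ih => ?_
  intro G _ _ hn h A hA U hU
  rcases eq_or_ne A ⊥ with rfl | h0
  · rcases subsingleton_or_nontrivial G with _ | _
    · rw [Subsingleton.elim U ⊤, relIndex_top_left]; exact Nat.card_pos
    obtain ⟨x, hx⟩ := exists_ne (1 : G)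
    obtain ⟨m, k1, k2⟩ := PGrp.exists_pow_not_mem h.pg (H := ⊥) hx
    exact absurd ((hA _).2 k2) k1
  haveI : A.Normal := ⟨fun a ha g => by rw [hA, conj_pow, (hA a).1 ha]; simp⟩
  have e : ∀ g : G, (g : G ⧸ A) ^ p = 1 ↔ g ∈ h.D := fun g => by
    rw [← QuotientGroup.mk_pow, QuotientGroup.eq_one_iff, hA]; exact ⟨fun k => ⟨trivial, k⟩, fun k => k.2⟩
  have hAD : A ≤ h.D := fun a ha => (e a).1 (by rw [(QuotientGroup.eq_one_iff a).2 ha, one_pow])
  have := ih _ (by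
    rw [← hn, A.card_eq_card_quotient_mul_card_subgroup]
    exact lt_mul_of_one_lt_right Nat.card_pos ((one_lt_card_iff_ne_bot A).2 h0)) (G ⧸ A) rfl
    ⟨h.pg.to_quotient A, h.odd, fun a _ ha g _ => by
      obtain ⟨a, rfl⟩ := QuotientGroup.mk_surjective a
      obtain ⟨g, rfl⟩ := QuotientGroup.mk_surjective g
      exact commutatorElement_eq_one_iff_commute.1 ((QuotientGroup.eq_one_iff _).2
        ((hA _).2 (h.comm ⊤ le_rfl a trivial ((e a).1 ha).2 g trivial)))⟩ (h.D.map (QuotientGroup.mk' A)) (fun a => by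
      obtain ⟨a, rfl⟩ := QuotientGroup.mk_surjective a
      exact (SetLike.ext_iff.1 (comap_map_eq_self (f := QuotientGroup.mk' A) (H := h.D)
        (by rwa [QuotientGroup.ker_mk'])) a).trans (e a).symm) (U.map (QuotientGroup.mk' A)) fun g _ => by
      obtain ⟨g, rfl⟩ := QuotientGroup.mk_surjective g
      exact ⟨_, hU g trivial, rfl⟩
  rw [relIndex_top_right, index_map, QuotientGroup.ker_mk', QuotientGroup.range_mk', index_top, mul_one, ← relIndex_ker,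
    QuotientGroup.ker_mk'] at this
  rw [relIndex_top_right, ← relIndex_mul_index (le_sup_left (b := A)), Gen.relIndex_sup_right_helper,
    ← card_inf_mul_relIndex U (B := A), mul_comm]
  exact Nat.mul_le_mul_right _ (this.trans (h.card_D (fun a _ => (hA a).2) fun g hg => ⟨hU g trivial, (hA _).2 hg.2⟩))

theorem PCen.sm (h : PCen p C) {A : Subgroup G} (hA : ∀ a, a ∈ A ↔ a ∈ C ∧ a ^ p = 1) : Sm p (#A) C := by
  rw [← Nat.card_congr (subgroupOfEquivOfLe fun a ha => ((hA a).1 ha).1).toEquiv]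
  exact (PCen.sm_aux _ C rfl ⟨h.pg.to_subgroup C, h.odd, fun a _ ha g _ => Subtype.ext
    (h.cen a a.2 (congrArg Subtype.val ha) g g.2)⟩ _ fun a => by simp [mem_subgroupOf, hA, Subtype.ext_iff]).of_top

end Cfsg.Agent.Fus
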