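import Cfsg.Agent.Fus.OutB

/-! Complete automorphism groups, normal subgroups of order 3, generation by elements of order 5 (helper26). -/

set_option autoImplicit false

namespace Cfsg.Agent.Fus

open Subgroup Cfsg.Agent.Spor

theorem inn_le {S : Type*} [Group S] [IsSimpleGroup S] (L : Subgroup (MulAut S)) [L.Normal] (h : L ≠ ⊥) : Inn S ≤ L := by
  rintro _ ⟨y, rfl⟩
  refine ((IsSimpleGroup.eq_bot_or_eq_top_of_normal (L.comap MulAut.conj) inferInstance).resolve_left
    fun e => h (eq_bot_iff.2 fun a ha => MulEquiv.ext fun x => mul_inv_eq_one.1 (e.le ?_))).ge (mem_top y)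
  have := L.mul_mem ha (‹L.Normal›.conj_mem _ (L.inv_mem ha) (MulAut.conj x))
  rwa [show a * (MulAut.conj x * a⁻¹ * (MulAut.conj x)⁻¹) = MulAut.conj (a x * x⁻¹) by ext; simp [mul_assoc]] at this

theorem aut_complete {S : Type*} [Group S] [Finite S] [IsSimpleGroup S] (hi : Function.Injective (MulAut.conj : S →* MulAut S))
    (ψ : MulAut (MulAut S)) : ∃ a, ∀ x, ψ x = a * x * a⁻¹ := by
  have hn : ((Inn S).map ψ.toMonoidHom).Normal := Normal.map inferInstance _ ψ.surjective
  obtain ⟨s, hs⟩ := exists_ne (1 : S)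
  have he : (Inn S).map ψ.toMonoidHom = Inn S := (eq_of_le_of_card_ge (inn_le _ fun e =>
    hs (hi (ψ.injective ((mem_bot.1 (e.le (mem_map_of_mem _ (show MulAut.conj s ∈ Inn S from ⟨s, rfl⟩)))).trans (by simp))))) (card_map_of_injective ψ.injective).le).symm
  let e := MonoidHom.ofInjective hi
  let a : MulAut S := ((e.trans (ψ.subgroupMap _)).trans (MulEquiv.subgroupCongr he)).trans e.symm
  have h1 : ∀ s, MulAut.conj (a s) = ψ (MulAut.conj s) := fun s => congrArg Subtype.val (e.apply_symm_apply _)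
  have h2 : ∀ (x : MulAut S) s, MulAut.conj (x s) = x * MulAut.conj s * x⁻¹ := fun x s => by ext; simp
  refine ⟨a, fun x => eq_mul_inv_iff_mul_eq.2 (MulEquiv.ext fun s => hi ?_)⟩
  rw [MulAut.mul_apply, MulAut.mul_apply, h1 (x s), h2, h1, h2, map_mul, map_mul, map_inv]

theorem three_step {H : Type*} [Group H] {N : Subgroup H} [N.Normal] (hN : Nat.card N = 3) {x n : H} (hn : n ∈ N)
    (h1 : x ^ 5 = 1) (h2 : (x * n) ^ 5 = 1) : n = 1 := by
  have : Fact (Nat.Prime 3) := ⟨Nat.prime_three⟩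
  have : Finite N := Nat.finite_of_card_ne_zero (by omega)
  have := isCyclic_of_prime_card hN
  have h3 : (MulAut.conjNormal x : MulAut N) ^ 2 = 1 := by
    rw [show 2 = Nat.card (MulAut N) by rw [IsCyclic.card_mulAut, hN]; rfl, pow_card_eq_one']
  have h4 : (MulAut.conjNormal x : MulAut N) = 1 := by
    have := congrArg (MulAut.conjNormal : H →* MulAut N) h1
    rwa [map_pow, map_one, show 5 = 2 * 2 + 1 from rfl, pow_succ, pow_mul, h3, one_pow, one_mul] at this
  have h5 : Commute x n := mul_inv_eq_iff_eq_mul.1 (congrArg (fun f : MulAut N => (f ⟨n, hn⟩).1) h4)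
  have h6 : n ^ 3 = 1 := congrArg Subtype.val (hN ▸ pow_card_eq_one' (x := (⟨n, hn⟩ : N)))
  rw [h5.mul_pow, h1, one_mul, show 5 = 3 + 2 from rfl, pow_add, h6, one_mul] at h2
  rwa [pow_succ, h2, one_mul] at h6

/-- each new word times earlier words has fifth power in `qs`. -/
def chk5 (E : List (List ℕ × List ℕ)) (qs gs : List ℕ) : List (List ℕ × List (List ℕ) × List ℕ) → List (List ℕ) → Bool
  | [], _ => true
  | s :: r, ks => s.2.1.all (ks.contains ·) && Ct.sub gs (s.2.1.flatten ++ s.1) && Ct.sub qs s.2.2 &&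
      E.contains (powW (s.2.1.flatten ++ s.1) 5, s.2.2) && chk5 E qs gs r (s.1 :: ks)

theorem ev_flatten_mem {G : Type} [Group G] {y : ℕ → G} {T : Subgroup G} :
    ∀ {l : List (List ℕ)}, (∀ k ∈ l, ev y k ∈ T) → ev y l.flatten ∈ T
  | [], _ => T.one_mem
  | k :: l, h => by
    rw [List.flatten_cons, ev_append]
    exact T.mul_mem (ev_flatten_mem fun k hk => h k (List.mem_cons_of_mem _ hk)) (h k List.mem_cons_self)

theorem mem_of_chk5 {G : Type} [Group G] {y : ℕ → G} {E : List (List ℕ × List ℕ)} (hE : Ct.Eqs y E) {qs gs : List ℕ}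
    {T : Subgroup G} (hT : ∀ c ∈ genL y gs, c ^ 5 ∈ genL y qs → c ∈ T) : ∀ (st : List (List ℕ × List (List ℕ) × List ℕ))
      (ks : List (List ℕ)), (∀ k ∈ ks, ev y k ∈ T) → chk5 E qs gs st ks = true → ∀ k ∈ st.map Prod.fst, ev y k ∈ T
  | [], _, _, _ => nofun
  | s :: r, ks, hk, h => by
    simp only [chk5, Bool.and_eq_true, List.all_eq_true, List.contains_iff_mem (a := (_ : List ℕ))] at h
    have h1 := hT _ (Ct.ev_mem_sub h.1.1.1.2) (by rw [← ev_powW, hE.eq _ _ h.1.2]; exact Ct.ev_mem_sub h.1.1.2)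
    rw [ev_append, T.mul_mem_cancel_right (ev_flatten_mem fun k e => hk k (h.1.1.1.1 k e))] at h1
    exact List.forall_mem_cons.2 ⟨h1, mem_of_chk5 hE hT r _ (List.forall_mem_cons.2 ⟨h1, hk⟩) h.2⟩

end Cfsg.Agent.Fus
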