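import Cfsg.Agent.J4T.CT
import Cfsg.Agent.J4T.Hyp
import Cfsg.Agent.Fus.OutC

/-! The outer automorphism group of the fourth Janko group is trivial (generated certificate, helper26). -/

set_option Elab.async false
set_option maxRecDepth 100000
set_option exponentiation.threshold 100000

namespace Cfsg.Agent.Fus.J4O

open Cfsg.Agent.Spor Subgroup LES J4T J4T.C

def uw : List ℕ := [17, 21, 23, 17, 15, 17, 18, 16, 21]

def ww : List ℕ := uw ++ ([17, 16] ++ (uw ++ ([18] ++ (uw ++ [4]))))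

def aw : List ℕ := [14, 15, 16, 17, 18]

def s5 : List (List ℕ × List (List ℕ) × List ℕ) := [(aw, [], []), ([17], [aw], []), ([18], [aw], []), ([19], [aw], [0, 11, 9, 7, 3]),
  ([20], [aw], []), ([15, 16], [[19], [20]], [11, 8, 4, 3, 2]), ([13], [aw, [15, 16]], []), ([14], [aw, aw], [])]

def Le : List (List ℕ × ℕ × List ℕ) := [([16], 1, [5]), ([15], 10, [10, 11]), ([19], 8, [3, 8]), ([15], 1, [3, 7, 11]),
  ([16], 2, [6, 9, 11]), ([19], 2, [0, 2, 5]), ([15], 4, [1, 2, 7, 10]), ([15], 8, [2, 1, 3, 6, 11]), ([16], 12, [1, 3, 7, 10, 9, 12]),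
  ([13, 18, 17], 3, [11, 9, 5, 1]), ([13, 18, 17], 4, [0, 10, 9, 7, 1])]

def st : List (ℕ × List ℕ × ℕ × List ℕ × List ℕ) := [(7, [14, 16, 17], 11, [], []), (9, [13], 7, [7], [11]), (3, [13], 9, [0], [7, 9]),
  (5, [14], 7, [0], [11]), (1, [13], 5, [], [5]), (8, [20], 5, [5, 7], [9, 11]), (4, [13, 14], 8, [0, 11, 9], [3, 1]),
  (10, [13], 8, [0, 1, 4, 7], [11]), (12, [13], 4, [1, 4, 9, 10, 11], []), (2, [15], 4, [1], [7, 10]), (6, [13], 2, [0, 2, 3], [7])]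

def e1 : List (List ℕ × List ℕ) := [([3, 13, 18, 17], [13, 18, 17, 11, 9, 5, 1]), ([4, 13, 18, 17], [13, 18, 17, 0, 10, 9, 7, 1]),
  ([11, 13, 18, 17], [13, 18, 17, 11]), ([11, 14, 16, 17], [14, 16, 17, 7]), ([8, 13, 14], [13, 14, 0, 11, 9, 4, 3, 1]),
  ([14, 21], [21, 15]), ([13, 15], [15, 13, 13, 0, 12, 9, 8]), (0 :: uw, uw ++ [11]), (11 :: uw, uw ++ [0]),
  (0 :: (ww ++ [21]), ww ++ [21] ++ [0]), ([23], [18, 18])]

def ex (w : List ℕ) : Ex := w.tail.foldl (fun e x => .mul e (.lt x)) (.lt w.head!)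

def e5 : List (Ex × List Ex) := s5.map fun s => (.mul (.sq (.sq (ex (s.2.1.flatten ++ s.1)))) (ex (s.2.1.flatten ++ s.1)),
  if s.2.2 = [] then [] else [ex s.2.2])

def vw : List (List (List ℕ)) := [[[0]], [[5], [11]], [[0], [1], [3], [9], [11]], [[3], [7], [9], [19], [14], [18], [18], [19], [18], [14]],
  [[0], [7]], [[0], [3], [5], [19], [14], [18], [18], [19], [18], [14]], [[1], [3], [7], [11], [19], [14], [18], [18], [19], [18], [14]],
  [[0], [3], [9], [19], [18], [18], [19], [18], [15, 16], [14], [18], [18], [19], [18], [14], [15, 16]],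
  [[1], [5], [9], [19], [18], [18], [19], [18], [15, 16], [14], [18], [18], [19], [18], [14], [15, 16]],
  [[3], [5], [19], [15, 16], [14], [18], [18], [19], [18], [14], [15, 16]], [[3], [19]]]

def E : List (List ℕ × List ℕ) := J4C.EE ++ (e1 ++ e5.map fun e => (e.1.w, Ct.ow e.2))

theorem q : Ct.Eqs Y E := Y_eqs.append (eqs_map ((Ct.eqs_K J4L.paK (by decide) (by decide +kernel)).append
  (Ct.eqs_M J4C.m2 (by decide +kernel) (by decide +kernel))) (MulAut.conj (ι cu)⁻¹).toMonoidHom)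

def qs : List ℕ := [1, 2, 3, 4, 5, 6, 7, 8, 9, 10, 11, 12]

def gs : List ℕ := [0, 1, 2, 3, 4, 5, 6, 7, 8, 9, 10, 11, 12, 13, 14, 15, 16, 17, 18, 19, 20]

theorem hQ : Q0 ≤ H0 := Q0_le.trans NN_le

theorem le : LE Q0 z0 := by
  obtain ⟨-, hn, -⟩ := C.struct
  have h := Hyp.of isType
  have es : ES Q0 z0 := .of_mem (core_eq ▸ h.ext) z_Q (Y0 ▸ Y_ne J4C.z1) hQ
  exact ⟨es, fun x hx => es.cen x (core_eq ▸ h.cent ⟨mem_centralizer_singleton_iff.2 (hx _ z_Q),
    fun y hy => (hx y (core_eq ▸ hy)).symm⟩) hx, fun x hx => mem_normalizer_fintype fun y hy =>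
      hn.conj_mem ⟨y, hQ hy⟩ hy ⟨x, mem_centralizer_singleton_iff.2 hx⟩⟩

theorem gen5 {T : Subgroup Cfsg.Spor.J4} (hT : ∀ c ∈ H0, c ^ 5 ∈ Q0 → c ∈ T) (h : Q0 ≤ T) :
    (∀ k ∈ s5.map Prod.fst, ev Y k ∈ T) ∧ (Y 15 ∈ T → H0 ≤ T) := by
  have h1 := mem_of_chk5 q (qs := 0 :: qs) (gs := gs) (fun c hc => hT c (H0_gen.ge hc)) s5 [] nofun (by decide +kernel)
  refine ⟨h1, fun h2 => H0_gen.le.trans (genL_le fun x hx => ?_)⟩
  rcases (show x ∈ 0 :: qs ∨ [x] ∈ s5.map Prod.fst ∨ x = 15 ∨ x = 16 by revert x; decide) with e | e | rfl | rfl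
  · exact h (mem_genL _ e)
  · exact ev_one Y x ▸ h1 _ e
  · exact h2
  · simpa [T.mul_mem_cancel_right h2] using h1 [15, 16] (by decide)

theorem norm1 (α : MulAut Cfsg.Spor.J4) : ∃ g : Cfsg.Spor.J4, (MulAut.conj g * α) z0 = z0 ∧ ∀ c ∈ H0, c⁻¹ * (MulAut.conj g * α) c ∈ NN := by
  obtain ⟨g, hg⟩ := aut_fix_LE le J4G.main.2.2.2.2.1 (k := 21) (by decide) (card_H0 ▸ by decide) α
  obtain ⟨-, _, ⟨e⟩⟩ := main
  obtain ⟨-, -, -, -, -, cN, -⟩ := C.struct
  have : IsSimpleGroup Cfsg.Spor.M22 := Golay.simple_M22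
  have hi : Function.Injective (MulAut.conj : Cfsg.Spor.M22 →* MulAut Cfsg.Spor.M22) := by
    obtain ⟨x, y, h⟩ : ∃ x y : Cfsg.Spor.M22, x * y ≠ y * x := by
      by_contra! h
      let : CommGroup Cfsg.Spor.M22 := { (inferInstance : Group _) with mul_comm := h }
      have := IsSimpleGroup.prime_card (α := Cfsg.Spor.M22)
      rw [Golay.card_M22] at this
      exact absurd this (by norm_num)
    exact injective_of_simple _ (x := x) fun e => h (mul_inv_eq_iff_eq_mul.1 (congrArg (· y) e))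
  let π : H0 →* MulAut Cfsg.Spor.M22 := e.toMonoidHom.comp (QuotientGroup.mk' _)
  have sπ : Function.Surjective π := e.surjective.comp (QuotientGroup.mk'_surjective _)
  have hπ : ∀ c, π c = 1 ↔ c.1 ∈ NN := fun c => e.map_eq_one_iff.trans (QuotientGroup.eq_one_iff _)
  obtain ⟨-, ψ, hψ⟩ := aut_quot' π sπ hπ NN_le (fun L _ h => by_contra fun hL => by
    have := (card_dvd_of_le (inn_le L hL)).trans h
    rw [← Nat.card_congr (MonoidHom.ofInjective hi).toEquiv, Golay.card_M22,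
      ← Nat.card_congr (subgroupOfEquivOfLe NN_le).toEquiv, cN] at this
    exact absurd this (by decide)) hg
  obtain ⟨a, ha⟩ := aut_complete hi ψ
  obtain ⟨k, hk⟩ := sπ a⁻¹
  refine ⟨k * g, ?_, fun c hc => ?_⟩ <;> rw [map_mul, mul_assoc, MulAut.mul_apply, MulAut.conj_apply]
  · rw [hg, mem_centralizer_singleton_iff.1 k.2, mul_inv_cancel_right]
  · obtain ⟨c', e1, e2⟩ := hψ ⟨c, hc⟩
    rw [← e1]
    refine (hπ ((⟨c, hc⟩ : H0)⁻¹ * (k * (show H0 from c') * k⁻¹))).1 ?_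
    rw [map_mul, map_mul, map_mul, map_inv, map_inv, hk, show π c' = _ from e2, ha]
    simp only [mul_assoc, inv_mul_cancel_left, inv_inv, inv_mul_cancel, mul_one]
    exact inv_mul_cancel _

theorem norm2 (α : MulAut Cfsg.Spor.J4) : ∃ g : Cfsg.Spor.J4, (MulAut.conj g * α) z0 = z0 ∧ ∀ c ∈ H0, c⁻¹ * (MulAut.conj g * α) c ∈ Q0 := by
  obtain ⟨g, h1, h2⟩ := norm1 α
  obtain ⟨-, hn, -, cQ, -, cN, -, hN, -⟩ := C.struct
  let p := QuotientGroup.mk' (Q0.subgroupOf H0)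
  have hp : ∀ c : H0, p c = 1 ↔ c.1 ∈ Q0 := fun c => QuotientGroup.eq_one_iff c
  have : ((NN.subgroupOf H0).map p).Normal := hN.map _ (QuotientGroup.mk'_surjective _)
  have c3 : Nat.card ((NN.subgroupOf H0).map p) = 3 := by
    have := card_eq_card_quotient_mul_card_subgroup (p.domRestrict (NN.subgroupOf H0)).ker
    rw [Nat.card_congr (QuotientGroup.quotientKerEquivRange _).toEquiv, MonoidHom.domRestrict_range, MonoidHom.ker_domRestrict,
      QuotientGroup.ker_mk', Nat.card_congr (subgroupOfEquivOfLe (show Q0.subgroupOf H0 ≤ NN.subgroupOf H0 from comap_mono Q0_le)).toEquiv,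
      cN, cQ] at this
    omega
  let w : H0 := ⟨_, NN_le w_N⟩
  have hw : zpowers (p w) = (NN.subgroupOf H0).map p :=
    haveI : Fact (Nat.Prime 3) := ⟨Nat.prime_three⟩
    eq_of_le_of_card_ge (zpowers_le.2 (mem_map_of_mem _ w_N)) (by
      rw [c3, Nat.card_zpowers, orderOf_eq_prime (p := 3) (by rw [← map_pow, show w ^ 3 = 1 from Subtype.ext w3, map_one]) fun e =>
        Ct.not_mem_of_card cQ (show w ^ 3 = 1 from Subtype.ext w3) (fun e => w1 (congrArg Subtype.val e)) (by decide) ((hp w).1 e)])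
  let t : H0 := ⟨Y 15, H0_gen.ge (mem_genL _ (by decide))⟩
  have ht : p t * p w * (p t)⁻¹ = (p w)⁻¹ := by
    have := conj_of_eqs q (x := 13) (g := [15]) (w := [13, 13] ++ [0, 12, 9, 8]) (by decide +kernel)
    rw [ev_one, ev_append] at this
    refine eq_inv_of_mul_eq_one_left (by
      rw [← map_inv, ← map_mul, ← map_mul, ← map_mul, hp]
      show Y 15 * Y 13 * (Y 15)⁻¹ * Y 13 ∈ Q0
      rw [this, ev_cons Y 13, ev_one, mul_assoc, ← pow_two, ← pow_succ, w3, mul_one]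
      exact Ct.ev_mem_sub (by decide))
  let n : H0 := t⁻¹ * ⟨_, map_cent h1 t.2⟩
  have hn' : n ∈ NN.subgroupOf H0 := h2 _ t.2
  have h3 : (MulAut.conj (n⁻¹ * g) * α) z0 = z0 := by
    rw [map_mul, mul_assoc, MulAut.mul_apply, h1, MulAut.conj_apply, mem_centralizer_singleton_iff.1 n⁻¹.2,
      mul_inv_cancel_right]
  let b : H0 →* H0 := ((MulAut.conj (n⁻¹ * g) * α).toMonoidHom.comp H0.subtype).codRestrict _ fun c => map_cent h3 c.2
  have h4 : ∀ c : H0, (p c)⁻¹ * p (b c) ∈ (NN.subgroupOf H0).map p := fun c => by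
    rw [← map_inv, ← map_mul, show c⁻¹ * b c = c⁻¹ * n⁻¹ * c⁻¹⁻¹ * (c⁻¹ * ⟨_, map_cent h1 c.2⟩) * n from
      Subtype.ext (by simp [b, mul_assoc])]
    exact mem_map_of_mem _ (mul_mem (mul_mem (hN.conj_mem _ (inv_mem hn') _) (h2 _ c.2)) hn')
  have h5 : ∀ c : H0, c.1 ∈ Q0 → p (b c) = 1 := fun c hc => by
    have e1 := h4 c
    rw [(hp c).2 hc, inv_one, one_mul] at e1
    have e2 : p (b c) ^ 3 = 1 := congrArg Subtype.val (c3 ▸ pow_card_eq_one' (x := (⟨_, e1⟩ : (NN.subgroupOf H0).map p)))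
    have e3 : c ^ 4 = 1 := Subtype.ext (by
      show c.1 ^ (2 * 2) = 1
      rw [pow_mul, pow_two c.1]
      rcases le.sq _ hc with e | e <;> rw [e]
      exacts [one_pow _, (pow_two _).trans le.zz])
    have e4 := congrArg (p.comp b) e3
    rwa [map_pow, map_one, pow_succ, show (p.comp b) c = p (b c) from rfl, e2, one_mul] at e4
  have h6 := (gen5 (T := ((p.comp b).eqLocus p).map H0.subtype) (fun c hc e => ⟨⟨c, hc⟩, (inv_mul_eq_one.1 (three_step c3
    (h4 ⟨c, hc⟩) (x := p ⟨c, hc⟩) (by rw [← map_pow]; exact (hp _).2 e) (by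
      rw [mul_inv_cancel_left, ← map_pow, ← map_pow]; exact h5 _ e))).symm, rfl⟩)
    fun c hc => ⟨⟨c, hQ hc⟩, (h5 _ hc).trans ((hp _).2 hc).symm, rfl⟩).2 ⟨t, by
      obtain ⟨i, hi⟩ := hw.ge (mem_map_of_mem p hn')
      have e1 : p t * p n * (p t)⁻¹ = (p n)⁻¹ := by rw [← hi, ← conj_zpow, ht, inv_zpow]
      have e2 : p n ^ 3 = 1 := congrArg Subtype.val (c3 ▸ pow_card_eq_one' (x := (⟨_, mem_map_of_mem p hn'⟩ : (NN.subgroupOf H0).map p)))
      show p (b t) = p t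
      rw [show b t = n⁻¹ * t * n * n from Subtype.ext (by simp [b, n, mul_assoc]), map_mul, map_mul, map_mul, map_inv, ← e1,
        inv_mul_cancel_right, mul_assoc, mul_assoc, ← pow_three, e2, mul_one], rfl⟩
  refine ⟨_, h3, fun c hc => ?_⟩
  obtain ⟨d, hd, rfl⟩ := h6 hc
  exact (hp (d⁻¹ * b d)).1 (by rw [map_mul, map_inv, show p (b d) = p d from hd, inv_mul_cancel])

theorem evK (w : List ℕ) (h : allL (Ct.xp J4C.W1 (J4C.m2E.map Ex.w) w) (fun x => Nat.blt x 11) = true) :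
    ev Y w = ι (ev J4L.yK (cuw ++ Ct.xp J4C.W1 (J4C.m2E.map Ex.w) w ++ cuw')) := by
  rw [show ev Y w = MulAut.conj (ι cu)⁻¹ (ev J4C.Y w) from (map_ev (MulAut.conj (ι cu)⁻¹).toMonoidHom _ _).symm, Ct.ev_xp,
    Ct.ev_K h, ev_append, ev_append, cu_inv]
  simp [cu, mul_assoc]

theorem hvw : ∀ i < 11, allL (Ct.xp J4C.W1 (J4C.m2E.map Ex.w) (getL vw [] i).flatten) (fun x => Nat.blt x 11) = true ∧
    andB (allL (cuw ++ Ct.xp J4C.W1 (J4C.m2E.map Ex.w) (getL vw [] i).flatten ++ cuw') fun x => Nat.blt x 4)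
      (Nat.beq (lw (cuw ++ Ct.xp J4C.W1 (J4C.m2E.map Ex.w) (getL vw [] i).flatten ++ cuw')) one12) = true ∧
    crd (runA J4L.actK (cuw ++ Ct.xp J4C.W1 (J4C.m2E.map Ex.w) (getL vw [] i).flatten ++ cuw') 0) = 2 ^ i ∧
    ∀ k ∈ getL vw [] i, k ∈ s5.map Prod.fst ∨ Ct.sub (0 :: qs) k = true := by decide +kernel

theorem fix {β : MulAut Cfsg.Spor.J4} (hq : ∀ q ∈ Q0, β q = q) : ∀ c ∈ H0, β c = c := by
  obtain ⟨h1, h2⟩ := gen5 (T := β.toMonoidHom.eqLocus (MonoidHom.id _)) (fun c hc e => eq_of_cent le hq hc (k := 2) e) hq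
  refine h2 ((eqZ_of_cent le hq (H0_gen.ge (mem_genL _ (by decide)))).resolve_right fun e => ?_)
  have h3 : ∀ n < 2 ^ 11, ∀ v ∈ V, co v = n → β (ι v) = ι v := xind (fun v hv e => by rw [eq_one hv e]; simp)
    (fun i hi v hv e => by
      obtain ⟨c1, c2, c3, c4⟩ := hvw i hi
      rw [ext_V hv (mem_V_ev c2) (e.trans ((co_ev _).trans c3).symm), ← evK _ c1]
      refine ev_flatten_mem (T := β.toMonoidHom.eqLocus (MonoidHom.id _)) fun k hk => ?_
      rcases c4 k hk with e | e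
      exacts [h1 k e, hq _ (Ct.ev_mem_sub e)])
    fun a ha b hb h1 h2 v hv e => by
      obtain ⟨x, hx, rfl⟩ := exists_vec ha
      obtain ⟨y, hy, rfl⟩ := exists_vec hb
      rw [ext_V hv (V.mul_mem hx hy) (e.trans (co_V_mul hx y).symm), map_mul, map_mul, h1 x hx rfl, h2 y hy rfl]
  have h4 := evK [21] (by decide +kernel)
  have h5 := evK [15] (by decide +kernel)
  rw [ev_one] at h4 h5
  generalize ev J4L.yK (cuw ++ Ct.xp J4C.W1 (J4C.m2E.map Ex.w) [21] ++ cuw') = k at h4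
  obtain ⟨v, hv, h6⟩ : β (Y 21) * (Y 21)⁻¹ ∈ V0 := cent_V0.le fun _ ⟨v, hv, e⟩ => by
    have := h3 _ (co_lt v) v hv rfl
    have e1 := h3 _ (co_lt _) _ (V_normal.conj_mem' v hv k) rfl
    simp only [map_mul, map_inv, ← h4, this] at e1
    rw [mul_assoc, inv_mul_eq_iff_eq_mul] at e1
    rw [← e, ← mul_assoc, e1]; group
  have h7 := conj_of_eqs q (x := 14) (g := [21]) (w := [15]) (by decide +kernel)
  rw [ev_one, ev_one] at h7
  have h8 := congrArg β h7
  rw [map_mul, map_mul, map_inv, show β (Y 14) = Y 14 from ev_one Y 14 ▸ h1 [14] (by decide), e,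
    eq_mul_inv_iff_mul_eq.1 h6 |>.symm, mem_centralizer_singleton_iff.1 (H0_gen.ge (mem_genL _ (by decide)))] at h8
  have h9 : ι (v * (ev J4L.yK (cuw ++ Ct.xp J4C.W1 (J4C.m2E.map Ex.w) [15] ++ cuw') * v⁻¹ *
      (ev J4L.yK (cuw ++ Ct.xp J4C.W1 (J4C.m2E.map Ex.w) [15] ++ cuw'))⁻¹)) = ι v0 := by
    rw [map_mul, map_mul, map_mul, map_inv, map_inv, ← h5, ← z0, ← mul_left_inj (Y 15), ← h8, ← h7]; group
  have := congrArg co (ι_inj h9)
  rw [co_V_mul hv, co_conj _ (inv_mem hv), co_inv_V hv, co_v0, lm_ev (by decide +kernel) (co_lt v)] at this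
  exact absurd this (Nat.ne_of_beq_eq_false (Bool.eq_false_of_not_eq_true' (allN_spec (n := 2048) (p := fun n => !Nat.beq (n ^^^ app _ n) 1)
    (by decide +kernel) _ (co_lt v))))

theorem top (H : Subgroup Cfsg.Spor.J4) (h1 : H0 ≤ H) (h2 : ev Y uw ∈ H) : H = ⊤ := by
  have hC : ∀ x ∈ gs, Y x ∈ H := fun x hx => h1 (H0_gen.ge (mem_genL _ hx))
  have h3 : ∀ w, Ct.sub gs w = true → ev Y w ∈ H := fun w hw => genL_le hC (Ct.ev_mem_sub hw)
  have h4 := q.eq (0 :: (ww ++ [21])) (ww ++ [21] ++ [0]) (by decide +kernel)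
  rw [ev_cons, ev_append _ _ [0], ev_one, Y0] at h4
  have h5 := h1 (mem_centralizer_singleton_iff.2 h4)
  rw [ev_append, ev_one, H.mul_mem_cancel_right (by
    simp only [ww, ev_append]
    exact mul_mem (mul_mem (mul_mem (mul_mem (mul_mem (h3 _ (by decide)) h2) (h3 _ (by decide))) h2) (h3 _ (by decide))) h2)] at h5
  have h6 : ∀ x ∈ [21, 18, 23, 0], Y x ∈ H := by
    simp only [List.forall_mem_cons, List.not_mem_nil, IsEmpty.forall_iff, implies_true, and_true]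
    exact ⟨h5, hC _ (by decide), by rw [← ev_one Y, q.eq [23] [18, 18] (by decide +kernel)]; exact h3 _ (by decide), hC _ (by decide)⟩
  refine J4G.gen H (fun k => ?_) (h1 T_mem)
  have := (show ⊤ ≤ (H.comap ι).comap (MulAut.conj cu⁻¹).toMonoidHom from J4C.topX.ge.trans ((genW_sing _ _).le.trans
    (genL_le fun x hx => by
      have e : J4C.Y (getL [21, 18, 23] 0 x) = ι (ev J4L.yK [x]) := Ct.let_K [x] (by revert x; decide +kernel)
      have := h6 (getL [21, 18, 23] 0 x) (by clear e; revert x; decide +kernel)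
      rw [Y, e, ev_one] at this
      simpa using this))) (mem_top (cu * k * cu⁻¹))
  simpa [mul_assoc] using this

theorem out : Nat.card (Cfsg.Out Cfsg.Spor.J4) = 1 := by
  refine Nat.card_eq_one_iff_exists.2 ⟨1, fun x => ?_⟩
  obtain ⟨α, rfl⟩ := QuotientGroup.mk_surjective x
  obtain ⟨g, h1, h2⟩ := norm2 α
  have h := q.eq [12, 11] [11, 12, 0] (by decide +kernel)
  have hs : Y 11 ≠ Y 0 := fun e => le.z1 (by
    simp only [ev_cons, ev_nil, one_mul, e] at h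
    rwa [mul_assoc, mul_right_inj, left_eq_mul, Y0] at h)
  obtain ⟨s, -, h3⟩ := inner_of_chk (Y0.symm ▸ le) q (zl := 0) (qs := qs) rfl (Y0.symm ▸ h1) (Y0.symm ▸ h2) (gs := gs)
    (Y0.symm ▸ H0_gen.ge) (L := Le) (n0 := 2048) (sl := 11) (st := st) (fun e => e.elim (fun e => le.z1 (by
      simpa [e, Y0] using h)) hs) (by decide +kernel)
  rw [← Known.out_mk_conj g α, ← Known.out_mk_conj s]
  refine (QuotientGroup.eq_one_iff _).2 ((inner_of_fix le (u := ev Y uw) (s := Y 11) (mem_genL _ (by decide)) (Y0 ▸ hs) ?_ ?_ top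
    (fix h3)).elim (fun e => e ▸ one_mem _) fun e => ⟨_, e.symm⟩)
  · rw [← Y0, ← ev_cons, q.eq (0 :: uw) (uw ++ [11]) (by decide +kernel), ev_append, ev_one]
  · rw [← Y0, ← ev_cons, q.eq (11 :: uw) (uw ++ [0]) (by decide +kernel), ev_append, ev_one]

end Cfsg.Agent.Fus.J4O
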