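import Cfsg.Agent.Fus.Cert3
import Cfsg.Agent.Known.FiGrp

/-! Automorphisms fixing a 2-central involution (helper26). -/

set_option autoImplicit false

namespace Cfsg.Agent.Fus

open Subgroup Cfsg Cfsg.Agent.Comp Cfsg.Agent.Known

variable {G : Type*} [Group G]

theorem aut_fix_central [Finite G] {p n k : ℕ} (hp : p.Prime) (hn : Nat.card G = n) (h2 : ¬ p ^ (k + 1) ∣ n) {S : Subgroup G}
    (hS : Nat.card S = p ^ k) {t : G} (ht : t ∈ S) (ht' : t ∈ centralizer (S : Set G)) (h1 : t ≠ 1)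
    (hZ : ∀ x ∈ S, x ∈ centralizer (S : Set G) → x = 1 ∨ x = t) (α : MulAut G) : ∃ g : G, (MulAut.conj g * α) t = t := by
  obtain ⟨g, hg⟩ := conj_sylow hp hn h2 (X := S.map α.toMonoidHom) ((card_map_of_injective α.injective).trans hS) hS
  refine ⟨g, (hZ _ (hg.le ⟨_, ⟨t, ht, rfl⟩, rfl⟩) fun y hy => ?_).resolve_left (by simpa using h1)⟩
  obtain ⟨_, ⟨s, hs, rfl⟩, rfl⟩ := hg.ge hy
  exact ((map_mul (MulAut.conj g * α) s t).symm.trans (congrArg _ (ht' s hs))).trans (map_mul _ _ _)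

theorem aut_quot {A : Type*} [Group A] [Finite A] {t : G} (π : centralizer ({t} : Set G) →* A) (hs : Function.Surjective π)
    (hk : ∀ c, π c = 1 ↔ c.1 = 1 ∨ c.1 = t) {β : MulAut G} (hβ : β t = t) :
    ∃ ψ : MulAut A, ∀ c : centralizer ({t} : Set G), ∃ c' : centralizer ({t} : Set G), c'.1 = β c ∧ π c' = ψ (π c) := by
  have hm : ∀ (β : MulAut G), β t = t → ∀ c ∈ centralizer ({t} : Set G), β c ∈ centralizer ({t} : Set G) := fun β hβ c hc =>
    mem_centralizer_singleton_iff.2 (by rw [← hβ, ← map_mul, mem_centralizer_singleton_iff.1 hc, map_mul])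
  let b : centralizer ({t} : Set G) →* centralizer ({t} : Set G) :=
    (β.toMonoidHom.comp (centralizer {t}).subtype).codRestrict _ fun c => hm β hβ c c.2
  let ψ := π.liftOfSurjective hs ⟨π.comp b, fun c hc => (hk _).2 (((hk c).1 hc).imp
    (fun e => (congrArg β e).trans (map_one β)) fun e => (congrArg β e).trans hβ)⟩
  have h1 : ∀ c, ψ (π c) = π (b c) := fun c => π.liftOfRightInverse_comp_apply _ _ _ c
  have h2 : Function.Surjective ψ := fun a => by
    obtain ⟨c, rfl⟩ := hs a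
    refine ⟨π ⟨β⁻¹ c, hm _ (by rw [MulAut.inv_def, MulEquiv.symm_apply_eq, hβ]) c c.2⟩, (h1 _).trans (congrArg π (Subtype.ext ?_))⟩
    exact β.apply_symm_apply c
  exact ⟨MulEquiv.ofBijective ψ ⟨Finite.injective_iff_surjective.2 h2, h2⟩, fun c => ⟨b c, rfl, (h1 c).symm⟩⟩

theorem eq_of_odd {A : Type*} [Group A] {t : G} (ht : t ≠ 1) (ht2 : t * t = 1) {π : centralizer ({t} : Set G) →* A}
    (hk : ∀ c, π c = 1 ↔ c.1 = 1 ∨ c.1 = t) {c d : centralizer ({t} : Set G)} (hc : c.1 ^ 3 = 1) (hd : d.1 ^ 3 = 1)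
    (h : π c = π d) : c.1 = d.1 := by
  refine inv_mul_eq_one.1 (((hk (c⁻¹ * d)).1 (by rw [map_mul, map_inv, h, inv_mul_cancel])).resolve_right fun e => ht ?_)
  have e' : d.1 = c.1 * t := inv_mul_eq_iff_eq_mul.1 e
  rw [e', (show Commute c.1 t from mem_centralizer_singleton_iff.1 c.2).mul_pow, hc, one_mul, pow_succ, pow_two, ht2, one_mul] at hd
  exact hd

/-- each letter times a word in earlier letters commutes with the letter `z`. -/
def chkSt (E : List (List ℕ × List ℕ)) (z : ℕ) : List (ℕ × List ℕ) → List ℕ → Bool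
  | [], _ => true
  | s :: r, xs => Spor.Ct.sub xs s.2 && E.contains (z :: (s.2 ++ [s.1]), s.2 ++ [s.1] ++ [z]) && chkSt E z r (s.1 :: xs)

theorem mem_of_chkSt {G : Type} [Group G] {y : ℕ → G} {E : List (List ℕ × List ℕ)} (hE : Spor.Ct.Eqs y E) {z : ℕ} {H : Subgroup G}
    (hH : centralizer {y z} ≤ H) : ∀ (st : List (ℕ × List ℕ)) (xs : List ℕ), (∀ x ∈ xs, y x ∈ H) → chkSt E z st xs = true →
      ∀ x ∈ st.map Prod.fst, y x ∈ H
  | [], _, _, _ => nofun
  | s :: r, xs, hx, h => by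
    simp only [chkSt, Bool.and_eq_true] at h
    have h1 := hE.eq _ _ h.1.2
    rw [Spor.ev_cons, Spor.ev_append _ _ [z], Spor.ev_one] at h1
    have h2 := mul_mem (hH (mem_centralizer_singleton_iff.2 h1)) (inv_mem (Spor.genL_le hx (Spor.Ct.ev_mem_sub h.1.1)))
    rw [Spor.ev_append, Spor.ev_one, mul_inv_cancel_right] at h2
    exact List.forall_mem_cons.2 ⟨h2, mem_of_chkSt hE hH r _ (List.forall_mem_cons.2 ⟨h2, hx⟩) h.2⟩

section perm

variable {α : Type*} {n : ℕ} {E : Enc α n} {w m : ℕ} [MulAction G α]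

/-- `i ↦ a` is excluded for elements commuting with `L`. -/
def excl (w m : ℕ) (L : List ℕ) (i a : ℕ) : Bool :=
  anyL L fun v => not (Nat.beq (bif' (Nat.beq (get w m v i) i) 1 0) (bif' (Nat.beq (get w m v a) a) 1 0))

theorem not_excl {L : List ℕ} {p : G} (hL : CodesIn (PRep E w m) L (centralizer ({p} : Set G))) (x : α) :
    excl w m L (E.enc x) (E.enc (p • x)) ≠ true := fun h => by
  simp only [excl, anyL_iff, Bool.not_eq_true', ← Bool.not_eq_true, nbeq] at h
  obtain ⟨v, hv, h⟩ := h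
  obtain ⟨g, hg, r⟩ := hL v hv
  refine h (congrArg (bif' · 1 0) ?_)
  rw [Bool.eq_iff_iff, nbeq, nbeq, r, r, E.enc_inj, E.enc_inj, ← mul_smul, mem_centralizer_singleton_iff.1 hg, mul_smul,
    smul_left_cancel_iff]

theorem two_of_codes {L : List ℕ} {p : G} (hL : CodesIn (PRep E w m) L (centralizer ({p} : Set G))) {b : α} {i j : ℕ}
    (h : allLt n (fun a => bor (excl w m L (E.enc b) a) (bor (Nat.beq a i) (Nat.beq a j))) = true) :
    E.enc (p • b) = i ∨ E.enc (p • b) = j := by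
  have := allLt_iff.1 h _ (E.enc_lt (p • b))
  simp only [bor_eq, Bool.or_eq_true, nbeq] at this
  exact this.resolve_left (not_excl hL b)

theorem comm_of_codes [FaithfulSMul G α] {L : List ℕ} {p r : G} (hL : CodesIn (PRep E w m) L (centralizer ({p} : Set G))) {c : ℕ}
    (hr : PRep E w m c r) (h : allLt n (fun i => allLt n fun a => bor (excl w m L i a) (anyL L fun v =>
      band (Nat.beq (get w m v i) (get w m c i)) (Nat.beq (get w m v a) (get w m c a)))) = true) : p * r = r * p := by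
  refine eq_of_smul_eq_smul fun x : α => ?_
  have := allLt_iff.1 (allLt_iff.1 h _ (E.enc_lt x)) _ (E.enc_lt (p • x))
  simp only [bor_eq, band_eq, Bool.or_eq_true, Bool.and_eq_true, anyL_iff, nbeq] at this
  obtain ⟨v, hv, h1, h2⟩ := this.resolve_left (not_excl hL x)
  obtain ⟨g, hg, rg⟩ := hL v hv
  rw [rg, hr, E.enc_inj] at h1 h2
  rw [mul_smul, mul_smul, ← h1, ← h2, ← mul_smul, ← mul_smul, mem_centralizer_singleton_iff.1 hg]

theorem eq_of_codes [FaithfulSMul G α] {L : List ℕ} {p s : G} (hL : CodesIn (PRep E w m) L (centralizer ({p} : Set G))) {c : ℕ}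
    (hs : PRep E w m c s) {b : α} (hb : p • b = s • b) (h : allLt n (fun i => bor (anyL L fun v =>
      band (Nat.beq (get w m v (E.enc b)) i) (Nat.beq (get w m v (get w m c (E.enc b))) (get w m c i)))
        (allLt n fun a => bor (excl w m L i a) (Nat.beq a (get w m c i)))) = true) : p = s := by
  refine eq_of_smul_eq_smul fun x : α => ?_
  have := allLt_iff.1 h _ (E.enc_lt x)
  simp only [bor_eq, band_eq, Bool.or_eq_true, Bool.and_eq_true, anyL_iff, nbeq, allLt_iff] at this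
  rcases this with ⟨v, hv, h1, h2⟩ | h1
  · obtain ⟨g, hg, rg⟩ := hL v hv
    rw [hs, hs, rg, E.enc_inj] at h2
    rw [rg, E.enc_inj] at h1
    rw [← h2, ← h1, ← hb, ← mul_smul, ← mul_smul, mem_centralizer_singleton_iff.1 hg]
  · exact E.enc_injective (((h1 _ (E.enc_lt _)).resolve_left (not_excl hL x)).trans (hs x))

end perm

end Cfsg.Agent.Fus
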