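import Cfsg.Agent.Fus.Ly
import Cfsg.Agent.Fus.OutA
import Cfsg.Agent.Perm.AutAlt

/-! The outer automorphism group of the Lyons group is trivial (generated certificate, helper26). -/

set_option Elab.async false
set_option maxRecDepth 100000
set_option exponentiation.threshold 100000

namespace Cfsg.Agent.Fus.LyO

open Cfsg.Agent.Spor Subgroup Equiv

noncomputable def u : ℕ := LyM.D.spread 3 14 (joinL 4096 [nat_lit 0x96c381b6cc0e091060a2406ca8ca84b64c90c0cb2ca51931424a20484361932429c4a104021c4c125089c61b04932290c90c91c01c4cc80408c8a08dc6a10c130085c2132da04164c11b88b20268028b66128b9218d90192410c82092cb1096900a36d10807110026134dc6c470085c84001251a42029330311411308205a88c0080c96895024988d411c4cc20a2a16018a485890c0e40e22da01a00841a50b0128c328a9214832a445289050a09c80b91968849b82351c42025a4c112348b8549006624086d169910000071191a60140b4a350350c90948b24a6a45084214034200416424235138e16d32e35229204c90998e311c11021231371a8a09028932d04d86430e18916e221051c6096508132247238645136a42407200c20596884204118628590608d46c92642630416422d850469108431071c25b2c828a8a241b65909c30a84266361b6a08c008270a02484b6e369c44062362320941911810121240b8515128c80424888e08c84a34e26522cb8992480136633202838c02d02d40d48dc4800a36122c930029c32229b50b4538180c39048408098949210e10e260a0214ca6a189365a50490190b45c65168a48112352364345a69366109c71c6142440a12882111184c364b5236096c84484885100084930992216c80644d99204239048632224800d23130133118a28e02490c261965249c22380a85488c6c4,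
    nat_lit 0x2331146490c7198832d185490a91944865245164112091124841109b08200011840025b5012dc8642942c40022e10614199026cb8200c85097108c32d908c2d384128c69270c21008960241188c6c34498e389908c6dc4e105348a4238236000d36016ca2e19190c42a184226332261148264304820332311b25409860250a2436026e41042ca00864292440180844945b6dc09a50a91249c8920dc8c110311a84101c60b4db48141810c1036e24926e27012488a14529114425090d42140c320422385930924042141a90b09370a89c6c271225891989428102060109c1130d065985a6410626a46517000614102a48d95245142d06514612000d820b1084413042a04820080436a22e06544d070240926121865305248b0040a488344c52050940162081a40468a6437132835102906d14cb70868c4a34c328a70b1213010188d940b0d48da8080020da04224204c2480642e44436042835236640242438018c264b0a22426826140046492c06a142430104291380a88465a1104c105c4a228c6648594124c949c80471105a71b61b64111b01932321888a86105989b6c884b8d882124910c6da7221206521240a14910536244d025284a0c006201485484b25c7116822892604cb51365b0816e028328a0126097240c105b8c321288b2536880e28006020836a365c5238cc0a19239012cb65a8135184884916186e191a0d,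
    nat_lit 0x1023186938d164c90b05370a8c42200d488244430b2988e20e444065302008a1246522d372369b85288421920a01c60c4189107098c03214242da02241b88c0411020c18224840a480984c64488c2e03182096444202405218148810112d38c869211002481c4c98538892d485a61a0d484328992284b0d985331c2514e35038e16db48484029b6410088a26838c871c8502d988409c29b24820381926388a6524d88432dc4c03216d22c98e09224a24c949488911940448312010a4db51a20c8db28231340148309a06004a11b6138904618c88195012103038d84dc25c45b8528884d80c181b8634cb2e446480462008322232466161a65b8a02184a02c48a24514a18e128464320c4940a39015218a188c69b30029369b6a21092e009a4214893196c411c61960c91089209c2432cb8014434518e22e22420a04dc6e085032008c22210b45b2036414400508c305c4d320131b60384490441145a8836414648920123088008138c30e28a28d02843202906cb6610db40a41a50a2dc3030086c30944598db4e41026427098840130dc2044d850c2c340168462489191964826484311971c30321a2035023120e22d025a30b8436800624d821870248169a6827088092d100391c11101988c3244890e28ca8616a249344c2924894938d001b5202030e085800a4547196cb49124c64a2816ca49b2c825800c0c972028c4240,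
    nat_lit 0xc11b9184434988c30444843242db2db0d92d00a152189a4d131c8d93094a40014802240846cb05164386065190c4d82896186010d928361089102000841b0e312001485489b0030594828c38c80840a06c145152280a2199001088818118508093080a148b8c281925450c81c4a10418208dc4c36a32018096a38418cc81c0dc6199190e330104b3235222414017226111116485080536a34c93028c93102dc68889b4da0e22d106245c26300c68182490464b0228416888204d90630648cb1090e481a0098807016017202e06928143119037180a045a4e43018cb30c61a2135184d87248da8c88c490346261c0e40a37143196a26833042440e46214d122430488b28100241841829b48a3014a44620a42cb6140943081086c02105122d26538a322311881b89041345305a80a85970491345b4a10c966481c7210d221c24184b8406a068368c0828d200945a6cc46062210322246021c92024280b0c040424b25320266489100828c09044020032301c0500ca2088d04882096928413042082800182640dc86030a85164361849091b8e268850211324329411881b6c925949a2444d44c37134cc4e212212268446348112122230b12162110b49921346440410811a0e02a48648218946cc6d24d361089404a68a4d089a60325a8c800c6818496a30c04d32cb00429386061145c6e268c6104090540186e2859918510103,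
    nat_lit 0x236118598ca8a111a8424e46cc04000c51265912352302406325b2238418e160b85461b2024c92e06848a381351c6d971868221b51446491229b91c2da2da6a104240b2c805271129c2dc8080516d040390109090a2c39110d86236c91216544c38db04b60446151c8d400a24868468c6a00cc28031089169a7083124a005431301c48950350304908b31380048b44944a80032230b64288489889c51b70221368940c71c44b4207002800908d86e09022d48c931370369270a89288080428a20182421941048a24464921128b45a86328c69000348911031450b4dc4c90180c03024dc8533206d051884c2d44a03198d02dc0182cb6d20838612c94c144209b0c84c184491490b7095106c18e229201c6e28180414c491449991b01b4d84c92d441a2215232534cb9084240e16cb3084a488080b9025232d32d16626926ca7018514134e200948b00441a24a25969284c2136d221a31c62464a85a30a0c38048084220da40830c00385c7090425010a14e26880092614026e000181c4cc72382280160c20830c5091108d001421950909b1144516ca08a3216412411194cb2c00e32c90c46c990090928941b0948938ca41a30b81c4c14e024389c4181012c94a091b10040b45320368c86001b10269192024c45221b8910144a24d40504a44982024ca70b4e37029118238c98d185349b45204302165908c6c481851222010,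
    nat_lit 0x82110825901402111141b8a40434e24d36203048832606cb40c2008c26186a17106110536094145010d08e12cb51a20442304c28c92080820c46351a4a28936135244d040c0e130b6da2a48c045c30181104c92364a61b3116030804948c22ca8480940d22938580580dc08b8903090032a451149a68062261064491920909a88371a48b4588545192e18c04230c08c381229c7194c88482cc81042371a7188126922e06c42c052491c20b1180120dc65b90284b3133186d07230c88232994ca48265460a0c869a8c845a2cc60944362472065348c11a3008644544e31140c34528610632826145202414198820a426369a6e38d968465465c64a1235223096433108411120634e389c80825970b11061b8d00645024e21104e491c2590981014004a268a0444900c320a29b8ca51425c11885a60a31381044a7002114624184842d086161030405401350884c8822d47214e408c49345a10221369189110901c4811032d15112098c965469c90a46108852280170b48c01106445950b8c30988db2840c485c50c91c2102043026a289882364a1022d44cb4930206e124c2c16d18a06214402c190a84a6d205c6438918502c98428c040168b2486431039202a372241806069842308270825864c00132350941a25c62069200a00431208b6c17104936cc72050108a25c85485101208a04c8632604c87206e091c2986cc49c8,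
    nat_lit 0x21889c2216001107138896934c100441b2936a31196e22430da05230109920161c4622620222d44e12120da0a420c6d365085112060c0e08204042ca84a6118d02c95002d32dc6624cc4e28214c050a10200284a89a9119024491096e44232630106e101209b4e030b2cc2d38104606608424d225960890869a91324a2908080918804433126d211066429124844b2c885b4d924c89a6e482264c50a2411080e33182d029c0db8da4980e26d84140dc8e38612110e424b88025a2034108e071c89110988070b09380322391071181b52064c8c06e28898e345369489851231965005c8cb5136d068860b6e48538940d260b6114cb80a49b4e326165b00064064a6d362320249c7188d271b0046e02010d26c08424580dc0620ca6082180d82492d30596c34888d04d344266484324004b42269a90c30464b0e00238402204118018e065b4124e24d081080b8132a04cc60400b45130c50102320a6a071b69c70210c4d44532e192481a5202c00e201c2a08886491026823045023242e448a0d94cb64b0108814912932100d92582d328084b05891a0da49a40401262165249a6932a15214da8924816c809b04205270b4e20c08826e31196a48830d98126132e36980010d06d20094230884d48818214a285c31112088929220c45b6193120a08532224db8944810842d991152369a6d300b09200a64c8494602c48cb064419,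
    nat_lit 0x4049c8198240990992e471968c22109424c81068c0242dc49090330244c4d08186817206d34c43122e02da4202dc2536a46d328c0d85209182e16e022141a8d885289c09185050445c40a4634e36202c345292449b2834008914a312205a2ca6434190235012cb8840e40e348320b29a6da29229b0d08cc1130032492891096d210184420984345005a48a2122486646e208105870825a5222dc80961a4832da6589028a26510cc5208401200a482328248401a04022025892152070000170b0e105a51a4d34048cc44b6dc08881b04a09128b0c180b64a72361b4d98900046502593126992a45225124e10190620132c888824c61289a2828442208c361c09b61100311288a4188ca2110130880602532e12984230d27104800248239088dc4cc29c21310c0993212624c40e440a81128372371b6090136e009b21301052380c0a409301152049425a0d42214494214442c90e330b20281321a2406c93046cc31462101840b08a28b21469429002170c3038008d965a8830580046237109046cc4503230926436586940434986c22923205010436e225b31122210062391c3138d92923140c151a88970144c0936a07086030584c30a24a28446001084d14a14e230271089864c31824830a2d062221a82261c4436d160162260404b1017090041080540da45104130b6526580522e391b4d46c22898148080a485a90a68104,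
    nat_lit 0x30231c20890966424022381262181365b6586614d170192252461005990908311b2a385926008b6e26026595232c10d471391406471b89480050b89364991110285928c31070166381a0604228192e00d06000238991218d984321404488a4c06e30424996e23214c08404ca48040b7094991142630134c868108380a69488c08100a31168c6944db28a52028988b9246e364c02020a9202c36d94212592248220a04844184c48a384a28b8404491096584920c892312060a0a46d30416195231184920d945a60011b09911c48161148048844b28141400a0da9040998cb2d171421485c8644011222a40222e36a464931145c41404464c61b0d96144128014c22114914c08a04a38ca4414227206d268109988b28991191811201845c2030a144880c1042e32c272352471a00285990804b2d18992d170904411084b2605085117046d08d025a41321c1212647006130dc6018516c330921062282160c81a4e200c2da04c90424391340060b4492234404e20a10848ca6024d870009261826265b20a0446610590c34c401b24151051400025b6813097124d808a41a32029b11009b64124b2446e091802332060989025b2e10e170211c1218d42a02884cc81484882211349c51225c6cb71150a5126249220cb84a22085390c45c26488b0a230271c2626038043098e00a312125a84b29161c01264a04140464020c7189088,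
    nat_lit 0x324105982289a01028829c802])

noncomputable def As : List ℕ := [LyC.m2a22, LyC.m2a23, LyC.m2a24, LyC.m2a25, LyC.m2a26, LyC.m2a27, LyC.m2a28, LyC.m2a29, LyC.m2a30, LyC.m1a20, u, LyM.a0, LyM.a1, LyM.a2, LyM.a3, LyM.a4, LyM.a5, LyM.a6, LyM.a7, LyM.a8, LyM.a4, LyM.a5, LyM.a11, LyM.a12, LyM.a13, LyM.a14, LyM.a15, LyM.a16, LyM.a17, LyM.a18, LyM.a19]

def es : List Ex := [(.lt 22),
  (.lt 23),
  (.lt 24),
  (.lt 25),
  (.lt 26),
  (.lt 27),
  (.lt 28),
  (.lt 29),
  (.lt 30),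
  (.lt 20),
  (.mul (.mul (.sq (.lt 22)) (.mul (.lt 30) (.mul (.lt 24) (.lt 8)))) (.mul (.sq (.sq (.sq (.mul (.mul (.mul (.lt 8) (.mul (.lt 20) (.lt 8))) (.mul (.lt 22) (.sq (.lt 23)))) (.mul (.mul (.lt 22) (.mul (.lt 24) (.lt 28))) (.mul (.mul (.lt 25) (.lt 29)) (.mul (.lt 24) (.lt 28)))))))) (.mul (.mul (.lt 26) (.lt 27)) (.mul (.lt 29) (.lt 28))))),
  (.lt 0),
  (.lt 1),
  (.lt 2),
  (.lt 3),
  (.lt 4),
  (.lt 5),
  (.lt 6),
  (.lt 7),
  (.lt 8),
  (.lt 9),
  (.lt 10),
  (.lt 11),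
  (.lt 12),
  (.lt 13),
  (.lt 14),
  (.lt 15),
  (.lt 16),
  (.lt 17),
  (.lt 18),
  (.lt 19)]

def e0 : List (Ex × List Ex) := [(.mul (.lt 9) (.lt 10), [.mul (.lt 10) (.mul (.mul (.mul (.lt 0) (.lt 1)) (.mul (.lt 1) (.mul (.lt 0) (.lt 2)))) (.mul (.mul (.lt 4) (.lt 3)) (.mul (.lt 5) (.mul (.lt 2) (.lt 4)))))]),
  (.mul (.mul (.mul (.mul (.lt 0) (.lt 1)) (.mul (.lt 1) (.mul (.lt 0) (.lt 2)))) (.mul (.mul (.lt 4) (.lt 3)) (.mul (.lt 5) (.mul (.lt 2) (.lt 4))))) (.lt 10), [.mul (.lt 10) (.lt 9)]),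
  (.mul (.mul (.mul (.lt 0) (.lt 1)) (.mul (.lt 1) (.lt 0))) (.lt 10), [.mul (.lt 10) (.mul (.mul (.mul (.lt 1) (.lt 0)) (.mul (.lt 2) (.lt 3))) (.mul (.mul (.lt 5) (.lt 4)) (.mul (.lt 3) (.mul (.lt 2) (.lt 9)))))]),
  (.mul (.mul (.mul (.lt 2) (.lt 3)) (.mul (.lt 3) (.lt 2))) (.lt 10), [.mul (.lt 10) (.mul (.mul (.mul (.lt 0) (.lt 1)) (.mul (.lt 3) (.lt 2))) (.mul (.mul (.lt 1) (.lt 0)) (.mul (.lt 4) (.lt 5))))]),
  (.mul (.mul (.mul (.mul (.lt 1) (.lt 0)) (.mul (.lt 2) (.lt 3))) (.mul (.mul (.lt 4) (.lt 5)) (.mul (.lt 2) (.lt 3)))) (.lt 10), [.mul (.lt 10) (.mul (.mul (.mul (.lt 0) (.lt 1)) (.mul (.lt 5) (.lt 4))) (.mul (.mul (.lt 0) (.lt 1)) (.mul (.lt 2) (.mul (.lt 3) (.lt 9)))))]),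
  (.mul (.mul (.mul (.mul (.lt 0) (.lt 1)) (.mul (.lt 4) (.lt 5))) (.mul (.mul (.lt 0) (.lt 1)) (.mul (.lt 3) (.lt 2)))) (.lt 10), [.mul (.lt 10) (.mul (.mul (.mul (.lt 1) (.lt 0)) (.mul (.lt 2) (.lt 3))) (.mul (.mul (.lt 4) (.lt 5)) (.mul (.lt 2) (.mul (.lt 3) (.lt 9)))))]),
  (.mul (.mul (.mul (.lt 6) (.mul (.lt 8) (.lt 7))) (.mul (.lt 6) (.mul (.lt 8) (.lt 9)))) (.lt 10), [.mul (.lt 10) (.mul (.mul (.lt 6) (.mul (.lt 8) (.lt 7))) (.mul (.lt 6) (.mul (.lt 8) (.lt 9))))]),
  (.mul (.mul (.mul (.mul (.lt 1) (.lt 0)) (.mul (.lt 2) (.lt 6))) (.mul (.mul (.lt 3) (.lt 7)) (.mul (.lt 2) (.lt 6)))) (.lt 10), [.mul (.lt 10) (.mul (.mul (.mul (.lt 2) (.lt 3)) (.mul (.lt 3) (.mul (.lt 5) (.lt 6)))) (.mul (.mul (.lt 3) (.mul (.lt 7) (.lt 4))) (.mul (.lt 6) (.mul (.lt 2) (.lt 9)))))]),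
  (.mul (.mul (.mul (.mul (.lt 0) (.lt 1)) (.mul (.lt 2) (.lt 3))) (.mul (.mul (.lt 4) (.lt 5)) (.mul (.lt 0) (.lt 1)))) (.lt 10), [.mul (.lt 10) (.mul (.mul (.mul (.lt 2) (.mul (.lt 0) (.lt 1))) (.mul (.mul (.lt 2) (.lt 5)) (.mul (.lt 6) (.lt 2)))) (.mul (.mul (.lt 7) (.mul (.lt 4) (.lt 8))) (.mul (.mul (.lt 3) (.lt 6)) (.mul (.lt 0) (.lt 9)))))]),
  (.mul (.sq (.mul (.mul (.mul (.lt 0) (.lt 1)) (.mul (.lt 2) (.lt 3))) (.mul (.mul (.lt 4) (.lt 5)) (.mul (.lt 0) (.lt 1))))) (.mul (.mul (.mul (.lt 0) (.lt 1)) (.mul (.lt 2) (.lt 3))) (.mul (.mul (.lt 4) (.lt 5)) (.mul (.lt 0) (.lt 1)))), [])]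

def e1 : List (Ex × List Ex) := [(.mul (.lt 9) (.lt 11), [.mul (.lt 11) (.lt 9)]),
  (.mul (.lt 9) (.lt 12), [.mul (.lt 12) (.lt 9)]),
  (.mul (.lt 9) (.lt 13), [.mul (.lt 13) (.lt 9)]),
  (.mul (.lt 9) (.lt 14), [.mul (.lt 14) (.lt 9)]),
  (.mul (.lt 9) (.lt 17), [.mul (.lt 17) (.lt 9)]),
  (.mul (.lt 9) (.lt 18), [.mul (.lt 18) (.lt 9)]),
  (.mul (.lt 9) (.lt 28), [.mul (.lt 28) (.lt 9)]),
  (.mul (.lt 9) (.lt 29), [.mul (.lt 29) (.lt 9)]),
  (.mul (.lt 9) (.lt 30), [.mul (.lt 30) (.lt 9)]),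
  (.mul (.lt 9) (.mul (.mul (.mul (.lt 10) (.mul (.lt 0) (.lt 8))) (.mul (.lt 8) (.mul (.lt 10) (.lt 2)))) (.mul (.mul (.lt 5) (.mul (.lt 4) (.lt 6))) (.mul (.lt 7) (.mul (.lt 0) (.lt 19))))), [.mul (.mul (.mul (.mul (.lt 10) (.mul (.lt 0) (.lt 8))) (.mul (.lt 8) (.mul (.lt 10) (.lt 2)))) (.mul (.mul (.lt 5) (.mul (.lt 4) (.lt 6))) (.mul (.lt 7) (.mul (.lt 0) (.lt 19))))) (.lt 9)]),
  (.mul (.lt 9) (.mul (.mul (.mul (.mul (.lt 19) (.lt 28)) (.mul (.lt 19) (.lt 12))) (.mul (.mul (.lt 19) (.lt 28)) (.mul (.lt 19) (.lt 11)))) (.mul (.mul (.mul (.lt 13) (.lt 12)) (.mul (.lt 19) (.lt 28))) (.mul (.mul (.lt 19) (.lt 11)) (.mul (.lt 14) (.lt 23))))), [.mul (.mul (.mul (.mul (.mul (.lt 19) (.lt 28)) (.mul (.lt 19) (.lt 12))) (.mul (.mul (.lt 19) (.lt 28)) (.mul (.lt 19) (.lt 11)))) (.mul (.mul (.mul (.lt 13) (.lt 12)) (.mul (.lt 19) (.lt 28))) (.mul (.mul (.lt 19) (.lt 11)) (.mul (.lt 14) (.lt 23))))) (.lt 9)]),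
  (.mul (.lt 9) (.mul (.lt 23) (.lt 22)), [.mul (.mul (.lt 23) (.lt 22)) (.lt 9)]),
  (.mul (.lt 9) (.mul (.mul (.lt 11) (.lt 23)) (.mul (.lt 12) (.lt 15))), [.mul (.mul (.mul (.lt 11) (.lt 23)) (.mul (.lt 12) (.lt 15))) (.lt 9)]),
  (.mul (.lt 9) (.mul (.lt 15) (.lt 16)), [.mul (.mul (.lt 15) (.lt 16)) (.lt 9)]),
  (.mul (.lt 9) (.mul (.lt 16) (.lt 20)), [.mul (.mul (.lt 16) (.lt 20)) (.lt 9)]),
  (.mul (.lt 9) (.mul (.lt 15) (.lt 21)), [.mul (.mul (.lt 15) (.lt 21)) (.lt 9)]),
  (.mul (.lt 9) (.mul (.mul (.lt 14) (.lt 16)) (.mul (.lt 13) (.lt 24))), [.mul (.mul (.mul (.lt 14) (.lt 16)) (.mul (.lt 13) (.lt 24))) (.lt 9)]),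
  (.mul (.lt 9) (.mul (.lt 24) (.lt 25)), [.mul (.mul (.lt 24) (.lt 25)) (.lt 9)]),
  (.mul (.lt 9) (.mul (.mul (.lt 13) (.lt 16)) (.mul (.lt 14) (.lt 26))), [.mul (.mul (.mul (.lt 13) (.lt 16)) (.mul (.lt 14) (.lt 26))) (.lt 9)]),
  (.mul (.lt 9) (.mul (.lt 26) (.lt 27)), [.mul (.mul (.lt 26) (.lt 27)) (.lt 9)])]

def st : List (ℕ × List ℕ) := [(11, []), (12, []), (13, []), (14, []), (17, []), (18, []), (28, []), (29, []), (30, []), (19, [10, 0, 8, 8, 10, 2, 5, 4, 6, 7, 0]), (23, [19, 28, 19, 12, 19, 28, 19, 11, 13, 12, 19, 28, 19, 11, 14]), (22, [23]), (15, [11, 23, 12]), (16, [15]), (20, [16]), (21, [15]), (24, [14, 16, 13]), (25, [24]), (26, [13, 16, 14]), (27, [26])]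

def sw : List ℕ := [0, 1, 1, 0, 2, 4, 3, 5, 2, 4]

def ps : List (List ℕ × List ℕ) := [([0, 1, 1, 0], [1, 0, 2, 3, 5, 4, 3, 2, 9]), ([2, 3, 3, 2], [0, 1, 3, 2, 1, 0, 4, 5]), ([1, 0, 2, 3, 4, 5, 2, 3], [0, 1, 5, 4, 0, 1, 2, 3, 9]), ([0, 1, 4, 5, 0, 1, 3, 2], [1, 0, 2, 3, 4, 5, 2, 3, 9])]

def ps' : List (List ℕ × List ℕ) := [([6, 8, 7, 6, 8, 9], [6, 8, 7, 6, 8, 9]), ([1, 0, 2, 6, 3, 7, 2, 6], [2, 3, 3, 5, 6, 3, 7, 4, 6, 2, 9])]

def rw : List ℕ := [0, 1, 2, 3, 4, 5, 0, 1]

def rw' : List ℕ := [2, 0, 1, 2, 5, 6, 2, 7, 4, 8, 3, 6, 0, 9]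

def Lp : List ℕ := [11649936535585, 11649936523825, 11649936273985, 11649931293265, 11649835872865, 11648057487985, 11615576797825, 11031461245585, 654820258465]

noncomputable abbrev y : ℕ → Cfsg.Spor.Ly := renG LyC.Y (es.map Ex.w)

theorem m : MAct LyM.D LyG.ρ As es.length y :=
  LyC.m2.ren 7 (by decide +kernel) (by decide +kernel) (allN_spec (by decide +kernel))

def E0 : List (List ℕ × List ℕ) := e0.map fun e => (e.1.w, Ct.ow e.2)

theorem q0 : Ct.Eqs y E0 := Ct.eqs_M m (by decide +kernel) (by decide +kernel)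

theorem q1 : Ct.Eqs y (e1.map fun e => (e.1.w, Ct.ow e.2)) := Ct.eqs_M m (by decide +kernel) (by decide +kernel)

theorem yY {i j : ℕ} (h : getL (es.map Ex.w) [] i = [j]) : y i = LyC.Y j := by rw [y, renG, h, ev_one]

theorem y9 : y 9 = LyC.Y 20 := yY (by decide +kernel)

theorem y3 : ∀ i < 9, y i = LyC.Y (22 + i) := fun i hi => yY (by revert i; decide +kernel)

abbrev C : Subgroup Cfsg.Spor.Ly := centralizer {LyC.Y 20}

theorem top (H : Subgroup Cfsg.Spor.Ly) (h1 : C ≤ H) (h2 : y 10 ∈ H) : H = ⊤ := by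
  have hC : ∀ x ∈ List.range 10, y x ∈ H := fun x hx => h1 (by
    rcases Nat.lt_succ_iff_lt_or_eq.1 (List.mem_range.1 hx) with h | rfl
    · rw [y3 x h]; exact LyC.cent2.ge (mem_genL _ (by revert x; decide))
    · exact y9 ▸ mem_centralizer_singleton_iff.2 rfl)
  have h := mem_of_chkSt q1 (z := 9) (y9 ▸ h1) st (10 :: List.range 10) (List.forall_mem_cons.2 ⟨h2, hC⟩) (by decide +kernel)
  have h' : ∀ x < 20, LyC.Y x ∈ H := fun x hx => yY (i := 11 + x) (j := x) (by revert x; decide +kernel) ▸ h _ (by revert x; decide +kernel)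
  refine LyG.gen H (fun k => (show ⊤ ≤ H.comap LyG.ι from LyC.topX.ge.trans ((genW_sing _ _).le.trans (genL_le fun x hx => ?_)))
    trivial) ?_
  · have e : LyC.Y x = LyG.ι (ev LyA.y [x]) := Ct.let_K [x] (by revert x; decide +kernel)
    have := h' x (by have := List.mem_range.1 hx; omega)
    rwa [e, ev_one] at this
  · have := h' 19 (by decide)
    rwa [← ev_one LyC.Y, Ct.ev_xp, show Ct.xp _ _ [19] = [33] by decide +kernel, ev_one] at this

theorem exists_pi : ∃ π : C →* alternatingGroup (Fin 11), Function.Surjective π ∧ (∀ c, π c = 1 ↔ c.1 = 1 ∨ c.1 = LyC.Y 20) ∧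
    ∀ (i : Fin 9) (c : C), c.1 = y i → (π c).1 = Pres.c3 i.succ.succ 0 1 := by
  obtain ⟨f, -, hf⟩ := carm_hom (n := 9) ((LyC.eqs.sub LyC.cent2.ge).quot_rels (center _) (qs := [20])
    (xs := [22, 23, 24, 25, 26, 27, 28, 29, 30]) (Ct.center_cent 20) (by decide +kernel))
  obtain ⟨h2, ⟨φ⟩, -⟩ := LyC.struct2
  have ht : (⟨LyC.Y 20, mem_centralizer_singleton_iff.2 rfl⟩ : C) ∈ center C :=
    mem_center_iff.2 fun g => Subtype.ext (mem_centralizer_singleton_iff.1 g.2)
  have hZ : ∀ c : C, c ∈ center C ↔ c.1 = 1 ∨ c.1 = LyC.Y 20 := fun c => ⟨fun hc => or_iff_not_imp_left.2 fun h =>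
    congrArg (·.1.1) (((Nat.card_eq_two_iff' (1 : center C)).1 h2).unique (y₁ := ⟨c, hc⟩) (y₂ := ⟨_, ht⟩)
      (fun e => h (congrArg (·.1.1) e)) fun e => LyC.z2 (congrArg (·.1.1) e)),
    fun h => h.elim (fun e => (Subtype.ext e : c = 1) ▸ one_mem _) fun e => (Subtype.ext e : c = ⟨_, _⟩) ▸ ht⟩
  have hr : ∀ i : Fin 9, (renG (subG C LyC.Y) (sing [22, 23, 24, 25, 26, 27, 28, 29, 30]) i).1 = y i := fun i => by
    rw [y3 i i.2, renG, show getL _ [] i.1 = [22 + i.1] by revert i; decide +kernel, ev_one]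
    exact coe_subG (LyC.cent2.ge (mem_genL _ (by revert i; decide)))
  have := alternatingGroup.isSimpleGroup (α := Fin 11) (by simp)
  obtain ⟨a, ha, -⟩ := hf 0
  have hi := injective_of_simple f (x := a) (ha ▸ fun e => ((hZ _).1 ((QuotientGroup.eq_one_iff _).1 e)).elim
    (fun e => m.ne (a := .lt 0) (b := .sq (.lt 0)) (by decide +kernel) (by decide +kernel) (by
      simp [Ex.w, show y 0 = 1 from (hr 0).symm.trans e]))
    fun e => m.ne (a := .lt 0) (b := .lt 9) (by decide +kernel) (by decide +kernel) (by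
      simp only [Ex.w, ev_one]; exact ((hr 0).symm.trans e).trans y9.symm))
  let e := MulEquiv.ofBijective f ((Nat.bijective_iff_injective_and_card f).2 ⟨hi, (Nat.card_congr φ.toEquiv).symm⟩)
  refine ⟨e.symm.toMonoidHom.comp (QuotientGroup.mk' _), e.symm.surjective.comp (QuotientGroup.mk'_surjective _),
    fun c => (e.symm.map_eq_one_iff.trans (QuotientGroup.eq_one_iff _)).trans (hZ c), fun i c hc => ?_⟩
  obtain ⟨a, h1, h3⟩ := hf i
  obtain rfl := Subtype.ext (hc.trans (hr i).symm)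
  exact (congrArg Subtype.val (e.symm_apply_eq.2 h1.symm)).trans h3

open Cfsg.Agent.Comp

noncomputable def π : C →* alternatingGroup (Fin 11) := exists_pi.choose

theorem hπ : ∀ c, π c = 1 ↔ c.1 = 1 ∨ c.1 = LyC.Y 20 := exists_pi.choose_spec.2.1

noncomputable def z (i : ℕ) : C := if i < 10 then subG C y i else 1

theorem hz {i : ℕ} (h : i < 10) : (z i).1 = y i := by
  rw [z, if_pos h]
  refine coe_subG ?_
  rcases Nat.lt_succ_iff_lt_or_eq.1 h with h | rfl
  · rw [y3 i h]; exact LyC.cent2.ge (mem_genL _ (by revert i; decide))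
  · exact y9 ▸ mem_centralizer_singleton_iff.2 rfl

theorem hw {w : List ℕ} (h : w.all (· < 10) = true) : (ev z w).1 = ev y w :=
  (map_ev C.subtype z w).trans (ev_congr fun x hx => hz (by simpa using List.all_eq_true.1 h x hx))

theorem par : Par 11 4 15 := ⟨by decide, by decide⟩

theorem hP (i : ℕ) : CRep (encFin 10) 4 15 (nthL (oneP 11 4) Lp i) (π (z i)).1 := by
  by_cases h : i < 9
  · rw [π, exists_pi.choose_spec.2.2 ⟨i, h⟩ _ (hz (by omega))]
    exact (show ∀ i : Fin 9, (∀ a : Fin 11, get 4 15 (nthL (oneP 11 4) Lp i) a = (Pres.c3 i.succ.succ 0 1 a).1) ∧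
      nthL (oneP 11 4) Lp i < 2 ^ (4 * 11) by decide +kernel) ⟨i, h⟩
  · rw [nthL_eq, List.getD_eq_default _ _ (not_lt.1 h), show π (z i) = 1 from ?_]
    · exact (isGrp_CRep _ par).one
    · by_cases h' : i = 9
      · exact (hπ _).2 (.inr (h' ▸ (hz (by decide)).trans y9))
      · rw [z, if_neg (by omega), map_one]

noncomputable def pc (w : List ℕ) : ℕ := evC (mulP 11 4 15) (oneP 11 4) Lp w

theorem rep (w : List ℕ) : CRep (encFin 10) 4 15 (pc w) (π (ev z w)).1 :=
  (show (π (ev z w)).1 = _ from map_ev ((alternatingGroup _).subtype.comp π) z w) ▸ evC_spec (isGrp_CRep _ par) hP w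

def sg (i : ℕ) : ℕ := if i = 6 then 7 else if i = 7 then 6 else i

theorem t2 : LyC.Y 20 * LyC.Y 20 = 1 := (pow_two _).symm.trans (LyC.eqs.pow 20 2 (by decide +kernel))

theorem norm (α : MulAut Cfsg.Spor.Ly) : ∃ g : Cfsg.Spor.Ly, ∃ f : ℕ → ℕ, (f = id ∨ f = sg) ∧
    ∀ i < 10, (MulAut.conj g * α) (y i) = y (f i) := by
  obtain ⟨R, h, hy⟩ := Ly.pc
  have e7 : Ly.y 7 = LyC.Y 20 := ev_one _ 20
  have h7 : R (Ly.c 1) (LyC.Y 20) := e7 ▸ hy 7 le_rfl
  obtain ⟨g, hg⟩ := aut_fix_central Nat.prime_two LyG.main.2.2.2.2.1 (by decide) (h.card le_rfl) (mem_UU_gen (l := 0) (by decide) h7)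
    (h.center Ly.hz h7).1 LyC.z2 (h.center Ly.hz h7).2 α
  obtain ⟨ψ, hψ⟩ := aut_quot π exists_pi.choose_spec.1 hπ hg
  obtain ⟨σ, rfl⟩ := (Perm.AutAlt.conjNormal_bijective (α := Fin 11) (by simp) (by simp)).2 ψ
  have hG := isGrp_CRep (encFin 10) par (G := Perm (Fin 11))
  have h3 : ∀ i < 9, y i ^ 3 = 1 := fun i hi => y3 i hi ▸ LyC.eqs.pow _ 3 (by revert i; decide +kernel)
  obtain ⟨τ, c, f, h1, h2, h4, h5⟩ : ∃ τ c f, τ * σ⁻¹ ∈ alternatingGroup (Fin 11) ∧ CRep (encFin 10) 4 15 c τ ∧ (f = id ∨ f = sg) ∧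
      f 9 = 9 ∧ ∀ i < 9, f i < 9 ∧ conjC (mulP 11 4 15) (invP 11 4 15) c (nthL (oneP 11 4) Lp i) = nthL (oneP 11 4) Lp (f i) := by
    rcases Int.units_eq_one_or (Perm.sign σ) with e | e
    · exact ⟨1, _, id, by simp [e], hG.one, .inl rfl, rfl, by decide +kernel⟩
    · exact ⟨swap 8 9, 11585512026640, sg, by simp [e], ⟨show ∀ a : Fin 11, get 4 15 11585512026640 a = (swap (8 : Fin 11) 9 a).1 by decide +kernel,
        by decide⟩, .inr rfl, rfl, by decide +kernel⟩
  obtain ⟨k, hk⟩ := exists_pi.choose_spec.1 ⟨_, h1⟩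
  refine ⟨k * g, f, h4, fun i hi => ?_⟩
  rw [map_mul, mul_assoc, MulAut.mul_apply, MulAut.conj_apply]
  rcases Nat.lt_succ_iff_lt_or_eq.1 hi with hi' | rfl
  · obtain ⟨d, e1, e2⟩ := hψ (z i)
    rw [hz hi] at e1
    rw [← e1, ← hz ((h5.2 i hi').1.trans (by decide))]
    refine eq_of_odd LyC.z2 t2 hπ (c := k * d * k⁻¹) (by
      show (k.1 * d.1 * k.1⁻¹) ^ 3 = 1
      rw [conj_pow, e1, ← map_pow, h3 i hi']; simp) (by rw [hz ((h5.2 i hi').1.trans (by decide)), h3 _ (h5.2 i hi').1])
      (Subtype.ext ((isCanon_CRep _ par).func ?_ ((h5.2 i hi').2 ▸ hP (f i))))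
    convert hG.conj h2 (hP i) using 1
    rw [map_mul, map_mul, map_inv, e2, show π k = _ from hk]
    simp [mul_assoc]
  · rw [h5.1, y9, hg, mem_centralizer_singleton_iff.1 k.2, mul_inv_cancel_right]

/-- `u c = c' u` for words in the letters of the centraliser. -/
def chk (f : ℕ → ℕ) (e : List ℕ × List ℕ) : Bool :=
  E0.contains (e.1 ++ [10], 10 :: e.2) && e.1.all (· < 10) && e.2.all (· < 10) && e.1.map f == e.1

section

variable {β : MulAut Cfsg.Spor.Ly} {f : ℕ → ℕ} (hf : ∀ i < 10, β (y i) = y (f i))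
include hf

theorem map_w {w : List ℕ} (h : w.all (· < 10) = true) : β (ev y w) = ev y (w.map f) := by
  rw [map_ev, ev_map]; exact ev_congr fun x hx => hf x (by simpa using List.all_eq_true.1 h x hx)

theorem key {e : List ℕ × List ℕ} (h : chk f e = true) : y 10 * ev y e.1 = ev y e.2 * y 10 ∧
    (ev y (e.2.map f) = ev y e.2 ↔ (y 10)⁻¹ * β (y 10) * ev y e.1 = ev y e.1 * ((y 10)⁻¹ * β (y 10))) := by
  simp only [chk, Bool.and_eq_true, beq_iff_eq] at h
  have h1 := q0.eq _ _ h.1.1.1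
  rw [ev_append, ev_one, ev_cons] at h1
  have h2 := congrArg β h1
  rw [map_mul, map_mul, map_w hf h.1.1.2, map_w hf h.1.2, h.2] at h2
  rw [mul_assoc, h2, ← mul_assoc, ← mul_assoc, mul_left_inj, inv_mul_eq_iff_eq_mul, ← mul_assoc, h1, mul_inv_cancel_right]
  exact ⟨rfl, Iff.rfl⟩

theorem codes {l : List (List ℕ × List ℕ)} (h : (([9], sw) :: l).all (fun e => chk f e && e.2.map f == e.2) = true) :
    ∃ X : C, X.1 = (y 10)⁻¹ * β (y 10) ∧
      CodesIn (PRep (encFin 10) 4 15) (l.map fun e => pc e.1) (centralizer {(π X).1}) := by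
  simp only [List.all_eq_true, Bool.and_eq_true, beq_iff_eq] at h
  have h1 := fun e he => (key hf (h e he).1).2.1 (by rw [(h e he).2])
  refine ⟨⟨_, mem_centralizer_singleton_iff.2 (by simpa only [ev_one, y9] using h1 _ List.mem_cons_self)⟩, rfl, fun c hc => ?_⟩
  obtain ⟨e, he, rfl⟩ := List.mem_map.1 hc
  have h2 := (h e (List.mem_cons_of_mem _ he)).1
  simp only [chk, Bool.and_eq_true] at h2
  refine ⟨_, mem_centralizer_singleton_iff.2 ?_, (rep _).1⟩
  rw [← coe_mul, ← coe_mul, ← map_mul, ← map_mul]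
  exact congrArg (fun c => (π c).1) (Subtype.ext (by simpa only [coe_mul, hw h2.1.1.2] using (h1 e (List.mem_cons_of_mem _ he)).symm))

end

theorem not_sg {β : MulAut Cfsg.Spor.Ly} (hf : ∀ i < 10, β (y i) = y (sg i)) : False := by
  obtain ⟨X, hX, hL⟩ := codes hf (l := ps) (by decide +kernel)
  have h1 := comm_of_codes ((isGrp_PRep _ par).mapW hL [[], [0], [2], [4], [6], [4, 6]]) (rep rw).1 (by decide +kernel)
  have h3 : (ev z rw).1 ^ 3 = 1 := by
    have := q0.eq (rw ++ rw ++ rw) [] (by decide +kernel)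
    rwa [ev_append, ev_append, ← hw (by decide), ← pow_two, ← pow_succ'] at this
  have h2 := eq_of_odd LyC.z2 t2 hπ (c := X * ev z rw * X⁻¹) (by
    show (X.1 * (ev z rw).1 * X.1⁻¹) ^ 3 = 1
    rw [conj_pow, h3]; simp) h3 (by
      rw [map_mul, map_mul, map_inv, mul_inv_eq_iff_eq_mul]; exact Subtype.ext h1)
  have h4 := (key hf (e := (rw, rw')) (by decide +kernel)).2.2 (by
    rw [← hX, ← hw (by decide)]; exact mul_inv_eq_iff_eq_mul.1 h2)
  rw [← hw (by decide), ← hw (by decide)] at h4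
  exact absurd ((isCanon_CRep _ par).canon (rep _) (Subtype.ext h4 ▸ rep rw')) (by decide +kernel)

theorem of_id {β : MulAut Cfsg.Spor.Ly} (hf : ∀ i < 10, β (y i) = y (id i)) : β = 1 ∨ β = MulAut.conj (LyC.Y 20) := by
  obtain ⟨X, hX, hL⟩ := codes hf (l := ps ++ ps') (by decide +kernel)
  have hL := (isGrp_PRep _ par).mapW hL [[], [2], [6], [6, 10], [10, 2], [10, 6], [10, 8], [6, 0, 10]]
  have hC : ∀ c ∈ C, β c = c := fun c hc => (show LyC.M2 ≤ β.toMonoidHom.eqLocus (MonoidHom.id _) from genL_le (List.forall_mem_cons.2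
    ⟨y9 ▸ hf 9 (by decide), fun x hx => by
      obtain ⟨i, hi, rfl⟩ : ∃ i < 9, x = 22 + i := by revert x; decide
      exact y3 i hi ▸ hf i (by omega)⟩)) (LyC.cent2.le hc)
  have ext : ∀ γ : MulAut Cfsg.Spor.Ly, (∀ c ∈ C, γ c = c) → β (y 10) = γ (y 10) → β = γ := fun γ h1 h2 => MulEquiv.ext fun g =>
    (top (β.toMonoidHom.eqLocus γ.toMonoidHom) (fun c hc => (hC c hc).trans (h1 c hc).symm) h2).ge trivial
  have h1 := (key hf (e := ([9], sw)) (by decide +kernel)).1
  have h2 := (key hf (e := (sw, [9])) (by decide +kernel)).1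
  rw [ev_one, y9, ← hw (by decide)] at h1 h2
  have hb : β (y 10) = y 10 * X := by rw [hX, mul_inv_cancel_left]
  have h3 : y 10 * X * (y 10 * X) = y 10 * y 10 := by
    rw [← hb, ← map_mul]
    exact hC _ (mem_centralizer_singleton_iff.2 (by rw [mul_assoc, h1, ← mul_assoc, h2, mul_assoc]))
  have h4 : (ev z sw).1 ≠ LyC.Y 20 := fun e => absurd ((isCanon_CRep _ par).canon (rep sw)
    (by rw [(hπ _).2 (.inr e)]; exact (isGrp_CRep _ par).one)) (by decide +kernel)
  have hs := mem_centralizer_singleton_iff.1 (ev z sw).2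
  have t1 : (LyC.Y 20)⁻¹ = LyC.Y 20 := inv_eq_of_mul_eq_one_right t2
  have s2 : (ev z sw).1 * (ev z sw).1 = 1 := by
    rw [← mul_left_inj (y 10), mul_assoc, ← h1, ← mul_assoc, ← h1, mul_assoc, t2, mul_one, one_mul]
  rcases two_of_codes hL (b := 0) (i := 0) (j := 1) (by decide +kernel) with e | e
  · rcases (hπ X).1 (Subtype.ext (eq_of_codes hL (PRep.one par) (b := 0) (Fin.ext e) (by decide +kernel))) with e | e
    · exact .inl (ext 1 (fun _ _ => rfl) (by rw [hb, e, mul_one]; rfl))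
    · rw [e, mul_assoc, mul_right_inj, ← mul_assoc, ← eq_mul_inv_iff_mul_eq, t1, h1, mul_left_inj] at h3
      exact absurd h3.symm h4
  · have e' := eq_of_codes hL (rep sw).1 (b := 0) (Fin.ext (e.trans (((rep sw).1 0).symm.trans (by decide +kernel)).symm))
      (by decide +kernel)
    rcases (hπ ((ev z sw)⁻¹ * X)).1 (by rw [map_mul, map_inv, Subtype.ext e', inv_mul_cancel]) with e | e
    · rw [← inv_mul_eq_one.1 e, mul_assoc, mul_right_inj, ← mul_assoc, ← eq_mul_inv_iff_mul_eq, inv_eq_of_mul_eq_one_right s2, h2,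
        mul_left_inj] at h3
      exact absurd h3 h4
    · refine .inr (ext _ (fun c hc => by rw [MulAut.conj_apply, ← mem_centralizer_singleton_iff.1 hc, mul_inv_cancel_right]) ?_)
      rw [hb, inv_mul_eq_iff_eq_mul.1 e, MulAut.conj_apply, t1, ← mul_assoc, h2]

theorem out : Nat.card (Cfsg.Out Cfsg.Spor.Ly) = 1 := by
  refine Nat.card_eq_one_iff_exists.2 ⟨1, fun x => ?_⟩
  obtain ⟨α, rfl⟩ := QuotientGroup.mk_surjective x
  obtain ⟨g, f, rfl | rfl, hf⟩ := norm α
  · rw [← Known.out_mk_conj g α]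
    exact (QuotientGroup.eq_one_iff _).2 ((of_id hf).elim (fun e => e ▸ one_mem _) fun e => ⟨_, e.symm⟩)
  · exact (not_sg hf).elim

end Cfsg.Agent.Fus.LyO
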