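import Cfsg.Agent.Fus.Pd

/-! The intersection of two normal subsystems. -/

set_option autoImplicit false

namespace Cfsg.Agent.Fus

open Subgroup Cfsg Cfsg.Agent.Loc Equiv
open Cfsg.FusionSystem (normalizerIn centralizerIn)
open scoped commutatorElement

variable {Ω : Type*} [Group Ω] {S T T₁ T₂ U P Q R N V W X Y : Subgroup Ω} {p n : ℕ} {F : FusionSystem S} {E : FusionSystem T}
  {E₁ : FusionSystem T₁} {E₂ : FusionSystem T₂} {a b f g k l : Perm Ω}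

/-- All `F`-conjugates of `V ≤ T` are self-centralizing in `T`. -/
def TC (F : FusionSystem S) (T V : Subgroup Ω) : Prop := V ≤ T ∧ ∀ f W, Iso F f V W → centralizerIn T W ≤ W

theorem TC.mono (h : TC F T V) (h1 : V ≤ W) (h2 : W ≤ T) : TC F T W := ⟨h2, fun f _ hf =>
  have := ((hf.restrict h1).maps.le_iff hf.maps).2 h1
  (CS_anti T this).trans ((h.2 f _ (hf.restrict h1)).trans this)⟩

theorem TC.iso (h : TC F T V) (hT : F.StronglyClosed T) (hf : Iso F f V W) : TC F T W :=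
  ⟨(closed_le hT).inv hf h.1, fun _ _ hg => h.2 _ _ (hf.trans hg)⟩

theorem TC.CS_le (h : TC F T V) (hT : T ≤ S) : centralizerIn T V ≤ V := h.2 1 V (iso_one F (h.1.trans hT))

theorem TC.centric [Finite T] (h : TC F T V) (hE : E.IsSubsystemOf F) : E.IsCentric V :=
  centric_iff.2 ⟨h.1, fun _ _ hf => h.2 _ _ (hf.sub hE)⟩

theorem Inv.tc [Finite S] (h : Inv E F) (hc : E.IsCentric V) : TC F T V := ⟨hc.1, fun _ _ hf => centric_CS_le (h.centric_iso hc hf)⟩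

theorem mem_of_pprime_of_pelt {G : Type*} [Group G] {M : Subgroup G} {x y : G} (hx : x ∈ normalizer (M : Set G)) (hy : y ∈ M)
    (h1 : ∃ k, x ^ p ^ k = 1) (h2 : (orderOf (y * x)).Coprime p) : y * x ∈ M :=
  let ⟨_, hk⟩ := h1
  mem_of_pprime_of_mem_sup (isPGroup_zpowers_of_pow hk) (zpowers_le.2 hx) (mul_mem (mem_sup_left hy) (mem_sup_right (mem_zpowers x))) h2

variable [Finite S]

theorem maps_of_cond' (hT : F.StronglyClosed T) (hg : Mor F X g) (hu : CU T X g) (hV : V ≤ X)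
    (hn : X ≤ normalizer (V : Set Ω)) (hm : Maps b V V) (e : ∀ x ∈ V, g x = b x) (hC : centralizerIn T V ≤ X)
    (h : ∀ x ∈ X, ∃ t ∈ X ⊓ T, ∀ y ∈ V, b (x * y * x⁻¹) = t * x * b y * (t * x)⁻¹) : Iso F g X X := by
  haveI := finite_of_le hg.le
  refine ⟨hg, hg.homOn.maps_self fun x hx => ?_⟩
  obtain ⟨t, ht, e'⟩ := h x hx
  have h0 : (t * x)⁻¹ * g x ∈ T := by
    simpa [mul_assoc] using T.mul_mem (conj_inv_mem_of_mem_normalizer (sc_le_normalizer hT (hg.le hx)) (T.inv_mem ht.2)) (hu x hx)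
  have := hC ⟨h0, hg.homOn.quot_mem_centralizer (y := t * x) hV hx (hm.congr e) fun y hy => by
    rw [e _ (conj_mem_of_mem_normalizer (hn hx) hy), e y hy, e' y hy]⟩
  simpa only [mul_inv_cancel_left] using X.mul_mem (X.mul_mem ht.1 hx) this

theorem Inv.ainv_MG (h : Inv E F) {K : Subgroup (Perm Ω)} (hK : K ≤ AutF E T) (hn : AutF F T ≤ normalizer (K : Set (Perm Ω))) :
    haveI := h.finite; AInv (MG E p K) F T := fun {a f P R} ha hf hm => by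
  haveI := h.finite
  obtain ⟨b, hb, h'⟩ := (mor_MG hK).1 hf
  refine (mor_MG hK).2 ⟨_, conj_mem_of_mem_normalizer (hn ha.res_mem) hb, ?_⟩
  rw [(supp_of_AutF (hK hb)).conj_congr ha.maps fun x hx => res_apply ha.maps hx]
  simpa [mul_assoc] using h.ainv_E0 ha h' hm

variable [Fact p.Prime]

theorem Sat.tc_of_fn (hF : Sat F p) (hT : F.StronglyClosed T) (hQ : F.IsFullyNormalized Q) (hQT : Q ≤ T) (hC : centralizerIn T Q ≤ Q) :
    TC F T Q := ⟨hQT, fun f W hf x hx => by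
  obtain ⟨k, h1, h2⟩ := hF.NS_mor hQ hf.symm
  have hx' : x ∈ normalizerIn S W := CS_le_NS S W ⟨hT.1 hx.1, hx.2⟩
  exact (h2 x).1 (hC ⟨sc_mem hT h1 hx' hx.1, (h1.mem_CS (le_NS hf.le') h2 hx' hx.2).2⟩)⟩

theorem Sat.tc_inf (hF : Sat F p) (hT : F.StronglyClosed T) (hc : F.IsCentric P) (hr : F.IsRadical p P) : TC F T (P ⊓ T) := by
  obtain ⟨k, Q, h1, h2, h3⟩ := hF.exists_NS_mor (inf_le_left.trans hc.1 : P ⊓ T ≤ S)
  have h4 := (h2.mono fun x (hx : x ∈ P) => ⟨hc.1 hx, mem_normalizer_inf (le_normalizer hx) (sc_le_normalizer hT (hc.1 hx))⟩).iso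
  obtain rfl := h3.unique (sc_maps_inf hT h4)
  exact (hF.tc_of_fn hT h1 inf_le_right (le_inf (CS_inf_le_of_cr hF.pg hT (centric_iso hc h4) (radical_iso hr h4)) (Fus.CS_le _ _))).iso
    hT (Iso.symm ⟨h4.mor.mono inf_le_left, h3⟩)

theorem Sat.star_tc (hF : Sat F p) (hT : F.StronglyClosed T) (hV : V ≤ T) (h : ¬ TC F T V) :
    ∃ f W, Iso F f V W ∧ ∃ t ∈ T, t ∉ W ∧ t ∈ Subgroup.normalizer (W : Set Ω) ∧ cr W t ∈ pCoreOf p (AutF F W) := by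
  obtain ⟨f, W, hf, hn⟩ := exists_fn F (hV.trans hT.1)
  obtain ⟨t, h1, h2⟩ := SetLike.not_le_iff_exists.1 fun k => h ((hF.tc_of_fn hT hn ((closed_le hT).inv hf hV) k).iso hT hf.symm)
  have h3 := centralizer_le_normalizer _ h1.2
  exact ⟨f, W, hf, t, h1.1, h2, h3, (cr_eq_one_iff h3).2 h1.2 ▸ one_mem _⟩

theorem WN.of_sub {D : FusionSystem U} (h : WN D F p) (hE : Sat E p) (h1 : D.IsSubsystemOf E) (h2 : E.IsSubsystemOf F) : WN D E p :=
  haveI := finite_of_le (sub_le h2)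
  ⟨h.satE, hE, hE.inv_of_sconj h1 (sc_sub' h2 h.sc (sub_le h1)) fun hk => h.inv.sconj (hk.sub h2)⟩

theorem WN.ext_rec (h : WN E F p) (hU : F.StronglyClosed U) (hUT : U ≤ T) (hV : F.IsFullyNormalized V) (hC : centralizerIn U V ≤ V)
    (hb : b ∈ AutF E V) (hp : (orderOf b).Coprime p) (h1 : V ≤ X) (h2 : X ≤ normalizerIn U V)
    (h3 : ∀ x ∈ X, ∃ t ∈ X ⊓ U, ∀ y ∈ V, b (x * y * x⁻¹) = t * x * b y * (t * x)⁻¹) :
    ∃ g ∈ AutF E X, (orderOf g).Coprime p ∧ ∀ x ∈ V, g x = b x := by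
  haveI := h.finite
  have hX := h2.trans (NS_le _ _)
  have hVT := h1.trans (hX.trans hUT)
  obtain ⟨g, hg, e⟩ := rec_ext (h.satE.rec_of_fn (h.satF.fn_sub h.sc h.sub hVT hV)) (iso_of_AutF hVT hb) (R := X) fun x hx => by
    obtain ⟨t, ht, e⟩ := h3 x hx
    exact mem_Ext.2 ⟨⟨hUT (hX hx), (h2 hx).2⟩, t * x, hUT (U.mul_mem ht.2 (hX hx)), e⟩
  replace hg := hg.mono le_sup_left
  have hi := maps_of_cond' hU (hg.sub h.sub) (cu_of_sc hU (hg.sub h.sub) le_rfl hX) h1 (h2.trans (NS_le_normalizer _ _))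
    (maps_of_AutF hb) e (hC.trans h1) h3
  obtain ⟨c, k1, -, k2, k3⟩ := Iso.exists_pprime ⟨hg, hi.maps⟩ h1 hp (maps_of_AutF hb) e (H := ⊤) (mem_top _)
  exact ⟨c, k1, k2, k3⟩

theorem pelt_of_fix (hS : IsPGroup p S) (hT : F.StronglyClosed T) (hC : centralizerIn T V ≤ V) (h1 : V ≤ X) (h2 : X ≤ normalizerIn T V)
    (ha : a ∈ AutF F X) (h : ∀ x ∈ V, a x = x) : ∃ k, a ^ p ^ k = 1 :=
  have hX := h2.trans ((NS_le _ _).trans hT.1)
  haveI := finite_of_le (h1.trans hX)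
  pow_eq_one_of_stab (hS.to_le (h1.trans hX)) (supp_of_AutF ha) (homOn_of_AutF ha) h1 h fun _ hx =>
    hC ((iso_of_AutF hX ha).mor.quot_mem_CS hT h1 h hx (h2 hx).1 (h2 hx).2)

theorem NI.ext_cu (h : NI E F p) (hV : F.IsFullyNormalized V) (hVT : V ≤ T) (hb : b ∈ AutF E V) (hp : (orderOf b).Coprime p)
    {K : Subgroup (Perm Ω)} (hK : K ≤ AutK S V) (hn : b ∈ normalizer (K : Set (Perm Ω))) :
    ∃ g ∈ AutF F (NK S V K ⊔ V), (orderOf g).Coprime p ∧ (∀ x ∈ V, g x = b x) ∧ CU T (NK S V K ⊔ V) g := by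
  have hD := h.pd_S
  have hi := (iso_of_AutF hVT hb).sub hD.ppi.sub
  obtain ⟨g, hg, e⟩ := rec_ext (hD.sat.rec_of_fn (h.satF.fn_sub (sc_S F) hD.sub hV.1 hV)) hi (R := NK S V K)
    (le_Ext_of_cj_le hi.maps (NK_le_NS _ _ _) (by rw [AutK_NK, inf_eq_right.2 hK, cj_eq_of_mem_normalizer hn]; exact hK))
  have hm := hi.maps.congr e
  have hg' : Iso h.tg.sys g (NK S V K ⊔ V) (NK S V K ⊔ V) := ⟨hg, hg.homOn.maps_sup ((hg.homOn.mono le_sup_left).maps_self fun x hx => by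
    have := hg.mem_NK le_sup_right hm (mem_sup_left hx) hx
    rwa [NK_cj_congr hi.maps e, cj_eq_of_mem_normalizer hn] at this) hm⟩
  obtain ⟨c, k1, -, k2, k3⟩ := hg'.exists_pprime le_sup_right hp hi.maps e (H := ⊤) (mem_top _)
  exact ⟨c, AutF_mono hD.sub _ k1, k2, k3, fun x hx => hD.ppi.hyp (mem_hyp hg.le k1 k2 hx)⟩

theorem NI.tg_inf (h₁ : NI E₁ F p) (h₂ : NI E₂ F p) :
    TG F p (T₁ ⊓ T₂) (T₁ ⊓ T₂) (TC F (T₁ ⊓ T₂)) fun V => AutF E₁ V ⊓ AutF E₂ V where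
  sat := h₁.satF
  scT := sc_inf h₁.sc h₂.sc
  scS := sc_inf h₁.sc h₂.sc
  le := le_rfl
  hle k := k.1
  up k h1 h2 := k.mono ((le_inf le_rfl k.1).trans h1) h2
  iso k hf := k.iso (sc_inf h₁.sc h₂.sc) hf
  fcr := h₁.satF.tc_inf (sc_inf h₁.sc h₂.sc)
  star := h₁.satF.star_tc (sc_inf h₁.sc h₂.sc)
  Ble _ := inf_le_left.trans (AutF_mono h₁.sub _)
  conj k hf hb := ⟨h₁.inv.conj_AutF hf (k.1.trans inf_le_left) hb.1, h₂.inv.conj_AutF hf (k.1.trans inf_le_right) hb.2⟩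
  cu k hb := cu_of_sc (sc_inf h₁.sc h₂.sc) ((iso_of_AutF (k.1.trans inf_le_left) hb.1).mor.sub h₁.sub) le_rfl k.1
  inn k := le_inf (AutK_le_AutF _ inf_le_left (k.1.trans inf_le_left)) (AutK_le_AutF _ inf_le_right (k.1.trans inf_le_right))
  res k _ h1 hb hm := ⟨Iso.res_mem ⟨(iso_of_AutF (k.1.trans inf_le_left) hb.1).mor.mono h1, hm⟩,
    Iso.res_mem ⟨(iso_of_AutF (k.1.trans inf_le_right) hb.2).mor.mono h1, hm⟩⟩
  l1 := fun {V b R u} k h1 _ hb hp hR hn hu => by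
    obtain ⟨g, k1, -, k2, k3⟩ := h₂.ext_cu h1 (k.1.trans inf_le_right) hb.2 hp (hR.trans inf_le_left) hn
    obtain ⟨t, ht, htn, rfl⟩ := mem_AutK.1 (h₁.toWN.inf_AutK h1 (k.1.trans inf_le_left) ⟨(hR hu).1, (hR hu).2.1⟩)
    have hi := iso_of_AutF (sup_le (NK_le _ _ _) h1.1) k1
    exact l1_of_ext (R := (NK S V R ⊔ V) ⊓ T₁) (hi.homOn.mono inf_le_left) (fun x hx => mem_inf.2 ⟨cu_of_sc h₁.sc hi.mor inf_le_left inf_le_right x hx,
      k3 x hx.1⟩) (le_inf le_sup_right (k.1.trans inf_le_left)) (maps_of_AutF hb.1) k2 ⟨mem_sup_left ⟨⟨h₁.le ht, htn⟩, hu⟩, ht⟩ htn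
  x4 := fun {V b X} k h1 _ hb hp hVX hX hx => by
    have hT := sc_inf h₁.sc h₂.sc
    have hC := k.CS_le hT.1
    have hXT := hX.trans (NS_le _ _)
    obtain ⟨g, k1, k2, k3⟩ := h₁.toWN.ext_rec hT inf_le_left h1 hC hb.1 hp hVX hX hx
    obtain ⟨c, l1, -, l3⟩ := h₂.toWN.ext_rec hT inf_le_right h1 hC hb.2 hp hVX hX hx
    have m1 := mul_mem (inv_mem (AutF_mono h₂.sub X l1)) (AutF_mono h₁.sub X k1)
    refine ⟨g, ⟨k1, ?_⟩, k3⟩
    simpa using mem_of_pprime_of_pelt (h₂.inv.AutF_normal (hXT.trans inf_le_right) m1) l1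
      (pelt_of_fix h₁.satF.pg hT hC hVX hX m1 fun x hx => by rw [Perm.mul_apply, k3 x hx, ← l3 x hx]; simp) (by simpa using k2)

theorem Inv.normal_GX (h : Inv E F) (hF : Sat F p) (hU : F.StronglyClosed U) (hUT : U ≤ T) :
    AutF F U ≤ normalizer (GX E U U (U ⊔ centralizerIn T U) (sup_CS_le hUT) : Set (Perm Ω)) :=
  le_normalizer_of_cj_le fun c hc => cj_le_iff_forall.2 fun d hd => by
    obtain ⟨h1, b, h2, h3, h4⟩ := hd
    obtain ⟨g, hg, e⟩ := hF.ext_CS (hF.fc_of_fn (fn_of_sc hU)) (iso_of_AutF hU.1 hc)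
    have hc' := maps_of_AutF hc
    have hle : U ⊔ centralizerIn T U ≤ centralizerIn S U ⊔ U := sup_le le_sup_right ((inf_le_inf_right _ h.le).trans le_sup_left)
    have hg' := hg.mono hle
    haveI : Finite (centralizerIn T U) := finite_of_le ((Fus.CS_le T U).trans h.le)
    have hi : Iso F g (U ⊔ centralizerIn T U) (U ⊔ centralizerIn T U) := ⟨hg', hg'.homOn.maps_sup (hc'.congr e)
      ((hg'.homOn.mono le_sup_right).maps_self fun x hx => ⟨sc_mem h.sc hg' (mem_sup_right hx) hx.1,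
        hg'.homOn.mem_centralizer le_sup_left (hc'.congr e) (mem_sup_right hx) hx.2⟩)⟩
    refine ⟨hc'.symm.trans (h1.trans hc'), g * b * g⁻¹, ⟨h.sconj hg' h2.le h2.mor le_rfl (fun _ => h2.mem) hi.maps,
      hi.maps.symm.trans (h2.maps.trans hi.maps)⟩, fun x hx => ?_, h4.conj hU (fun _ hx => h2.mem hx) hi⟩
    simp only [Perm.mul_apply]
    rw [hc'.inv_eq_of_eq e x hx, h3 _ (hc'.inv_mem hx), e _ (h1.mem (hc'.inv_mem hx))]

theorem NI.AutF_le_GX (h : NI E F p) : AutF E T ≤ GX F T T (T ⊔ centralizerIn S T) (sup_CS_le h.le) :=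
  haveI := h.finite; h.gx T (centric_self E)

omit [Finite S] [Fact p.Prime] in
/-- `D` is the intersection of `E₁` and `E₂`. -/
structure IsMeet (D : FusionSystem (T₁ ⊓ T₂)) (E₁ : FusionSystem T₁) (E₂ : FusionSystem T₂) (F : FusionSystem S) (p : ℕ) : Prop where
  ni : NI D F p
  ni₁ : NI D E₁ p
  ni₂ : NI D E₂ p
  max : ∀ D' : FusionSystem (T₁ ⊓ T₂), NI D' F p → NI D' E₁ p → NI D' E₂ p → D'.IsSubsystemOf D

theorem NI.sys_sub₁ (h₁ : NI E₁ F p) (h₂ : NI E₂ F p) : (h₁.tg_inf h₂).sys.IsSubsystemOf E₁ :=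
  haveI := (h₁.tg_inf h₂).finite
  sub_iff_perm.2 fun _ _ => (h₁.tg_inf h₂).ind (closed_mor E₁) (fun _ hs => mor_cp _ inf_le_left hs.1)
    fun _ _ k hb _ => (iso_of_AutF (k.1.trans inf_le_left) hb.1).mor

theorem NI.sys_sub₂ (h₁ : NI E₁ F p) (h₂ : NI E₂ F p) : (h₁.tg_inf h₂).sys.IsSubsystemOf E₂ :=
  haveI := (h₁.tg_inf h₂).finite
  sub_iff_perm.2 fun _ _ => (h₁.tg_inf h₂).ind (closed_mor E₂) (fun _ hs => mor_cp _ inf_le_right hs.2)
    fun _ _ k hb _ => (iso_of_AutF (k.1.trans inf_le_right) hb.2).mor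

theorem NI.exists_meet (h₁ : NI E₁ F p) (h₂ : NI E₂ F p) : ∃ D, IsMeet D E₁ E₂ F p := by
  have h := h₁.tg_inf h₂
  haveI := h.finite
  haveI := h₁.finite
  haveI := h₂.finite
  have w := h.wn
  have w₁ := w.of_sub h₁.satE (h₁.sys_sub₁ h₂) h₁.sub
  have w₂ := w.of_sub h₂.satE (h₁.sys_sub₂ h₂) h₂.sub
  set K := AutF h.sys (T₁ ⊓ T₂) ⊓ (GX F _ _ _ (sup_CS_le w.le) ⊓ (GX E₁ _ _ _ (sup_CS_le w₁.le) ⊓ GX E₂ _ _ _ (sup_CS_le w₂.le)))
  have hK : K ≤ AutF h.sys (T₁ ⊓ T₂) := inf_le_left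
  have h0 : Aut0 h.sys p ≤ K := by
    refine le_inf (Aut0_le _ _) ?_
    rw [← w.satE.AutF_OP]
    exact le_inf w.ni_OP.AutF_le_GX (le_inf w₁.ni_OP.AutF_le_GX w₂.ni_OP.AutF_le_GX)
  have hn : AutF F (T₁ ⊓ T₂) ≤ normalizer (K : Set (Perm Ω)) := fun c hc => mem_normalizer_inf (w.inv.AutF_normal le_rfl hc)
    (mem_normalizer_inf ((inv_refl F).normal_GX w.satF w.sc w.le hc) (mem_normalizer_inf (h₁.inv.normal_GX w.satF w.sc w₁.le hc)
      (h₂.inv.normal_GX w.satF w.sc w₂.le hc)))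
  have hD := (w.satE.ni_MG hK h0 ((AutF_mono w.sub _).trans hn)).toWN
  have hA := w.satE.AutF_MG hK h0
  have v := hD.trans w (w.inv.ainv_MG hK hn)
  refine ⟨_, v.ni_of_gx fun a ha => (hA.le ha).2.1, (v.of_sub h₁.satE (sub_trans hD.sub w₁.sub) h₁.sub).ni_of_gx
    fun a ha => (hA.le ha).2.2.1, (v.of_sub h₂.satE (sub_trans hD.sub w₂.sub) h₂.sub).ni_of_gx fun a ha => (hA.le ha).2.2.2,
    fun D' k k₁ k₂ => ?_⟩
  have hs : D'.IsSubsystemOf h.sys := sub_iff_perm.2 (k.satE.alperin_p' (closed_mor _) (fun t ht => mor_cp _ le_rfl ht)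
    fun P hP a ha hp => h.mor_gen (k.inv.tc (k.satE.base_fcr hP).2.1) ⟨AutF_mono k₁.sub P ha, AutF_mono k₂.sub P ha⟩ hp)
  exact w.satE.sub_of_ppr k.satE hs hD.ppr (hA.ge.trans' (le_inf (AutF_mono hs _) (le_inf k.AutF_le_GX
    (le_inf k₁.AutF_le_GX k₂.AutF_le_GX))))

end Cfsg.Agent.Fus
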