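import Cfsg.Agent.Fus.Prl

/-! The second centre of a `p`-group of maximal class and its centralizer. -/

set_option autoImplicit false

namespace Cfsg.Agent.Fus

open Subgroup Cfsg.Agent.BG
open scoped commutatorElement

section grp

variable {G : Type*} [Group G] {p n i j : ℕ} {x y g : G} {H N : Subgroup G} [Finite G] [hp : Fact p.Prime]

namespace MX

theorem ucs_eq (h : MX p G n) (i : ℕ) (hi : i ≤ n) : Subgroup.upperCentralSeries G i = γ G (n + 1 - i) := by
  induction i with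
  | zero => exact (h.bot n.lt_succ_self).symm
  | succ i ih =>
    obtain ⟨m, rfl⟩ : ∃ m, n = m + 1 + i := ⟨n - 1 - i, by omega⟩
    ext y
    rw [Subgroup.mem_upperCentralSeries_succ_iff, ih (by omega), show m + 1 + i + 1 - i = m + 1 + 1 by omega,
      show m + 1 + i + 1 - (i + 1) = m + 1 by omega, ← mk_mem_γ (N := γ G (m + 1 + 1)) (γ_anti (by omega)),
      ← (h.quot (by omega)).center_eq (by omega), mem_center_iff]
    refine ⟨fun k g => ?_, fun k g => ?_⟩
    · obtain ⟨g, rfl⟩ := QuotientGroup.mk_surjective g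
      exact (commutatorElement_eq_one_iff_mul_comm.1 ((QuotientGroup.eq_one_iff _).2 (k g))).symm
    · exact (QuotientGroup.eq_one_iff _).1 (commutatorElement_eq_one_iff_mul_comm.2 (k g).symm)

theorem cent_eq (h : MX p G (n + 1)) : C[γ G n] = K2 G n := by
  ext g
  refine ⟨fun k y hy => ?_, fun k y hy => ?_⟩
  · rw [commutatorElement_eq_one_iff_mul_comm.2 (k y hy).symm]; exact one_mem _
  · exact (commutatorElement_eq_one_iff_mul_comm.1 (mem_bot.1 ((h.bot (by omega)).le (k y hy)))).symm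

end MX

end grp

variable {Ω : Type*} [Group Ω] {S E R : Subgroup Ω} {p n : ℕ}

theorem mx_of_sub (hn : Nat.card S = p ^ n) (h2 : 2 ≤ n) (h : S.lowerCentralSeries (n - 2) ≠ ⊥) : MX p S (n - 2) :=
  ⟨by rw [hn, Nat.sub_add_cancel h2], fun e => h (by rw [← top_subtype_lowerCentralSeries, ← map_bot S.subtype, ← e])⟩

open Cfsg.FusionSystem (centralizerIn)

variable [Finite S] [hp : Fact p.Prime]

theorem MX.CZ_eq (h : MX p S (n + 1)) (hn : 1 ≤ n) : (centralizerIn S (Zs S 2)).subgroupOf S = K2 S n := by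
  rw [← h.cent_eq, Zs, h.ucs_eq 2 (by omega)]
  ext g
  exact ⟨fun k y hy => Subtype.ext (k.2 _ ⟨y, hy, rfl⟩), fun k => ⟨g.2, by
    rintro _ ⟨y, hy, rfl⟩; exact congrArg Subtype.val (k y hy)⟩⟩

theorem MX.CZ_lt (h : MX p S (n + 1)) (hn : 1 ≤ n) : centralizerIn S (Zs S 2) < S :=
  lt_of_le_of_ne inf_le_left fun e => h.K2_ne_top n.lt_succ_self (by rw [← h.CZ_eq hn, e, subgroupOf_self])

theorem MX.eq_of_CZ_lt (h : MX p S (n + 1)) (hn : 1 ≤ n) (h1 : centralizerIn S (Zs S 2) < R) (h2 : R ≤ S) : R = S := by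
  obtain ⟨x, k1, k2⟩ := SetLike.exists_of_lt h1
  refine h2.antisymm (subgroupOf_eq_top.1 (h.eq_top_of_K2 (x := ⟨x, h2 k1⟩) hn n.lt_succ_self ?_ k1 ?_)) <;>
    rw [← h.CZ_eq hn]
  exacts [comap_mono h1.le, k2]

theorem MX.Zs_le_CZ (h : MX p S (n + 1)) (hn : 1 ≤ n) : Zs S 2 ≤ centralizerIn S (Zs S 2) := fun x hx => by
  obtain ⟨y, hy, rfl⟩ := hx
  rw [h.ucs_eq 2 (by omega)] at hy
  exact (h.CZ_eq hn).ge (γ_le_K2 n (γ_anti hn hy))

end Cfsg.Agent.Fus
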