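import Cfsg.Agent.Fus.OutA
import Cfsg.Agent.LES.Basic

/-! Automorphisms fixing an involution whose centraliser has a large extraspecial subgroup (helper26). -/

set_option autoImplicit false

namespace Cfsg.Agent.Fus

open Subgroup Cfsg.Agent.LES

variable {G : Type} [Group G] [Finite G] {Q : Subgroup G} {z : G}

theorem aut_fix_LE (h : LE Q z) {n k : ℕ} (hn : Nat.card G = n) (h2 : ¬ 2 ^ (k + 1) ∣ n)
    (hd : 2 ^ k ∣ Nat.card (centralizer ({z} : Set G))) (α : MulAut G) : ∃ g : G, (MulAut.conj g * α) z = z := by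
  have hQ : Q ≤ centralizer {z} := fun q hq => mem_centralizer_singleton_iff.2 (h.zc q hq)
  obtain ⟨m, hm⟩ := IsPGroup.iff_card.1 h.pg
  obtain ⟨K, h1, h3⟩ := Sylow.exists_subgroup_card_pow_prime_le 2 hd (Q.subgroupOf _)
    ((Nat.card_congr (subgroupOfEquivOfLe hQ).toEquiv).trans hm)
    (not_lt.1 fun hl => h2 ((pow_dvd_pow 2 hl).trans (hm ▸ hn ▸ card_subgroup_dvd_card Q)))
  have h4 : Q ≤ K.map (centralizer {z}).subtype := fun q hq => ⟨⟨q, hQ hq⟩, h3 hq, rfl⟩
  exact aut_fix_central Nat.prime_two hn h2 ((card_map_of_injective (subtype_injective _)).trans h1) (h4 h.zQ)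
    (fun _ ⟨c, _, e⟩ => e ▸ mem_centralizer_singleton_iff.1 c.2) h.z1
    (fun x _ hx => h.cQ x fun q hq => (hx q (h4 hq)).symm) α

omit [Finite G] in
theorem map_cent {β : MulAut G} (hβ : β z = z) {c : G} (hc : c ∈ centralizer ({z} : Set G)) : β c ∈ centralizer ({z} : Set G) :=
  mem_centralizer_singleton_iff.2 (by rw [← hβ, ← map_mul, mem_centralizer_singleton_iff.1 hc, map_mul, hβ])

theorem aut_quot' {A : Type*} [Group A] [Finite A] (π : centralizer ({z} : Set G) →* A) (hs : Function.Surjective π)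
    (hk : ∀ c, π c = 1 ↔ c.1 ∈ Q) (hQ : Q ≤ centralizer {z})
    (hA : ∀ L : Subgroup A, L.Normal → Nat.card L ∣ Nat.card Q → L = ⊥) {β : MulAut G} (hβ : β z = z) :
    (∀ q ∈ Q, β q ∈ Q) ∧
      ∃ ψ : MulAut A, ∀ c : centralizer ({z} : Set G), ∃ c' : centralizer ({z} : Set G), c'.1 = β c ∧ π c' = ψ (π c) := by
  let b : centralizer ({z} : Set G) →* centralizer ({z} : Set G) :=
    (β.toMonoidHom.comp (centralizer {z}).subtype).codRestrict _ fun c => map_cent hβ c.2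
  have hb : Function.Surjective b := Finite.injective_iff_surjective.1 fun x y e =>
    Subtype.ext (β.injective (congrArg Subtype.val e))
  have h0 : π.ker ≤ (π.comp b).ker := (Subgroup.map_eq_bot_iff _).1 (hA _ (π.normal_ker.map _ (hs.comp hb)) ((card_map_dvd _ _).trans
    (by rw [show π.ker = Q.subgroupOf _ from Subgroup.ext hk, Nat.card_congr (subgroupOfEquivOfLe hQ).toEquiv])))
  let ψ := π.liftOfSurjective hs ⟨π.comp b, h0⟩
  have h1 : ∀ c, ψ (π c) = π (b c) := fun c => π.liftOfRightInverse_comp_apply _ _ _ c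
  have h2 : Function.Surjective ψ := fun a => by
    obtain ⟨c, rfl⟩ := hs.comp hb a
    exact ⟨π c, h1 c⟩
  exact ⟨fun q hq => (hk (b ⟨q, hQ hq⟩)).1 (h0 ((hk ⟨q, hQ hq⟩).2 hq)),
    MulEquiv.ofBijective ψ ⟨Finite.injective_iff_surjective.2 h2, h2⟩, fun c => ⟨b c, rfl, (h1 c).symm⟩⟩

theorem le_of_simple {A : Type*} [Group A] [IsSimpleGroup A] (h : ES Q z) (π : centralizer ({z} : Set G) →* A)
    (hs : Function.Surjective π) (hk : ∀ c, π c = 1 ↔ c.1 ∈ Q) {c q : G} (hc : c ∈ centralizer ({z} : Set G)) (h3 : c ^ 3 = 1)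
    (hq : q ∈ Q) (hn : ¬ Commute c q) : LE Q z := by
  have hQ : Q ≤ centralizer {z} := fun q hq => mem_centralizer_singleton_iff.2 (h.zc q hq)
  have hN : ∀ x ∈ centralizer ({z} : Set G), ∀ y ∈ Q, x * y * x⁻¹ ∈ Q := fun x hx y hy =>
    (hk _).1 (π.normal_ker.conj_mem ⟨y, hQ hy⟩ ((hk _).2 hy) ⟨x, hx⟩)
  refine ⟨h, fun x hx => ?_, fun x hx => mem_normalizer_fintype (hN x (mem_centralizer_singleton_iff.2 hx))⟩
  have : ((centralizer (Q : Set G)).subgroupOf (centralizer {z})).Normal := ⟨fun n hn g y hy => by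
    have := hn _ (hN _ (inv_mem g.2) y hy)
    simp only [coe_mul, coe_inv, coe_subtype] at this ⊢
    rw [← mul_left_inj g.1, ← mul_right_inj g.1⁻¹]
    simpa [mul_assoc] using this⟩
  rcases (this.map π hs).eq_bot_or_eq_top with e | e
  · exact h.cen x ((hk ⟨x, mem_centralizer_singleton_iff.2 (hx z h.zQ)⟩).1 (e.le (mem_map_of_mem _ fun y hy => (hx y hy).symm.eq))) hx
  · obtain ⟨d, hd, e⟩ := e.ge (mem_top (π ⟨c, hc⟩))
    have h1 : c * d.1⁻¹ ∈ Q := (hk (⟨c, hc⟩ * d⁻¹)).1 (by rw [map_mul, map_inv, e, mul_inv_cancel])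
    have h2 : c * q * c⁻¹ = q * z := by
      have := h.conj_of_not h1 hq fun e => hn (by simpa using e.mul_left (show Commute q d from hd q hq).symm)
      rwa [mul_inv_rev, inv_inv, mul_assoc c, (show Commute q d from hd q hq).inv_right.eq.symm, mul_assoc, mul_assoc,
        inv_mul_cancel_left, ← mul_assoc] at this
    have cz : ∀ x, c * (x * z) * c⁻¹ = c * x * c⁻¹ * z := fun x => by
      rw [mul_assoc (c * x), (show Commute c z from mem_centralizer_singleton_iff.1 hc).inv_left.eq]; group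
    have : c * (c * (c * q * c⁻¹) * c⁻¹) * c⁻¹ = c ^ 3 * q * (c ^ 3)⁻¹ := by
      simp only [pow_succ, pow_zero, one_mul, mul_inv_rev, mul_assoc]
    rw [h3, h2, cz, h2, cz, cz, h2, mul_assoc _ z, h.zz] at this
    exact absurd (by simpa using this) h.z1

/-- `x = y` modulo `z`. -/
def EqZ (z x y : G) : Prop := x = y ∨ x = y * z

section

variable (h : ES Q z)
include h

theorem EqZ.trans' {a b c : G} (h1 : EqZ z a b) (h2 : EqZ z b c) : EqZ z a c := by
  rcases h1 with rfl | rfl <;> rcases h2 with rfl | rfl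
  exacts [.inl rfl, .inr rfl, .inr rfl, .inl (by rw [mul_assoc, h.zz, mul_one])]

theorem EqZ.symm' {a b : G} (h1 : EqZ z a b) : EqZ z b a :=
  h1.imp Eq.symm fun e => by rw [e, mul_assoc, h.zz, mul_one]

omit [Finite G] h in
theorem EqZ.map {β : MulAut G} (hβ : β z = z) {a b : G} (h1 : EqZ z a b) : EqZ z (β a) (β b) :=
  h1.imp (congrArg β) fun e => by rw [e, map_mul, hβ]

theorem comm_mul {q x y : G} (hq : q ∈ Q) (hx : x ∈ Q) (hy : y ∈ Q) : Commute q (x * y) ↔ (Commute q x ↔ Commute q y) :=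
  ⟨fun e => ⟨fun e' => by simpa using e'.inv_right.mul_right e, fun e' => by simpa using e.mul_right e'.inv_right⟩,
    fun e => (em (Commute q x)).elim (fun e' => e'.mul_right (e.1 e')) fun e' =>
      (h.mul_comm_of hx hy hq (fun k => e' k.symm) fun k => e' (e.2 k.symm)).symm⟩

theorem fix_map {β : MulAut G} (hβ : β z = z) {s g g' : G} (hs : β s ∈ Q) (hg : g ∈ centralizer ({z} : Set G))
    (hf : EqZ z (g * s * g⁻¹) s) (hq : g'⁻¹ * β g ∈ Q) : EqZ z (g' * β s * g'⁻¹) (β s) := by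
  have h0 := (show Commute (β g) z from mem_centralizer_singleton_iff.1 (map_cent hβ hg)).mul_left (h.zc _ hq).inv_left
  have h2 := EqZ.map (β := MulAut.conj g') (mul_inv_eq_iff_eq_mul.2 (by simpa using h0.eq)) (h.comm _ hq _ hs)
  refine (h2.symm' h).trans' h ?_
  simpa [mul_assoc] using hf.map hβ

theorem inner_of_triv {β : MulAut G} (hβ : β z = z) (hq : ∀ q ∈ Q, EqZ z (β q) q) :
    ∃ s ∈ Q, ∀ q ∈ Q, (MulAut.conj s * β) q = q := by
  by_cases h0 : ∀ q ∈ Q, β q = q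
  · exact ⟨1, one_mem _, by simpa using h0⟩
  push Not at h0
  obtain ⟨y, hy, h1⟩ := h0
  have h2 := h.dperp (A := Q ⊓ β.toMonoidHom.eqLocus (MonoidHom.id G)) inf_le_left ⟨h.zQ, hβ⟩
  obtain ⟨s, hs, h3⟩ : ∃ s ∈ Q ⊓ centralizer (Q ⊓ β.toMonoidHom.eqLocus (MonoidHom.id G) : Subgroup G), ¬ Commute s y := by
    by_contra hn
    push Not at hn
    exact h1 (h2.le ⟨hy, hn⟩).2
  refine ⟨s, hs.1, fun q hq' => ?_⟩
  rcases hq q hq' with e | e
  · rw [MulAut.mul_apply, e]; exact mul_inv_eq_iff_eq_mul.2 (hs.2 q ⟨hq', e⟩).symm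
  · have h4 : β (q⁻¹ * y) = q⁻¹ * y := by
      rw [map_mul, map_inv, e, (hq y hy).resolve_left h1, mul_inv_rev, mul_assoc, ← mul_assoc q⁻¹,
        (h.zc _ (mul_mem (inv_mem hq') hy)).eq, inv_mul_cancel_left]
    have h5 := h.conj_of_not hs.1 hq' fun k => h3 (by
      simpa using k.mul_right (show Commute _ s from hs.2 _ ⟨Q.mul_mem (Q.inv_mem hq') hy, h4⟩).symm)
    rw [MulAut.mul_apply, e, map_mul, MulAut.conj_apply, h5, MulAut.conj_apply, (h.zc s hs.1).eq, mul_inv_cancel_right,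
      mul_assoc, h.zz, mul_one]

end

theorem eqZ_of_cent (h : LE Q z) {β : MulAut G} (hq : ∀ q ∈ Q, β q = q) {c : G} (hc : c ∈ centralizer ({z} : Set G)) :
    EqZ z (β c) c := by
  refine (h.cQ (c⁻¹ * β c) fun q hq' => ?_).imp (fun e => (inv_mul_eq_one.1 e).symm) inv_mul_eq_iff_eq_mul.1
  have := hq _ (h.conj_mem (mem_centralizer_singleton_iff.1 hc) hq')
  rw [map_mul, map_mul, map_inv, hq q hq', mul_inv_eq_iff_eq_mul] at this
  rw [Commute, SemiconjBy, mul_assoc, this]; group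

theorem eq_of_cent (h : LE Q z) {β : MulAut G} (hq : ∀ q ∈ Q, β q = q) {c : G} (hc : c ∈ centralizer ({z} : Set G))
    {k : ℕ} (hk : c ^ (2 * k + 1) ∈ Q) : β c = c := by
  refine (eqZ_of_cent h hq hc).resolve_right fun e => h.z1 ?_
  have := hq _ hk
  rwa [map_pow, e, (show Commute c z from mem_centralizer_singleton_iff.1 hc).mul_pow, mul_eq_left, pow_succ, pow_mul, pow_two,
    h.zz, one_pow, one_mul] at this

theorem inner_of_fix (h : LE Q z) {u s : G} (hs : s ∈ Q) (hne : s ≠ z) (h1 : u * z = s * u) (h2 : u * s = z * u)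
    (top : ∀ H : Subgroup G, centralizer {z} ≤ H → u ∈ H → H = ⊤) {β : MulAut G}
    (hβ : ∀ c ∈ centralizer ({z} : Set G), β c = c) : β = 1 ∨ β = MulAut.conj z := by
  have ext : ∀ γ : MulAut G, (∀ c ∈ centralizer ({z} : Set G), γ c = c) → β u = γ u → β = γ := fun γ h1 h2 => MulEquiv.ext fun g =>
    (top (β.toMonoidHom.eqLocus γ.toMonoidHom) (fun c hc => (hβ c hc).trans (h1 c hc).symm) h2).ge trivial
  have s2 : s * s = 1 := by rw [← mul_left_inj u, mul_assoc, ← h1, ← mul_assoc, ← h1, mul_assoc, h.zz, mul_one, one_mul]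
  have z1 : z⁻¹ = z := inv_eq_of_mul_eq_one_right h.zz
  have hb : β u = u * (u⁻¹ * β u) := (mul_inv_cancel_left _ _).symm
  have h3 : u * (u⁻¹ * β u) * (u * (u⁻¹ * β u)) = u * u := by
    rw [← hb, ← map_mul]
    exact hβ _ (mem_centralizer_singleton_iff.2 (by rw [mul_assoc, h1, ← mul_assoc, h2, mul_assoc]))
  rcases h.cent_A (x := u⁻¹ * β u) hs s2 (fun e => h.z1 (by simpa [e] using h1)) hne (fun y hy hc => by
    have := hβ (u * y * u⁻¹) (mem_centralizer_singleton_iff.2 (by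
      rw [show z = u * s * u⁻¹ from eq_mul_inv_iff_mul_eq.2 h2.symm]; exact (hc.conj u).eq))
    rw [map_mul, map_mul, map_inv, hβ y (mem_centralizer_singleton_iff.2 (h.zc y hy)), mul_inv_eq_iff_eq_mul] at this
    rw [Commute, SemiconjBy, mul_assoc, this]; group) with e | e | e | e
  · exact .inl (ext 1 (fun _ _ => rfl) (by rw [hb, e, mul_one]; rfl))
  · rw [e, mul_assoc, mul_right_inj, ← mul_assoc, ← eq_mul_inv_iff_mul_eq, z1, h1, mul_left_inj] at h3
    exact absurd h3.symm hne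
  · rw [e, mul_assoc, mul_right_inj, ← mul_assoc, ← eq_mul_inv_iff_mul_eq, inv_eq_of_mul_eq_one_right s2, h2, mul_left_inj] at h3
    exact absurd h3 hne
  · refine .inr (ext _ (fun c hc => by rw [MulAut.conj_apply, ← mem_centralizer_singleton_iff.1 hc, mul_inv_cancel_right]) ?_)
    rw [hb, e, MulAut.conj_apply, z1, ← mul_assoc, h2]

section bits

open Cfsg.Agent.Spor

variable {y : ℕ → G} {E : List (List ℕ × List ℕ)} {zl : ℕ} {qs : List ℕ}

/-- parity of the number of letters of a word whose bit is set. -/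
noncomputable def par (qs : List ℕ) (n : ℕ) (w : List ℕ) : Bool := List.rec false (fun x _ ih => xor (n.testBit (qs.idxOf x)) ih) w

/-- `g x g⁻¹ = w` for `(g, x, w) ∈ L`; the common fixed vectors are `0` and `n0`. -/
noncomputable def chkFix (E : List (List ℕ × List ℕ)) (zl : ℕ) (qs : List ℕ) (L : List (List ℕ × ℕ × List ℕ)) (n0 : ℕ) : Bool :=
  L.all (fun e => E.contains (e.2.1 :: e.1, e.1 ++ e.2.2) && Ct.sub (zl :: qs) (e.2.1 :: e.2.2)) &&
    allN (2 ^ qs.length) fun n => Nat.beq n 0 || Nat.beq n n0 || L.any fun e => par qs n [e.2.1] != par qs n e.2.2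

theorem conj_of_eqs (hE : Ct.Eqs y E) {x : ℕ} {g w : List ℕ} (h : E.contains (x :: g, g ++ w) = true) :
    ev y g * y x * (ev y g)⁻¹ = ev y w := by
  rw [mul_inv_eq_iff_eq_mul, ← ev_cons, ← ev_append, hE.eq _ _ h]

theorem fix_bits (h : ES Q (y zl)) (hE : Ct.Eqs y E) (hQ : genL y (zl :: qs) = Q) {L : List (List ℕ × ℕ × List ℕ)} {n0 : ℕ}
    (hc : chkFix E zl qs L n0 = true) {q : G} (hq : q ∈ Q) (hf : ∀ e ∈ L, EqZ (y zl) (ev y e.1 * q * (ev y e.1)⁻¹) q) :
    (q = 1 ∨ q = y zl) ∨ ∀ x ∈ zl :: qs, n0.testBit (qs.idxOf x) = true ↔ ¬ Commute q (y x) := by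
  classical
  let n := Nat.ofBits fun i : Fin qs.length => decide (¬ Commute q (y qs[i]))
  have h1 : ∀ x ∈ zl :: qs, n.testBit (qs.idxOf x) = true ↔ ¬ Commute q (y x) := fun x hx => by
    rw [Nat.testBit_ofBits]
    split_ifs with hi
    · simp
    · obtain rfl := (List.mem_cons.1 hx).resolve_right fun e => hi (List.idxOf_lt_length_iff.2 e)
      simpa using h.zc q hq
  have h2 : ∀ w, Ct.sub (zl :: qs) w = true → (par qs n w = true ↔ ¬ Commute q (ev y w)) := fun w hw => by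
    induction w with
    | nil => simp [par]
    | cons x w ih =>
      simp only [Ct.sub, List.all_cons, Bool.and_eq_true, List.contains_iff_mem] at hw
      rw [ev_cons, comm_mul h hq (hQ ▸ Ct.ev_mem_sub hw.2) (hQ ▸ mem_genL _ hw.1), ← not_iff_not (a := Commute _ _), ← ih hw.2,
        ← h1 x hw.1]
      show xor _ (par qs n w) = true ↔ _
      cases par qs n w <;> simp
  simp only [chkFix, Bool.and_eq_true, List.all_eq_true] at hc
  have h3 := allN_spec hc.2 n (Nat.ofBits_lt_two_pow _)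
  simp only [Bool.or_eq_true, Nat.beq_eq, List.any_eq_true, bne_iff_ne] at h3
  rcases h3 with (e | e) | ⟨e, he, h4⟩
  · refine .inl (h.cen q hq fun x hx => (show genL y (zl :: qs) ≤ centralizer {q} from genL_le fun x hx =>
      mem_centralizer_singleton_iff.2 (of_not_not (mt (h1 x hx).2 (by simp [e]))).symm.eq) (hQ.ge hx) q rfl)
  · exact .inr (e ▸ h1)
  · have h5 := (hc.1 e he).2
    simp only [Ct.sub, List.all_cons, Bool.and_eq_true] at h5
    refine absurd ?_ h4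
    rw [Bool.eq_iff_iff, h2 _ h5.2, h2 _ (by simp only [Ct.sub, List.all_cons, h5.1]; rfl), ev_one, not_iff_not,
      ← Commute.conj_iff (ev y e.1), conj_of_eqs hE (hc.1 e he).1]
    rcases hf e he with e' | e' <;> rw [e']
    have := (h.zc _ (hQ ▸ Ct.ev_mem_sub h5.2)).symm
    exact ⟨fun k => by simpa using k.mul_left this.inv_left, fun k => k.mul_left this⟩

theorem fix_none (h : ES Q (y zl)) (hE : Ct.Eqs y E) (hQ : genL y (zl :: qs) = Q) {L : List (List ℕ × ℕ × List ℕ)}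
    (hc : chkFix E zl qs L 0 = true) {q : G} (hq : q ∈ Q) (hf : ∀ e ∈ L, EqZ (y zl) (ev y e.1 * q * (ev y e.1)⁻¹) q) :
    q = 1 ∨ q = y zl :=
  (fix_bits h hE hQ hc hq hf).elim id fun h1 => h.cen q hq fun x hx => (show genL y (zl :: qs) ≤ centralizer {q} from
    genL_le fun x hx => mem_centralizer_singleton_iff.2 (of_not_not (mt (h1 x hx).2 (by simp))).symm.eq) (hQ.ge hx) q rfl

theorem fix_two (h : ES Q (y zl)) (hE : Ct.Eqs y E) (hQ : genL y (zl :: qs) = Q) {L : List (List ℕ × ℕ × List ℕ)} {n0 : ℕ}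
    (hc : chkFix E zl qs L n0 = true) {q s : G} (hq : q ∈ Q) (hf : ∀ e ∈ L, EqZ (y zl) (ev y e.1 * q * (ev y e.1)⁻¹) q)
    (hs : s ∈ Q) (hf' : ∀ e ∈ L, EqZ (y zl) (ev y e.1 * s * (ev y e.1)⁻¹) s) (h1 : ¬ (q = 1 ∨ q = y zl))
    (h2 : ¬ (s = 1 ∨ s = y zl)) : EqZ (y zl) q s := by
  have h3 := (fix_bits h hE hQ hc hq hf).resolve_left h1
  have h4 := (fix_bits h hE hQ hc hs hf').resolve_left h2
  refine (h.cen (s⁻¹ * q) (mul_mem (inv_mem hs) hq) fun x hx => (show genL y (zl :: qs) ≤ centralizer {s⁻¹ * q} from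
    genL_le fun x hx => mem_centralizer_singleton_iff.2 (h.comm_of_iff hs hq (hQ ▸ mem_genL _ hx)
      (not_iff_not.1 ((h4 x hx).symm.trans (h3 x hx)))).symm.eq) (hQ.ge hx) _ rfl).imp
    (fun e => (inv_mul_eq_one.1 e).symm) inv_mul_eq_iff_eq_mul.1

/-- each new letter occurs in a conjugate of an earlier letter. -/
def chkSp (E : List (List ℕ × List ℕ)) (gs : List ℕ) : List (ℕ × List ℕ × ℕ × List ℕ × List ℕ) → List ℕ → Bool
  | [], _ => true
  | s :: r, xs => Ct.sub gs s.2.1 && Ct.sub xs (s.2.2.1 :: s.2.2.2.1) && Ct.sub xs s.2.2.2.2 &&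
      E.contains (s.2.2.1 :: s.2.1, s.2.1 ++ (s.2.2.2.1 ++ s.1 :: s.2.2.2.2)) && chkSp E gs r (s.1 :: xs)

theorem mem_of_chkSp (hE : Ct.Eqs y E) {gs : List ℕ} {T : Subgroup G} (hT : ∀ c ∈ genL y gs, ∀ t ∈ T, c * t * c⁻¹ ∈ T) :
    ∀ (st : List (ℕ × List ℕ × ℕ × List ℕ × List ℕ)) (xs : List ℕ), (∀ x ∈ xs, y x ∈ T) → chkSp E gs st xs = true →
      ∀ x ∈ st.map Prod.fst ++ xs, y x ∈ T
  | [], _, hx, _ => hx
  | s :: r, xs, hx, h => by
    simp only [chkSp, Bool.and_eq_true, Ct.sub, List.all_cons, List.contains_iff_mem (a := s.2.2.1)] at h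
    have h2 := hT _ (Ct.ev_mem_sub h.1.1.1.1) _ (hx _ h.1.1.1.2.1)
    rw [conj_of_eqs hE h.1.2, ev_append, ev_cons, T.mul_mem_cancel_right (genL_le hx (Ct.ev_mem_sub h.1.1.1.2.2)),
      T.mul_mem_cancel_left (genL_le hx (Ct.ev_mem_sub h.1.1.2))] at h2
    intro x hx'
    exact mem_of_chkSp hE hT r _ (List.forall_mem_cons.2 ⟨h2, hx⟩) h.2 x (by simpa [or_left_comm] using hx')

/-- an automorphism trivial on `C(z)/Q` centralises `Q` up to an inner automorphism. -/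
theorem inner_of_chk (h : LE Q (y zl)) (hE : Ct.Eqs y E) (hQ : genL y (zl :: qs) = Q) {β : MulAut G} (hβ : β (y zl) = y zl)
    (hC : ∀ c ∈ centralizer {y zl}, c⁻¹ * β c ∈ Q) {gs : List ℕ} (hg : genL y gs ≤ centralizer {y zl})
    {L : List (List ℕ × ℕ × List ℕ)} {n0 sl : ℕ} (h1 : ¬ (y sl = 1 ∨ y sl = y zl))
    {st : List (ℕ × List ℕ × ℕ × List ℕ × List ℕ)} (hc : (chkFix E zl qs L n0 && qs.contains sl &&
      L.all (fun e => Ct.sub gs e.1 && (E.contains (sl :: e.1, e.1 ++ [sl]) || E.contains (sl :: e.1, e.1 ++ [zl, sl]))) &&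
      chkSp E gs st [sl, zl] && Ct.sub (st.map Prod.fst ++ [sl, zl]) qs) = true) :
    ∃ s ∈ Q, ∀ q ∈ Q, (MulAut.conj s * β) q = q := by
  simp only [Bool.and_eq_true, List.all_eq_true, Bool.or_eq_true, List.contains_iff_mem (a := sl)] at hc
  have hz : ∀ q ∈ Q, q ∈ centralizer {y zl} := fun q hq => mem_centralizer_singleton_iff.2 (h.zc q hq)
  have hb : ∀ q ∈ Q, β q ∈ Q := fun q hq => by simpa using mul_mem hq (hC q (hz q hq))
  have hs : y sl ∈ Q := hQ ▸ mem_genL _ (List.mem_cons_of_mem _ hc.1.1.1.2)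
  have hf : ∀ e ∈ L, EqZ (y zl) (ev y e.1 * y sl * (ev y e.1)⁻¹) (y sl) := fun e he =>
    (hc.1.1.2 e he).2.imp (fun k => (conj_of_eqs hE k).trans (ev_one _ _)) fun k =>
      (conj_of_eqs hE k).trans (by rw [ev_cons, ev_one])
  have cz : ∀ c ∈ centralizer {y zl}, ∀ {a b}, EqZ (y zl) a b → EqZ (y zl) (c * a * c⁻¹) (c * b * c⁻¹) := fun c hc _ _ e =>
    EqZ.map (β := MulAut.conj c) (mul_inv_eq_iff_eq_mul.2 (mem_centralizer_singleton_iff.1 hc)) e
  let T : Subgroup G :=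
    { carrier := {q | q ∈ Q ∧ EqZ (y zl) (β q) q}
      one_mem' := ⟨one_mem _, .inl (map_one β)⟩
      mul_mem' := fun {a b} ha hb => ⟨mul_mem ha.1 hb.1, by
        rw [map_mul]
        rcases ha.2 with e | e <;> rcases hb.2 with e' | e' <;> rw [e, e']
        · exact .inl rfl
        · exact .inr (mul_assoc _ _ _).symm
        · exact .inr (by rw [mul_assoc, mul_assoc, (h.zc b hb.1).eq])
        · exact .inl (by rw [mul_assoc, ← (h.zc _ (mul_mem hb.1 h.zQ)).eq, mul_assoc, h.zz, mul_one])⟩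
      inv_mem' := fun {a} ha => ⟨inv_mem ha.1, ha.2.imp (fun e => by rw [map_inv, e]) fun e => by
        rw [map_inv, e, (h.zc a ha.1).eq, mul_inv_rev, inv_eq_of_mul_eq_one_right h.zz]⟩ }
  have h2 := mem_of_chkSp hE (T := T) (fun c hc t ht => ⟨h.conj_mem (mem_centralizer_singleton_iff.1 (hg hc)) ht.1, by
    have h3 := cz c (hg hc) (EqZ.trans' h.toES (h.comm _ (hC c (hg hc)) _ (hb t ht.1)) ht.2)
    simpa [mul_assoc] using h3⟩) st [sl, zl] (List.forall_mem_cons.2 ⟨⟨hs, fix_two h.toES hE hQ hc.1.1.1.1 (hb _ hs)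
      (fun e he => fix_map h.toES hβ (hb _ hs) (hg (Ct.ev_mem_sub (hc.1.1.2 e he).1)) (hf e he)
        (hC _ (hg (Ct.ev_mem_sub (hc.1.1.2 e he).1)))) hs hf
      (fun e => h1 (e.imp (fun e => by simpa using e) fun e => β.injective (e.trans hβ.symm))) h1⟩,
      List.forall_mem_singleton.2 ⟨h.zQ, .inl hβ⟩⟩) hc.1.2
  refine inner_of_triv h.toES hβ fun q hq => ((show genL y (zl :: qs) ≤ T from genL_le (List.forall_mem_cons.2
    ⟨⟨h.zQ, .inl hβ⟩, fun x hx => h2 x ?_⟩)) (hQ.ge hq)).2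
  simpa using List.all_eq_true.1 hc.2 x hx

theorem quot_pi {A U : Type} [Group A] {a : ℕ → A} [Group U] [IsSimpleGroup U] (N : Subgroup A) [N.Normal] {xs : List ℕ}
    (hN : genL a qs ≤ N) (top : genL a (qs ++ xs) = ⊤) (f : U →* A ⧸ N) (hf : ∀ x ∈ xs, (a x : A ⧸ N) ∈ f.range) (hne : N ≠ ⊤) :
    ∃ π : A →* U, Function.Surjective π ∧ (∀ c, π c = 1 ↔ c ∈ N) ∧ ∀ u (c : A), f u = c → π c = u := by
  have hs : Function.Surjective f := fun b => by
    obtain ⟨c, rfl⟩ := QuotientGroup.mk'_surjective N b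
    refine genL_le (H := f.range.comap (QuotientGroup.mk' N)) (fun x hx => ?_) (top.ge (Subgroup.mem_top c))
    rcases List.mem_append.1 hx with hx | hx
    · exact ⟨1, by rw [map_one, eq_comm]; exact (QuotientGroup.eq_one_iff _).2 (hN (mem_genL _ hx))⟩
    · exact hf x hx
  obtain ⟨c, hc⟩ : ∃ c, c ∉ N := by by_contra! h; exact hne (eq_top_iff.2 fun c _ => h c)
  obtain ⟨u, hu⟩ := hs c
  let e := MulEquiv.ofBijective f ⟨injective_of_simple f (x := u) fun e => hc ((QuotientGroup.eq_one_iff _).1 (hu ▸ e)), hs⟩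
  exact ⟨e.symm.toMonoidHom.comp (QuotientGroup.mk' _), e.symm.surjective.comp (QuotientGroup.mk'_surjective _),
    fun c => e.symm.map_eq_one_iff.trans (QuotientGroup.eq_one_iff _), fun u c h => e.symm_apply_eq.2 h.symm⟩

end bits

end Cfsg.Agent.Fus
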