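import Cfsg.Agent.Known.Out
import Cfsg.Agent.Spor.Cent

/-! Outer automorphisms through the centraliser `K` of an involution `z` with `C(c) = ⟨c⟩ × ⟨z⟩` (helper26):
`aut_fix_inv`, `exists_norm_aut2`, `outData'`, `dc_card`, `exists_restrict`. -/

set_option autoImplicit false

namespace Cfsg.Agent.Fus

open Cfsg.Agent.Comp Cfsg.Agent.Known Subgroup

section
variable {G : Type*} [Group G]

theorem mem_zpowers_of_pow {p i : ℕ} (hp : p.Prime) {c : G} (hc : orderOf c = p) (h : c ^ i ≠ 1) :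
    c ∈ zpowers (c ^ i) := by
  rw [mem_zpowers_pow_iff, hc]
  exact ((Nat.coprime_or_dvd_of_prime hp i).resolve_right fun e => h (orderOf_dvd_iff_pow_eq_one.1 (hc ▸ e))).symm

theorem exists_pow_lt [Finite G] {p : ℕ} {c : G} (hc : orderOf c = p) {g : G} (hg : g ∈ zpowers c) :
    ∃ i < p, g = c ^ i := by
  obtain ⟨i, rfl⟩ := (mem_powers_iff_mem_zpowers.2 hg : ∃ i, c ^ i = g)
  exact ⟨i % p, Nat.mod_lt _ (hc ▸ orderOf_pos c), pow_eq_pow_mod _ (hc ▸ pow_orderOf_eq_one c)⟩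

theorem aut_fix_inv [Finite G] {p n : ℕ} (hp : p.Prime) (hG : Nat.card G = n) (hn : ¬ p ^ (1 + 1) ∣ n) {c z : G}
    (hc : orderOf c = p) (z1 : z ≠ 1) (hz : z * z = 1) (hzc : z * c = c * z)
    (hC : ∀ g, g * c = c * g → g * g = 1 → g = 1 ∨ g = z) (α : MulAut G) : ∃ g : G, (MulAut.conj g * α) z = z := by
  obtain ⟨g, -, hg⟩ := exists_conj_mem_sylow (K := ⊤) (P := zpowers c) (k := 1) (j := 1) (x := α c) hp le_top
    (by rw [Nat.card_zpowers, hc, pow_one]) (card_top.trans hG) hn (mem_top _)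
    (by rw [pow_one, ← map_pow, ← hc, pow_orderOf_eq_one, map_one])
  obtain ⟨i, -, hi⟩ := exists_pow_lt hc hg
  have h1 : (MulAut.conj g * α) c = c ^ i := hi
  refine ⟨g, (hC _ ?_ (by rw [← map_mul, hz, map_one])).resolve_left fun e => z1 ((MulEquiv.map_eq_one_iff _).1 e)⟩
  have h2 : c ^ i ≠ 1 := fun e => hp.one_lt.ne' (by
    rw [← hc, (MulEquiv.map_eq_one_iff _).1 (h1.trans e), orderOf_one])
  exact (mem_centralizer_singleton_iff.1 ((zpowers_le (H := centralizer {(MulAut.conj g * α) z})).2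
    (mem_centralizer_singleton_iff.2 (by rw [← h1, ← map_mul, ← hzc, map_mul])) (mem_zpowers_of_pow hp hc h2))).symm

theorem exists_norm_aut2 [Finite G] {p n r : ℕ} (hp : p.Prime) (hG : Nat.card G = n) {R : List ℕ}
    (ha : arOk p n r R = true) {c t z : G} (hc : orderOf c = p) (ht : t * c = c ^ (r + 1) * t)
    (hz : ∀ g, g * z = z * g) (hz2 : z * z = 1)
    (hC : ∀ g, g * c = c * g → g ∈ zpowers c ∨ g * z ∈ zpowers c) (α : MulAut G) :
    ∃ g : G, ∃ i ∈ R, (MulAut.conj g * α) c = c ^ i ∧ (MulAut.conj g * α) (t * t) = t * t := by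
  simp only [arOk, band_eq, bor_eq, Bool.and_eq_true, Bool.or_eq_true, nblt, nbeq, allLt_iff, anyLt_iff,
    memL_iff] at ha
  obtain ⟨⟨hn, hr⟩, hR⟩ := ha
  have hcp : c ^ p = 1 := hc ▸ pow_orderOf_eq_one c
  have hc1 : c ≠ 1 := fun e => by rw [e, orderOf_one] at hc; exact hp.one_lt.ne hc
  obtain ⟨g, -, hg⟩ := exists_conj_mem_sylow (K := ⊤) (P := zpowers c) (k := 1) (j := 1) (x := α c) hp le_top
    (by rw [Nat.card_zpowers, hc, pow_one]) (card_top.trans hG) (fun h => by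
      rw [pow_succ, pow_one] at h
      exact hn.ne' (Nat.mod_eq_zero_of_dvd h)) (mem_top _) (by rw [pow_one, ← map_pow, hcp, map_one])
  obtain ⟨i, hi, hg⟩ := exists_pow_lt hc hg
  have hi0 : i ≠ 0 := by
    rintro rfl
    rw [pow_zero, mul_inv_eq_one, mul_eq_left, map_eq_one_iff _ α.injective] at hg
    exact hc1 hg
  obtain ⟨j, -, hj⟩ := (hR i hi).resolve_left hi0
  change i * (r + 1) ^ j % p ∈ R at hj
  have htj : ∀ j, t ^ j * c = c ^ (r + 1) ^ j * t ^ j := fun j => by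
    induction j with
    | zero => simp
    | succ j ih => rw [pow_succ', mul_assoc, ih, ← mul_assoc, conj_pow_of ht, mul_assoc, pow_succ' (r + 1)]
  set β := MulAut.conj (t ^ j * g) * α with hβ
  have h1 : β c = c ^ (i * (r + 1) ^ j % p) := by
    rw [← pow_eq_pow_mod _ hcp, hβ, MulAut.mul_apply, MulAut.conj_apply, mul_inv_rev, mul_comm i,
      mul_inv_eq_iff_eq_mul.2 (conj_pow_of (htj j) i) |>.symm, ← hg]
    group
  set i' := i * (r + 1) ^ j % p
  have h2 : c ∈ zpowers (c ^ i') := mem_zpowers_of_pow hp hc fun e => hc1 (by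
    rw [← map_eq_one_iff _ β.injective, h1, e])
  have h3 : β t * c ^ i' = c ^ ((r + 1) * i') * β t := by
    rw [← h1, ← map_mul, ht, map_mul, map_pow, h1, ← pow_mul, mul_comm i']
  have h4 : c ^ i' * (t⁻¹ * β t) = (t⁻¹ * β t) * c ^ i' := by
    rw [mul_assoc, h3, ← mul_assoc, ← mul_assoc, mul_left_inj, eq_comm, inv_mul_eq_iff_eq_mul, ← mul_assoc,
      conj_pow_of ht, mul_inv_cancel_right]
  have h5 : c ∈ centralizer {t⁻¹ * β t} := (zpowers_le.2 (mem_centralizer_singleton_iff.2 h4)) h2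
  obtain ⟨w, hw, hw2, hk⟩ : ∃ w, (∀ g, g * w = w * g) ∧ w * w = 1 ∧ t⁻¹ * β t * w ∈ zpowers c :=
    (hC _ (mem_centralizer_singleton_iff.1 h5).symm).elim (fun h => ⟨1, by simp, by simp, by simpa using h⟩)
      fun h => ⟨z, hz, hz2, h⟩
  obtain ⟨k, -, hk⟩ := exists_pow_lt hc hk
  obtain ⟨l, -, hl⟩ := hr ((r + 1) * k % p) (Nat.mod_lt _ hp.pos)
  change ((r + 1) * k % p + r * l) % p = 0 at hl
  have h6 : β t = t * c ^ k * w := by
    rw [mul_assoc, ← hk, mul_assoc _ w, hw2, mul_one, mul_inv_cancel_left]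
  have h7 : (c ^ l)⁻¹ * (t * c ^ k) * c ^ l = t := by
    rw [conj_pow_of ht, mul_assoc, mul_assoc, conj_pow_of ht, ← mul_assoc, ← mul_assoc, mul_eq_right,
      mul_assoc, ← pow_add, Nat.add_mul r 1 l, ← add_assoc, pow_add, pow_eq_pow_mod (_ + _) hcp,
      ← Nat.mod_add_mod, hl]
    simp
  have h8 : (MulAut.conj ((c ^ l)⁻¹ * (t ^ j * g)) * α) t = t * w := by
    rw [map_mul, mul_assoc, MulAut.mul_apply, ← hβ, h6, MulAut.conj_apply, inv_inv, ← mul_assoc, mul_assoc _ w,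
      ← hw, ← mul_assoc, h7]
  refine ⟨(c ^ l)⁻¹ * (t ^ j * g), i', hj, ?_, ?_⟩
  · rw [map_mul, mul_assoc, MulAut.mul_apply, h1, MulAut.conj_apply]; group
  · rw [map_mul _ t, h8, mul_assoc, ← mul_assoc w, ← hw, mul_assoc, hw2, mul_one]

theorem noninner_pow [Finite G] {p r : ℕ} (hp : p.Prime) (hr : ¬ p ∣ r) {c t : G} (hc : orderOf c = p)
    (ht : t * c = c ^ (r + 1) * t) {g : G} (h1 : g ∈ zpowers c) (h2 : g * t = t * g) : g = 1 := by
  obtain ⟨k, -, rfl⟩ := exists_pow_lt hc h1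
  rw [conj_pow_of ht, mul_left_inj, Nat.add_mul, one_mul, pow_add, eq_comm, mul_eq_right,
    ← orderOf_dvd_iff_pow_eq_one, hc] at h2
  exact orderOf_dvd_iff_pow_eq_one.1 (hc ▸ (hp.dvd_mul.1 h2).resolve_left hr)

theorem exists_restrict {K : Type*} [Group K] [Finite K] {ι : K →* G} (inj : Function.Injective ι) {β : MulAut G}
    (h : ∀ k, β (ι k) ∈ ι.range) : ∃ γ : MulAut K, ∀ k, ι (γ k) = β (ι k) := by
  choose f hf using h
  let φ : K →* K := MonoidHom.mk' f fun a b => inj (by simp only [hf, map_mul])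
  exact ⟨MulEquiv.ofBijective φ (Finite.injective_iff_bijective.1 fun a b e =>
    inj (β.injective (by rw [← hf, ← hf]; exact congrArg ι e))), hf⟩

end

theorem outData' {Γ : Type} [Group Γ] {φ : Γ →* Equiv.Perm ℕ} {N k n : ℕ} {y : ℕ → Γ} {act : ℕ → ℕ → ℕ}
    {B : List ℕ} (M : Mdl φ N k n y act B) {cw vw hw v0w : List ℕ} {lc lt p r s bt i₀ : ℕ} {R : List ℕ}
    {rels : List (List ℕ)} (hp : p.Prime) (h : relOk act N B cw vw hw lc lt p r s bt rels = true)
    (htop : closure {W y cw, y lt, W y vw} = ⊤)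
    (hN : ∀ α : MulAut Γ, ∃ g : Γ, ∃ i ∈ R, (MulAut.conj g * α) (W y cw) = W y cw ^ i ∧ (MulAut.conj g * α) (y lt) = y lt)
    (H : ∀ h, h * y lt = y lt ^ s * h → ∃ acc, h = WW y acc ∧ testO act B cw vw v0w lt i₀ bt R rels acc = true) :
    OutData (W y cw) (y lt) (W y vw) (W y v0w) i₀ := by
  haveI := M.finite
  obtain ⟨hb, h1, h2, h3, h4, h5⟩ := M.rel_spec hp h
  refine ⟨htop, fun α => ?_⟩
  obtain ⟨g, i, hi, e1, e2⟩ := hN α
  refine ⟨g, ?_⟩
  rintro β hβ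
  rw [← hβ] at e1 e2
  obtain ⟨acc, e3, ht⟩ := H (β (W y vw)) (by rw [← e2, ← map_mul, h4, map_mul, map_pow, e2])
  have h6 := allL_iff.1 ht i hi
  simp only [bor_eq, band_eq, Bool.or_eq_true, Bool.and_eq_true, nbeq, anyL_iff, bif'_eq] at h6
  rcases h6 with ⟨w, hw, h6⟩ | h6 | h6
  · have h7 := congrArg β.toMonoidHom (h5 w hw)
    rw [map_W, map_one, show (fun j => β.toMonoidHom (sel3 (W y cw ^ 1) (y lt) (WW y [vw]) j)) =
      sel3 (W y cw ^ i) (y lt) (WW y acc) from funext fun j => by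
        rcases j with _ | _ | j
        · exact (congrArg β (pow_one _)).trans e1
        · exact e2
        · exact (congrArg β (show WW y [vw] = W y vw by simp [WW])).trans e3] at h7
    rw [← M.apply3 _ _ _ _ _ hb, h7, map_one, if_pos (by rfl)] at h6
    exact absurd h6 Bool.false_ne_true
  · exact Or.inl (aut_ext htop (by rw [e1, h6.1, pow_one]; rfl) e2 (e3.trans (M.eq_of_eqW h6.2)))
  · exact Or.inr ⟨h6.1 ▸ e1, e2, e3.trans (M.eq_of_eqW h6.2)⟩

open Cfsg.Agent.Spor in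
theorem index_Fd {G K : Type} [Group G] [Group K] {ι : K →* G} {d : ℕ → G} {nd : ℕ} {sz : List ℕ}
    (o : Dce.Orbs ι (fun i => d i • basePt ι.range) nd sz) {i : ℕ} (hi : i < nd) :
    (Ct.Fd ι (d i)).index = getL sz 0 i := by
  let _ := MulAction.compHom (G ⧸ ι.range) ι
  exact (MulAction.index_stabilizer K (d i • basePt ι.range)).trans (o.size i hi)

open Cfsg.Agent.Spor in
theorem dc_card {G K : Type} [Group G] [Group K] {ι : K →* G} {d : ℕ → G} {nd : ℕ} {sz : List ℕ}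
    (o : Dce.Orbs ι (fun i => d i • basePt ι.range) nd sz) (H : Subgroup K) {g : G}
    (hg : ∀ u ∈ H, ι u * g = g * ι u) : ∃ i < nd, ∃ k v : K, g = ι k * d i * ι v ∧
      (∀ u ∈ H, k⁻¹ * u * k ∈ Ct.Fd ι (d i)) ∧ getL sz 0 i * Nat.card H ∣ Nat.card K := by
  obtain ⟨i, hi, k, hk⟩ := o.cover (g • basePt ι.range)
  have hk' : (ι k * d i)⁻¹ * g ∈ ι.range := by
    rw [← smul_basePt_eq_iff, mul_smul, ← hk, smul_smul, smul_smul, mul_assoc, inv_mul_cancel, one_smul]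
  obtain ⟨v, hv⟩ := hk'
  have e : g = ι k * d i * ι v := by rw [hv]; group
  have h1 : ∀ u ∈ H, k⁻¹ * u * k ∈ Ct.Fd ι (d i) := fun u hu => Ct.mem_Fd.2 ⟨v * u * v⁻¹, by
    have c := hg u hu
    rw [e] at c
    simp only [map_mul, map_inv]
    calc (ι k)⁻¹ * ι u * ι k * d i = (ι k)⁻¹ * (ι u * (ι k * d i * ι v)) * (ι v)⁻¹ := by group
      _ = _ := by rw [c]; group⟩
  refine ⟨i, hi, k, v, e, h1, ?_⟩
  rw [← (Ct.Fd ι (d i)).index_mul_card, index_Fd o hi,
    ← card_map_of_injective (K := H) (f := (MulAut.conj k⁻¹).toMonoidHom) (MulAut.conj k⁻¹).injective]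
  refine Nat.mul_dvd_mul_left _ (card_dvd_of_le ?_)
  rintro _ ⟨u, hu, rfl⟩
  simpa using h1 u hu

end Cfsg.Agent.Fus
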