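import Cfsg.Agent.Fus.Cert

/-! Simplicity of a group fusion system from a parabolic `M ≥ N(S)` generated by the conjugates of `S`:
`simple_of_par`, `simple_of_par_hom` (helper26). -/

set_option autoImplicit false

namespace Cfsg.Agent.Fus

open Subgroup Cfsg Cfsg.Agent.Loc Equiv
open Cfsg.FusionSystem (normalizerIn centralizerIn)
open scoped commutatorElement

variable {G : Type*} [Group G] [Finite G] {p : ℕ} [Fact p.Prime] {S Q M : Subgroup G}

theorem exists_inner_of_cent (hS : SylIn p S ⊤) (hQS : Q ≤ S) (hC : S ⊓ centralizer (Q : Set G) ≤ Q)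
    (hN : normalizer (S : Set G) ≤ normalizer (Q : Set G)) {h : G} (h1 : h ∈ normalizer (S : Set G))
    (h2 : h ∈ centralizer (Q : Set G)) : ∃ s ∈ S, s⁻¹ * h ∈ centralizer (S : Set G) := by
  set L := normalizer (S : Set G) ⊓ centralizer (Q : Set G)
  have hO : pResidualOf p L ≤ L := by rw [← OpA_eq_pResidualOf]; exact OpA_le p L
  suffices h3 : ⁅S, pResidualOf p L⁆ ≤ Q by
    have h4 : ⁅S, pResidualOf p L⁆ = ⊥ := by
      rw [← commutator_pResidualOf_eq hS.pg (hO.trans inf_le_left), eq_bot_iff]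
      refine (commutator_mono h3 (hO.trans inf_le_right)).trans ?_
      rw [le_bot_iff, commutator_eq_bot_iff_le_centralizer]
      exact le_centralizer_iff.1 le_rfl
    have h5 : SylIn p (S ⊓ centralizer (Q : Set G)) L :=
      (hS.mono le_normalizer le_top).inf_normal (le_normalizer_centralizer hN)
    obtain ⟨n, hn, t, ht, e⟩ := h5.exists_pResidualOf_mul (g := h⁻¹) (inv_mem ⟨h1, h2⟩)
    rw [commutator_comm, commutator_eq_bot_iff_le_centralizer] at h4
    refine ⟨t⁻¹, inv_mem ht.1, ?_⟩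
    have : t⁻¹⁻¹ * h = n⁻¹ := by rw [← inv_inv h, ← e]; group
    rw [this]; exact inv_mem (h4 hn)
  refine le_trans (commutator_le.2 fun s hs g hg => mem_inf.2 ⟨?_, ?_⟩) hC
  · rw [commutatorElement_def, mul_assoc, mul_assoc, ← mul_assoc g]
    exact S.mul_mem hs (conj_mem_of_mem_normalizer (hO hg).1 (inv_mem hs))
  · have := le_normalizer_centralizer (le_normalizer.trans hN) hs
    rw [commutatorElement_def]
    exact mul_mem (conj_mem_of_mem_normalizer this (hO hg).2) (inv_mem (hO hg).2)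

theorem simple_of_par (hS : SylIn p S ⊤) (h0 : S ≠ ⊥)
    (ha : ∀ T, (groupFusionSystem S).StronglyClosed T → T = ⊥ ∨ T = S) (hQS : Q ≤ S)
    (hC : S ⊓ centralizer (Q : Set G) ≤ Q) (hM : M ≤ normalizer (Q : Set G)) (hN : normalizer (S : Set G) ≤ M)
    (hgen : ∀ K, S ≤ K → K ≤ M → (∀ m ∈ M, ∀ k ∈ K, m * k * m⁻¹ ∈ K) → M ≤ K) (P : Sylow p G) :
    (groupFusionSystem (P : Subgroup G)).IsSimple p := by
  have hF := grpFS_group S
  refine simple_sylow hS ((hF.sat hS).simple_of_sc h0 ha fun E hE a ha => ?_) P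
  have hSM : S ≤ M := le_normalizer.trans hN
  have hm : ∀ g ∈ M, Maps (cp g) Q Q := fun g hg => maps_cp (hM hg)
  have hF' : ∀ g ∈ M, Mor (groupFusionSystem S) Q (cp g) := fun g hg =>
    hF.mor_cp hQS (mem_top g) (by rw [← img_cp, (hm g hg).img_eq]; exact hQS)
  let K : Subgroup G :=
    { carrier := {g | g ∈ M ∧ Mor E Q (cp g)}
      one_mem' := ⟨one_mem _, mor_cp E hQS (one_mem _)⟩
      mul_mem' := fun {a b} ha hb => ⟨mul_mem ha.1 hb.1, by
        rw [map_mul]; exact ha.2.mul hb.2 fun x hx => (hm b hb.1).mem hx⟩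
      inv_mem' := fun {a} ha => ⟨inv_mem ha.1, by rw [map_inv]; exact ha.2.inv (hm a ha.1)⟩ }
  have hK : M ≤ K := hgen K (fun s hs => ⟨hSM hs, mor_cp E hQS hs⟩) (fun g hg => hg.1) fun m h1 k hk =>
    ⟨mul_mem (mul_mem h1 hk.1) (inv_mem h1), by
      rw [map_mul, map_mul, map_inv]
      exact hE.inv.sconj (hF' m h1) hQS hk.2 le_rfl (fun x hx => (hm k hk.1).mem hx) (hm m h1)⟩
  rw [hF.AutF_eq le_rfl] at ha
  obtain ⟨g, -, hg, rfl⟩ := mem_AutK.1 ha
  have hgS : Mor (groupFusionSystem S) S (cp g) :=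
    hF.mor_cp le_rfl (mem_top g) (by rw [← img_cp, (maps_cp hg).img_eq])
  obtain ⟨b, hb, e⟩ := rec_ext (hE.satE.rec_of_fn (fn_of_normal E hQS (hSM.trans hM)))
    ⟨(hK (hN hg)).2, hm g (hN hg)⟩ (R := S) fun s hs => hgS.mem_Ext hQS hs (hM (hSM hs))
  rw [sup_eq_left.2 hQS] at hb
  obtain ⟨k, hk, hk', e'⟩ := mem_AutK.1 (hF.AutF_eq le_rfl ▸ (hb.sub hE.sub).iso_S.res_mem)
  obtain ⟨s, hs, h1⟩ := exists_inner_of_cent hS hQS hC (hN.trans hM) (mul_mem (inv_mem hk') hg)
    (inv_mul_mem_centralizer fun x hx => by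
      rw [← cr_apply hk' (hQS hx), e', res_apply hb.iso_S.maps (hQS hx), e x hx]; rfl)
  have h2 : cr S g = cr S (k * s) := (cr_eq_cr_iff hg (mul_mem hk' (le_normalizer hs))).2 (by
    rwa [mul_inv_rev, mul_assoc])
  rw [h2, homOn_cr S k hk' s (le_normalizer hs), e']
  exact mul_mem hb.iso_S.res_mem (cr_mem_AutF E le_rfl (le_NS le_rfl hs))

theorem simple_of_par_hom (hS : SylIn p S ⊤) (ha : ∀ T, (groupFusionSystem S).StronglyClosed T → T = ⊥ ∨ T = S)
    {H : Type*} [Group H] [IsSimpleGroup H] (π : M →* H) (hπ : Function.Surjective π) (hk : IsPGroup p π.ker)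
    (hp : p ∣ Nat.card H) (hC : centralizer (π.ker : Set M) ≤ π.ker) (hN : normalizer (S : Set G) ≤ M)
    (P : Sylow p G) : (groupFusionSystem (P : Subgroup G)).IsSimple p := by
  have hSM : S ≤ M := le_normalizer.trans hN
  have hS' : SylIn p (S.subgroupOf M) ⊤ := (hS.mono hSM le_top).subgroupOf_top
  have h1 : π.ker ≤ S.subgroupOf M := hS'.le_of_le_normalizer le_top hk (by rw [normalizer_eq_top]; exact le_top)
  have h2 : (S.subgroupOf M).map π ≠ ⊥ := fun e => by
    have := Finite.of_surjective _ hπ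
    have h3 := (hS'.map π).not_dvd_relIndex
    rw [e, map_top_of_surjective _ hπ, relIndex_top_right, index_bot] at h3
    exact h3 hp
  refine simple_of_par (Q := π.ker.map M.subtype) hS (fun e => h2 (by rw [e, bot_subgroupOf, Subgroup.map_bot])) ha
    (map_le_iff_le_comap.2 h1) ?_ ?_ hN (fun K k1 k2 k3 => ?_) P
  · rintro x ⟨hx, hx'⟩
    exact ⟨⟨x, hSM hx⟩, hC fun y hy => Subtype.ext (hx' y ⟨y, hy, rfl⟩), rfl⟩
  · intro m hm
    refine mem_normalizer_fintype ?_
    rintro _ ⟨y, hy, rfl⟩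
    exact ⟨_, π.normal_ker.conj_mem y hy ⟨m, hm⟩, rfl⟩
  · have hn : (K.subgroupOf M).Normal := ⟨fun k hk m => k3 m m.2 k hk⟩
    rcases (hn.map π hπ).eq_bot_or_eq_top with e | e
    · exact absurd (eq_bot_iff.2 (e ▸ map_mono (subgroupOf_mono M k1))) h2
    · intro m hm
      obtain ⟨k, hk, e'⟩ : π ⟨m, hm⟩ ∈ (K.subgroupOf M).map π := e ▸ mem_top _
      have : k⁻¹ * ⟨m, hm⟩ ∈ π.ker := by rw [MonoidHom.mem_ker, map_mul, map_inv, e', inv_mul_cancel]
      exact (mul_mem_cancel_left (K.inv_mem hk)).1 (k1 (h1 this))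

omit [Finite G] in
theorem cent_ker_le {M H : Type*} [Group M] [Finite M] [Group H] [IsSimpleGroup H] (π : M →* H)
    (hπ : Function.Surjective π) (hk : IsPGroup p π.ker) (hna : ¬ IsMulCommutative π.ker)
    (hgen : closure {g : M | (orderOf g).Coprime p} = ⊤) : centralizer (π.ker : Set M) ≤ π.ker := by
  set C := centralizer (π.ker : Set M)
  rcases (Normal.map (inferInstance : C.Normal) π hπ).eq_bot_or_eq_top with e | e
  · rwa [Subgroup.map_eq_bot_iff] at e
  have h1 : IsPGroup p (M ⧸ C) := hk.of_surjective ((QuotientGroup.mk' C).comp π.ker.subtype) fun x => by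
    obtain ⟨x, rfl⟩ := QuotientGroup.mk_surjective x
    obtain ⟨c, hc, e'⟩ : π x ∈ C.map π := e ▸ mem_top _
    refine ⟨⟨x * c⁻¹, by rw [MonoidHom.mem_ker, map_mul, map_inv, e', mul_inv_cancel]⟩, ?_⟩
    exact QuotientGroup.eq.2 (by simpa using hc)
  have h2 : C = ⊤ := eq_top_iff.2 (hgen ▸ (closure_le _).2 fun g hg => by
    obtain ⟨k, hk⟩ := IsPGroup.iff_orderOf.1 h1 (g : M ⧸ C)
    have h3 := orderOf_map_dvd (QuotientGroup.mk' C) g
    rw [QuotientGroup.mk'_apply, hk] at h3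
    rw [Nat.Coprime.eq_one_of_dvd (Nat.Coprime.pow_left k (Nat.Coprime.symm hg)) h3, orderOf_eq_one_iff] at hk
    exact (QuotientGroup.eq_one_iff g).1 hk)
  exact absurd ⟨⟨fun a b => Subtype.ext ((h2.ge (mem_top (b : M))) a a.2)⟩⟩ hna

theorem simple_congr {H : Type*} [Group H] [Finite H] (e : H ≃* G)
    (h : ∀ P : Sylow p H, (groupFusionSystem (P : Subgroup H)).IsSimple p) (P : Sylow p G) :
    (groupFusionSystem (P : Subgroup G)).IsSimple p := by
  obtain ⟨R⟩ : Nonempty (Sylow p H) := inferInstance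
  have h1 : (⊤ : Subgroup H).map e.toMonoidHom = ⊤ := map_top_of_surjective _ e.surjective
  have h2 : FIso (groupFusionSystem (R : Subgroup H)) e.toMonoidHom
      (groupFusionSystem ((R : Subgroup H).map e.toMonoidHom)) :=
    ⟨(grpFS_group _).epi (grpFS_group _) (sylIn_top R) (homOn_hom _ ⊤) (by rw [img_hom, h1]) (img_hom _ _),
      fun x _ hx => e.injective (hx.trans (map_one e).symm)⟩
  exact simple_sylow (h1 ▸ (sylIn_top R).map e.toMonoidHom) (h2.simple R.isPGroup' (h R)) P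

open Cfsg.Agent.Comp

theorem PC.norm_le {R : ℕ → G → Prop} {mul : ℕ → ℕ → ℕ} {inv : ℕ → ℕ} {one : ℕ} {c : ℕ → ℕ} {n : ℕ}
    (h : PC R mul inv one c n) (hn : 0 < n) (hz : chkZ mul c n = true) {z : G} (hz' : R (c 1) z) :
    normalizer (UU R c n : Set G) ≤ centralizer {z} := fun g hg => by
  obtain ⟨hz1, hz2⟩ := h.center hz hz'
  rw [mem_centralizer_singleton_iff, ← mul_inv_eq_iff_eq_mul]
  rcases hz2 _ (conj_mem_of_mem_normalizer hg (mem_UU_gen hn hz'))
    (conj_mem_of_mem_normalizer (normalizer_le_normalizer_centralizer _ hg) hz1) with e | e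
  · rw [e]; exact ((by simpa using e : z = 1)).symm
  · exact e

/-- the checks for a Sylow 2-subgroup with centre of order two and no proper strongly closed subgroup. -/
def chkPar (N w m n : ℕ) (ys : List ℕ) (steps : List (ℕ × List ℕ)) (ws : List (List ℕ)) (z : ℕ) : Bool :=
  force (mkTab (mulP N w m) (oneP N w) (Nat.mul w N) ys n) fun t =>
    force (Nat.pred (Nat.pow 2 (Nat.mul w N))) fun M =>
    band (allLt n fun l => memL (get (Nat.mul w N) M t (Nat.pow 2 l)) ys)
    (band (chkPC (mulP N w m) (invP N w m) (oneP N w) (get (Nat.mul w N) M t) n)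
    (band (chkZ (mulP N w m) (get (Nat.mul w N) M t) n)
    (band (chkSC (mulP N w m) (invP N w m) (oneP N w) (get (Nat.mul w N) M t) n steps ws)
    (Nat.beq (get (Nat.mul w N) M t 1) z))))

theorem perm_par {α : Type*} {N : ℕ} {E : Enc α N} {w m : ℕ} [MulAction G α] [FaithfulSMul G α] (hp : Par N w m)
    {n zc : ℕ} {ys : List ℕ} {steps : List (ℕ × List ℕ)} {ws : List (List ℕ)} (hn : 0 < n)
    (hc : (Nat.card G).factorization 2 = n)
    (hL : CodesIn (PRep E w m) (appendL ys (mapL Prod.fst steps)) (⊤ : Subgroup G))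
    (hb : allL (appendL ys (mapL Prod.fst steps)) (fun c => Nat.blt c (Nat.pow 2 (Nat.mul w N))) = true)
    (h : chkPar N w m n ys steps ws zc = true) {z : G} (hz : CRep E w m zc z) : ∃ S : Subgroup G, SylIn 2 S ⊤ ∧
      (∀ T, (groupFusionSystem S).StronglyClosed T → T = ⊥ ∨ T = S) ∧ normalizer (S : Set G) ≤ centralizer {z} := by
  have h1 := hL.toCRep hb
  simp only [chkPar, force_eq, band_eq, Bool.and_eq_true, allLt_iff, memL_iff, nbeq] at h
  obtain ⟨h2, h3, h4, h5, h6⟩ := h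
  have h8 : ∀ c ∈ appendL ys (mapL Prod.fst steps), ∃ g : G, CRep E w m c g := fun c hc =>
    let ⟨g, _, e⟩ := h1 c hc; ⟨g, e⟩
  rw [appendL_eq, mapL_eq] at h8
  have k := pc_of_chk (isGrp_CRep E hp) (isCanon_CRep E hp) (fun l hl => h8 _ (List.mem_append_left _ (h2 l hl))) h3
  exact ⟨_, k.syl hc, fun T => k.sc hn h4 (fun st hs => h8 _ (List.mem_append_right _ (List.mem_map_of_mem hs))) h5,
    k.norm_le hn h4 (h6 ▸ hz)⟩

end Cfsg.Agent.Fus
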