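import Cfsg.Agent.Fus.Tg

/-! The product of a normal subsystem with a `p`-group. -/

set_option autoImplicit false

namespace Cfsg.Agent.Fus

open Subgroup Cfsg Cfsg.Agent.Loc Equiv
open Cfsg.FusionSystem (normalizerIn centralizerIn)
open scoped commutatorElement

variable {Ω : Type*} [Group Ω] {S T U P Q R N V W X Y : Subgroup Ω} {p n : ℕ} {F : FusionSystem S} {E : FusionSystem T}
  {a b f g k l : Perm Ω}

theorem HomOn.quot_mem_centralizer (hg : HomOn g R) (hQ : Q ≤ R) {x y : Ω} (hx : x ∈ R) (hm : Maps g Q P)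
    (e : ∀ z ∈ Q, g (x * z * x⁻¹) = y * g z * y⁻¹) : y⁻¹ * g x ∈ centralizer (P : Set Ω) :=
  inv_mul_mem_centralizer fun z hz => by
    obtain ⟨z, hz', rfl⟩ := hm.exists_eq hz
    rw [← e z hz', hg.map_conj hx (hQ hz')]

variable [Finite S] [Fact p.Prime]

theorem exists_mem_normalizer_not_mem (hS : IsPGroup p S) (hW : W ≤ S) (hX : X ≤ S) (hn : W ≤ normalizer (X : Set Ω)) (h : ¬ X ≤ W) :
    ∃ t ∈ X, t ∉ W ∧ t ∈ normalizer (W : Set Ω) := by
  have t1 : W < X ⊔ W := lt_of_le_of_ne le_sup_right fun e => h (le_sup_left.trans e.ge)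
  haveI : Finite (X ⊔ W : Subgroup Ω) := finite_of_le (sup_le hX hW)
  obtain ⟨z, hz, hz'⟩ := SetLike.exists_of_lt (lt_inf_normalizer (hS.to_le (sup_le hX hW)) t1)
  obtain ⟨x, hx, y, hy, rfl⟩ := (mem_sup_of_le_normalizer_left hn).1 hz.1
  exact ⟨x, hx, fun k => hz' (mul_mem k hy), by simpa using (normalizer (W : Set Ω)).mul_mem hz.2 (inv_mem (le_normalizer hy))⟩

theorem WN.star (h : WN E F p) (hV : V ≤ S) (hc : ¬ E.IsCentric (V ⊓ T)) :
    ∃ f W, Iso F f V W ∧ ∃ t ∈ T, t ∉ W ∧ t ∈ normalizer (W : Set Ω) ∧ cr W t ∈ pCoreOf p (AutF F W) := by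
  haveI := h.finite
  have hT := h.sc
  obtain ⟨k, Q, h1, h2, h3⟩ := h.satF.exists_NS_mor (inf_le_left.trans hV : V ⊓ T ≤ S)
  have h4 := (h2.mono fun x (hx : x ∈ V) => ⟨hV hx, mem_normalizer_inf (le_normalizer hx) (sc_le_normalizer hT (hV hx))⟩).iso
  obtain rfl := h3.unique (sc_maps_inf hT h4)
  have hn := h4.le'.trans (sc_le_normalizer hT)
  obtain ⟨t, ht, k1, k2⟩ := exists_mem_normalizer_not_mem h.satF.pg h4.le' ((Fus.CS_le T (img k V ⊓ T)).trans h.le)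
    (fun x hx => mem_normalizer_inf (hn hx) (normalizer_le_normalizer_centralizer _ (mem_normalizer_inf (le_normalizer hx) (hn hx))))
    fun e => hc (h.inv.centric_iso (h.satE.centric_of_fc (h.satF.fc_sub hT h.sub inf_le_right (h.satF.fc_of_fn h1))
      (le_inf e (Fus.CS_le _ _))) (Iso.symm ⟨h4.mor.mono inf_le_left, h3⟩))
  exact ⟨k, _, h4, t, ht.1, k1, k2, AutK_CS_inf_le_pCore h.satF.pg hT h4.le' (cr_mem_AutK ht k2)⟩

theorem Inv.step (h : Inv E F) (hE : Sat E p) (hc : E.IsCentric P) (hPN : P ≤ N) (hN : N ≤ normalizerIn T P) (ha : Mor F N a)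
    (hf : Mor E P a) : ∃ b : Perm Ω, Mor E N b ∧ Iso F (b⁻¹ * a) N N ∧ ∃ k, res N (b⁻¹ * a) ^ p ^ k = 1 := by
  haveI := h.finite
  have hNT := hN.trans (NS_le T P)
  haveI := finite_of_le hNT
  obtain ⟨b, hb, e⟩ := rec_ext (hE.rec_of_centric (Fus.centric_iso hc hf.iso)) hf.iso (R := N) fun x hx =>
    mem_Ext.2 ⟨hN hx, a x, sc_mem h.sc ha hx (hNT hx), fun y hy => ha.homOn.map_conj hx (hPN hy)⟩
  replace hb := hb.mono le_sup_left
  have key : ∀ x ∈ N, ∃ z ∈ P, a x = b (x * z) := fun x hx => by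
    have h1 : (b x)⁻¹ * a x ∈ centralizerIn T (img a P) := ⟨T.mul_mem (T.inv_mem (hb.mem_S hx)) (sc_mem h.sc ha hx (hNT hx)),
      ha.homOn.quot_mem_centralizer hPN hx hf.maps_img fun y hy => by
        rw [← e _ (conj_mem_of_mem_normalizer (hN hx).2 hy), hb.homOn.map_conj hx (hPN hy), e y hy]⟩
    obtain ⟨z, hz, e'⟩ := hf.homOn.mem_img.1 (centric_CS_le (Fus.centric_iso hc hf.iso) h1)
    exact ⟨z, hz, by rw [hb.homOn x hx z (hPN hz), e z hz, e']; simp⟩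
  have hγ : Iso F (b⁻¹ * a) N N := by
    have h1 : ∀ x ∈ N, a x ∈ img b N := fun x hx => by
      obtain ⟨z, hz, e'⟩ := key x hx
      exact e' ▸ mem_img_of_mem _ (mul_mem hx (hPN hz))
    have h2 := (hb.iso.symm.mor.sub h.sub).mul ha h1
    exact ⟨h2, h2.homOn.maps_self fun x hx => hb.iso.symm.mem (h1 x hx)⟩
  haveI := finite_of_le hc.1
  refine ⟨b, hb, hγ, pow_eq_one_of_stab (hE.pg.to_le hc.1) (supp_res _ _) (homOn_of_AutF hγ.res_mem) hPN (fun x hx => ?_) fun x hx => ?_⟩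
  · rw [res_apply hγ.maps (hPN hx), Perm.mul_apply, ← e x hx]; simp
  · obtain ⟨z, hz, e'⟩ := key x hx
    rw [res_apply hγ.maps hx, Perm.mul_apply, e']; simpa using hz

/-- A `p'`-automorphism lying in `E` on a centric subgroup lies in `E`. -/
theorem WN.mor_of_pprime (h : WN E F p) (hX : X ≤ T) (hg : Iso F g X X) (hp : (orderOf g).Coprime p) :
    ∀ Q, Q ≤ X → E.IsCentric Q → Maps g Q Q → Mor E Q g → Mor E X g := by
  haveI := h.finite
  haveI := finite_of_le hX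
  refine down_induction fun Q hQ ih hc hm hf => ?_
  rcases hQ.eq_or_lt with rfl | hlt
  · exact hf
  have h1 := lt_NS (h.satE.pg.to_le hX) hlt
  set N := normalizerIn X Q
  have hNT : N ≤ T := (NS_le X Q).trans hX
  have hgN : Maps g N N := (hg.homOn.mono (NS_le X Q)).maps_self fun x hx => ⟨hg.mem hx.1, hg.homOn.mem_normalizer hQ hm hx.1 hx.2⟩
  obtain ⟨b, k1, k2, j, k3⟩ := h.inv.step h.satE hc h1.le (inf_le_inf_right _ hX) (hg.mor.mono (NS_le X Q)) hf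
  have hbN : Maps b N N := by simpa [mul_assoc] using k2.maps.symm.trans hgN
  have k4 := h.inv.AutF_normal hNT k2.res_mem
  have k5 := mul_pow_mem k4 (conj_inv_mem_of_mem_normalizer k4 (Iso.res_mem ⟨k1, hbN⟩)) (p ^ j)
  rw [k3, inv_one, mul_one, ← mul_assoc, ← mul_assoc, mul_inv_cancel, one_mul, ← res_mul hbN k2.maps, mul_inv_cancel_left] at k5
  have k6 := mem_of_pow_mem (coprime_res hgN hp) (by simp) k5
  exact ih N (NS_le X Q) (card_lt_card h1) (centric_mono hc h1.le hNT) hgN ((iso_of_AutF hNT k6).mor.congr fun x hx =>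
    (res_apply hgN hx).symm)

theorem WN.inf_AutK (h : WN E F p) (hQ : F.IsFullyNormalized Q) (hQT : Q ≤ T) : AutK S Q ⊓ AutF E Q ≤ AutK T Q :=
  haveI := h.finite
  ((h.satE.syl (h.satF.fn_sub h.sc h.sub hQT hQ)).max _ inf_le_right ((isPGroup_AutK h.satF.pg Q).to_le inf_le_left)
    (le_inf (AutK_mono h.le Q) (AutK_le_AutF E le_rfl hQT))).le

theorem WN.cond_of_Ext (h : WN E F p) (hQ : F.IsFullyNormalized Q) (hb : Mor E Q b) (hm : Maps b Q Q) (hR : R ≤ S)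
    (hC : centralizerIn S Q ≤ R) (hx : R ≤ Ext R Q b) : ∀ x ∈ R, ∃ t ∈ R ⊓ T, ∀ y ∈ Q, b (x * y * x⁻¹) = t * x * b y * (t * x)⁻¹ := by
  intro x hx'
  obtain ⟨h1, h2⟩ := (mem_Ext_iff hm).1 (hx hx')
  obtain ⟨y, hy, hyn, e⟩ := mem_AutK.1 h2
  have ha := Iso.res_mem ⟨hb, hm⟩
  have h3 := cr_mem_AutF F hQ.1 ⟨hR hx', h1.2⟩
  have h4 : cr Q y * (cr Q x)⁻¹ ∈ AutF E Q := by
    rw [e, ← (supp_cr Q x).conj_congr hm fun z hz => res_apply hm hz]
    simpa [mul_assoc] using mul_mem ha (conj_mem_of_mem_normalizer (h.inv.AutF_normal hb.le h3) (inv_mem ha))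
  obtain ⟨t, ht, htn, e'⟩ := mem_AutK.1 (h.inf_AutK hQ hb.le ⟨(AutK S Q).mul_mem (cr_mem_AutK (hR hy) hyn)
    (inv_mem (cr_mem_AutK (hR hx') h1.2)), h4⟩)
  have e₁ : cr Q (t * x) = cr Q y := by rw [homOn_cr Q t htn x h1.2, e']; simp
  refine ⟨t, ⟨by simpa using R.mul_mem (R.mul_mem hy (hC ⟨S.mul_mem (S.inv_mem (hR hy)) (S.mul_mem (h.le ht) (hR hx')),
    (cr_eq_cr_iff (mul_mem htn h1.2) hyn).1 e₁⟩)) (R.inv_mem hx'), ht⟩, fun z hz => ?_⟩
  rw [← cr_apply (mul_mem htn h1.2) (hm.mem hz), e₁, e, ← cr_apply h1.2 hz]; simp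

omit [Finite S] in
theorem exists_conj_fix [Finite V] (hs : SylIn p (AutK S V) (AutF F V)) (hb : b ∈ AutF F V) (ha : a ∈ AutF F V)
    (hpb : (orderOf b).Coprime p) (hpa : (orderOf a).Coprime p) (hQ : Q ≤ V) (hm : Maps b Q Q) (h1 : b⁻¹ * a ∈ pCoreOf p (AutF F V))
    (h2 : ∀ x ∈ Q, a x = b x) : ∃ e ∈ centralizerIn S Q, e ∈ normalizer (V : Set Ω) ∧ a = cr V e * b * (cr V e)⁻¹ := by
  haveI := finite_AutF F V
  haveI : Finite (pCoreOf p (AutF F V) ⊓ KP Q Q ⊥ : Subgroup _) := finite_of_le (inf_le_left.trans (pCoreOf_le p _))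
  have h3 : Maps (b⁻¹ * a) Q Q := (hm.congr h2).trans hm.symm
  obtain ⟨d, hd, e⟩ := exists_conj_of_coprime' (D := pCoreOf p (AutF F V) ⊓ KP Q Q ⊥) ((isPGroup_pCoreOf p _).to_le inf_le_left) hpb hpa
    (mem_normalizer_of_cj_le (by
      rw [cj_inf]
      exact inf_le_inf (cj_eq_of_mem_normalizer (le_normalizer_pCoreOf p _ hb)).le (by simpa using cj_KP_le (K := ⊥) hm hm)))
    ⟨h1, mem_KP.2 ⟨h3, h3, (res_eq_one_iff h3).2 fun x hx => by simp [h2 x hx]⟩⟩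
  obtain ⟨s, k1, k2, rfl⟩ := mem_AutK.1 (hs.pCoreOf_le hd.1)
  obtain ⟨-, k3, k4⟩ := mem_KP.1 hd.2
  exact ⟨s, ⟨k1, mem_centralizer_iff_cp.2 fun x hx => (cr_apply k2 (hQ hx)).symm.trans ((res_eq_one_iff k3).1 k4 x hx)⟩, k2, e⟩

omit [Finite S] [Fact p.Prime] in
theorem conj_back_ext (hR : R ≤ S) (hT : F.StronglyClosed T) (hg : g ∈ AutF F R) (hp : (orderOf g).Coprime p) (hu : CU T R g)
    (hV : V ≤ R) (hm : Maps g V V) {e : Ω} (he : e ∈ R) (hen : e ∈ normalizer (V : Set Ω)) (h : res V g = cr V e * b * (cr V e)⁻¹) :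
    ∃ g ∈ AutF F R, (orderOf g).Coprime p ∧ (∀ x ∈ V, g x = b x) ∧ CU T R g := by
  have hi := (iso_of_AutF hR (cr_mem_AutF F hR ⟨hR he, le_normalizer he⟩)).symm
  refine ⟨_, hi.conj_mem hg, coprime_conj hp _, fun x hx => ?_, hu.conj hT (fun _ => (maps_of_AutF hg).mem) hi⟩
  have h1 := conj_mem_of_mem_normalizer hen hx
  have h2 := congrArg (fun c : Perm Ω => c (cr V e x)) h
  simp only [Perm.mul_apply, perm_inv_apply] at h2
  rw [inv_inv, Perm.mul_apply, Perm.mul_apply, Perm.inv_eq_iff_eq, cr_apply (le_normalizer he) (hV hx), ← res_apply hm h1,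
    ← cr_apply hen hx, h2]
  have h3 : b x ∈ V := (maps_res V (cp e) (b x)).1 (show cr V e (b x) ∈ V from h2 ▸ (maps_res V g).mem ((maps_res V (cp e)).mem hx))
  rw [cr_apply hen h3, cr_apply (le_normalizer he) (hV h3)]

theorem NI.px (h : NI E F p) (hV : F.IsFullyNormalized V) (hc : E.IsCentric (V ⊓ T)) (hb : b ∈ BE E F V) (hp : (orderOf b).Coprime p)
    (h1 : V ≤ R) (h2 : centralizerIn S (V ⊓ T) ≤ R) (h3 : R ≤ normalizerIn S (V ⊓ T))
    (h4 : ∀ x ∈ R, ∃ t ∈ R ⊓ T, ∀ y ∈ V ⊓ T, b (x * y * x⁻¹) = t * x * b y * (t * x)⁻¹) :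
    ∃ g ∈ AutF F R, (orderOf g).Coprime p ∧ (∀ x ∈ V, g x = b x) ∧ CU T R g := by
  have hT := h.sc
  have hi := iso_of_AutF hV.1 hb.1
  have hm := sc_maps_inf hT hi
  haveI := finite_of_le hV.1
  have hRS := h3.trans (NS_le _ _)
  obtain ⟨g, k1, k2, k3, k4⟩ := h.ext_pprime hc (Iso.res_mem ⟨hb.2.1, hm⟩) (coprime_res hm hp) (inf_le_left.trans h1) h3 fun x hx => by
    obtain ⟨t, ht, e⟩ := h4 x hx
    exact ⟨t, ht, fun y hy => by rw [res_apply hm hy, res_apply hm (conj_mem_of_mem_normalizer (h3 hx).2 hy), e y hy]⟩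
  replace k3 : ∀ x ∈ V ⊓ T, g x = b x := fun x hx => (k3 x hx).trans (res_apply hm hx)
  have hgi := iso_of_AutF hRS k1
  have key : ∀ x ∈ V, (b x)⁻¹ * g x ∈ V ⊓ T := fun x hx => centric_CS_le hc ⟨by
      simpa [mul_assoc] using T.mul_mem (T.inv_mem (hb.2.2 x hx)) (k4 x (h1 hx)),
    hgi.homOn.quot_mem_centralizer (inf_le_left.trans h1) (h1 hx) (hm.congr k3) fun y hy => by
      rw [k3 _ (conj_mem_of_mem_normalizer (h3 (h1 hx)).2 hy), k3 y hy, hi.homOn.map_conj hx hy.1]⟩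
  have hgV : Maps g V V := (hgi.homOn.mono h1).maps_self fun x hx => by simpa using V.mul_mem (hi.mem hx) (key x hx).1
  have hc' := Iso.res_mem ⟨hgi.mor.mono h1, hgV⟩
  obtain ⟨e, he, hen, e'⟩ := exists_conj_fix (h.satF.syl hV) hb.1 hc' hp (coprime_res hgV k2) inf_le_left hm
    (mem_pCore_of_stab h.satF.pg hT hV.1 (mul_mem (inv_mem hb.1) hc') (fun x hx => by simp [res_apply hgV hx.1, k3 x hx])
      ((hb.2.2.inv hi.maps).mul ((k4.mono h1).congr fun x hx => res_apply hgV hx) fun _ => (maps_res V g).mem))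
    fun x hx => (res_apply hgV hx.1).trans (k3 x hx)
  exact conj_back_ext hRS hT k1 k2 k4 h1 hgV (h2 he) hen e'

omit [Finite S] [Fact p.Prime] in
theorem l1_of_ext (hg : HomOn g R) (hu : CU T R g) (hV : V ≤ R) (hm : Maps b V V) (e : ∀ x ∈ V, g x = b x) {x : Ω} (hx : x ∈ R)
    (hn : x ∈ normalizer (V : Set Ω)) : (cr V x)⁻¹ * (b * cr V x * b⁻¹) ∈ AutK T V := by
  have h1 := hg.mem_normalizer hV (hm.congr e) hx hn
  rw [← (supp_cr V x).conj_congr hm e, hg.conj_cr hV (hm.congr e) hx hn, ← (homOn_cr V).map_inv_mul hn h1]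
  exact cr_mem_AutK (hu x hx) (mul_mem (inv_mem hn) h1)

omit [Fact p.Prime] in
theorem maps_of_cond (hT : F.StronglyClosed T) (hg : Iso F g R R) (hu : CU T R g) (hV : V ≤ X) (hX : X ≤ R)
    (hn : X ≤ normalizer (V : Set Ω)) (hm : Maps b V V) (e : ∀ x ∈ V, g x = b x) (hC : centralizerIn T V ≤ X)
    (h : ∀ x ∈ X, ∃ t ∈ X ⊓ T, ∀ y ∈ V, b (x * y * x⁻¹) = t * x * b y * (t * x)⁻¹) : Maps g X X := by
  haveI := finite_of_le (hX.trans hg.le)
  refine (hg.homOn.mono hX).maps_self fun x hx => ?_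
  obtain ⟨t, ht, e'⟩ := h x hx
  have h0 : (t * x)⁻¹ * g x ∈ T := by
    simpa [mul_assoc] using T.mul_mem (conj_inv_mem_of_mem_normalizer (sc_le_normalizer hT (hg.le (hX hx))) (T.inv_mem ht.2))
      (hu x (hX hx))
  have := hC ⟨h0, hg.homOn.quot_mem_centralizer (y := t * x) (hV.trans hX) (hX hx) (hm.congr e) fun y hy => by
    rw [e _ (conj_mem_of_mem_normalizer (hn hx) hy), e y hy, e' y hy]⟩
  simpa only [mul_inv_cancel_left] using X.mul_mem (X.mul_mem ht.1 hx) this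

theorem NI.tg (h : NI E F p) : TG F p T S (fun V => V ≤ S ∧ E.IsCentric (V ⊓ T)) (BE E F) where
  sat := h.satF
  scT := h.sc
  scS := sc_S F
  le := h.le
  hle k := k.1
  up k h1 h2 := haveI := h.finite; ⟨h2, centric_mono k.2 (le_inf h1 inf_le_right) inf_le_right⟩
  iso k hf := ⟨hf.le', h.inv.centric_iso k.2 ⟨hf.mor.mono inf_le_left, sc_maps_inf h.sc hf⟩⟩
  fcr h1 h2 := by rw [inf_eq_left.2 h1.1]; exact ⟨h1.1, h.toWN.centric_inf h1 h2⟩
  star h1 h2 := h.toWN.star h1 fun k => h2 ⟨h1, k⟩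
  Ble _ := BE_le E F _
  conj _ := h.inv.conj_BE
  cu _ hb := hb.2.2
  inn k := AutK_le_BE h.sc E k.1
  res k _ h1 hb := res_mem_BE k.1 hb h1
  l1 := fun {V b R u} k h1 h2 hb hp hR hn hu => by
    have hi := iso_of_AutF k.1 hb.1
    have hm := sc_maps_inf h.sc hi
    have hN : normalizerIn S V ≤ normalizerIn S (V ⊓ T) := fun x hx => ⟨hx.1, mem_normalizer_inf hx.2 (sc_le_normalizer h.sc hx.1)⟩
    set X := NK S V R ⊔ V ⊔ centralizerIn S (V ⊓ T)
    have hX : X ≤ normalizerIn S (V ⊓ T) := sup_le ((sup_le (NK_le_NS _ _ _) (le_NS k.1)).trans hN) (CS_le_NS _ _)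
    have hX1 : NK S V R ≤ X := le_sup_left.trans le_sup_left
    have hX2 : V ≤ X := le_sup_right.trans le_sup_left
    have hE : X ≤ Ext X (V ⊓ T) b := by
      refine sup_le (sup_le (fun x hx => ?_) fun x hx => ?_) fun x hx => CS_le_Ext _ _ _ ⟨mem_sup_right hx, hx.2⟩
      · have k1 := conj_mem_of_mem_normalizer hn hx.2
        obtain ⟨y, hy, hyn, e⟩ := mem_AutK.1 (hR k1).1
        refine mem_Ext.2 ⟨⟨hX1 hx, (hN hx.1).2⟩, y, hX1 ⟨⟨hy, hyn⟩, e ▸ k1⟩, fun z hz => ?_⟩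
        rw [← cr_apply hyn (hi.mem hz.1), e, ← cr_apply hx.1.2 hz.1]; simp
      · exact mem_Ext.2 ⟨⟨hX2 hx, (hX (hX2 hx)).2⟩, b x, hX2 (hi.mem hx), fun z hz => hi.homOn.map_conj hx hz.1⟩
    obtain ⟨g, k1, -, k2, k3⟩ := h.px h1 k.2 hb hp hX2 le_sup_right hX (h.toWN.cond_of_Ext h2 hb.2.1 hm (hX.trans (NS_le _ _))
      le_sup_right hE)
    obtain ⟨x, hx, hxn, rfl⟩ := mem_AutK.1 (hR hu).1
    exact l1_of_ext (homOn_of_AutF k1) k3 hX2 hi.maps k2 (hX1 ⟨⟨hx, hxn⟩, hu⟩) hxn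
  x4 := fun {V b X} k h1 _ hb hp hVX hX hx => by
    haveI := h.finite
    have hi := iso_of_AutF k.1 hb.1
    have hm := sc_maps_inf h.sc hi
    have hN : X ≤ normalizerIn S (V ⊓ T) := fun x hx => ⟨(hX hx).1, mem_normalizer_inf (hX hx).2 (sc_le_normalizer h.sc (hX hx).1)⟩
    have hR : X ⊔ centralizerIn S (V ⊓ T) ≤ normalizerIn S (V ⊓ T) := sup_le hN (CS_le_NS _ _)
    obtain ⟨g, k1, k2, k3, k4⟩ := h.px h1 k.2 hb hp (hVX.trans le_sup_left) le_sup_right hR fun x hx' => by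
      obtain ⟨x, k1, c, k2, rfl⟩ := (mem_sup_of_le_normalizer_right (hN.trans (NS_le_normalizer_CS _ _))).1 hx'
      obtain ⟨t, ht, e⟩ := hx x k1
      refine ⟨t, ⟨mem_sup_left ht.1, ht.2⟩, fun y hy => ?_⟩
      have k3 := mem_centralizer_iff_cp.1 k2.2
      rw [show x * c * y * (x * c)⁻¹ = x * (c * y * c⁻¹) * x⁻¹ by group, k3 y hy, e y hy.1,
        show t * (x * c) * b y * (t * (x * c))⁻¹ = t * x * (c * b y * c⁻¹) * (t * x)⁻¹ by group, k3 _ (hm.mem hy)]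
    have hgi := iso_of_AutF (hR.trans (NS_le _ _)) k1
    have hgX := maps_of_cond h.sc hgi k4 hVX le_sup_left (hX.trans (NS_le_normalizer _ _)) hi.maps k3
      ((CS_anti T inf_le_left).trans ((centric_CS_le k.2).trans (inf_le_left.trans hVX))) hx
    have hgi' : Iso F g X X := ⟨hgi.mor.mono le_sup_left, hgX⟩
    refine ⟨res X g, ⟨hgi'.res_mem, (h.toWN.mor_of_pprime inf_le_right ⟨hgi'.mor.mono inf_le_left, sc_maps_inf h.sc hgi'⟩ k2 _
      (inf_le_inf_right T hVX) k.2 (hm.congr fun x hx => k3 x hx.1) (hb.2.1.congr fun x hx => k3 x hx.1)).congr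
      fun x hx => res_apply hgX hx.1, (k4.mono le_sup_left).congr fun x hx => res_apply hgX hx⟩, fun x hx => ?_⟩
    rw [res_apply hgX (hVX hx), k3 x hx]

omit [Finite S] [Fact p.Prime] in
/-- `D` is the product `ER`. -/
structure Pd (D : FusionSystem R) (E : FusionSystem T) (F : FusionSystem S) (p : ℕ) : Prop where
  sat : Sat D p
  sub : D.IsSubsystemOf F
  ppi : PPI E D p
  gen : ∀ V ≤ R, E.IsCentric (V ⊓ T) → ∀ b ∈ BE E F V, (orderOf b).Coprime p → Mor D V b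

theorem NI.pd_S (h : NI E F p) : Pd h.tg.sys E F p := by
  haveI := h.finite
  refine ⟨h.tg.sat_sys, h.tg.sub, ⟨sub_iff_perm.2 (h.satE.alperin_p' (closed_mor _) (fun t ht => mor_cp _ h.le (h.le ht))
    fun P hP a ha hp => ?_), h.tg.hyp_le, fun P hP a ha hp => ?_⟩, fun V hV hc b hb hp => h.tg.mor_gen ⟨hV, hc⟩ hb hp⟩
  · obtain ⟨h1, h2, -⟩ := h.satE.base_fcr hP
    exact h.tg.mor_gen ⟨h1.1.trans h.le, by rwa [inf_eq_left.2 h1.1]⟩ (by rwa [BE_eq h.sub h1.1]) hp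
  · have hC : Closed F fun P f => Mor E (P ⊓ T) f :=
      ⟨fun k e => k.congr fun x hx => e x hx.1, fun k e => k.mono (inf_le_inf_right T e),
        fun i _ k k' => k'.mul k fun _ => (sc_maps_inf h.sc i).mem, fun i k => k.inv (sc_maps_inf h.sc i)⟩
    have := h.tg.z_of_pprime (iso_of_AutF (hP.trans h.le) ha) hp _ hC (mor_one E inf_le_right) fun _ _ _ hb _ => hb.2.1
    rwa [inf_eq_left.2 hP] at this

theorem NI.exists_pd (h : NI E F p) (h1 : T ≤ R) (h2 : R ≤ S) : ∃ D : FusionSystem R, Pd D E F p := by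
  haveI := h.finite
  have k := h.pd_S
  obtain ⟨D, k1, k2⟩ := k.sat.exists_ppi h2 (k.ppi.hyp.trans h1)
  exact ⟨D, k1, sub_trans k2.sub k.sub, ⟨k2.sub_of_le h.satE k.ppi.sub h1, (hyp_mono k2.sub).trans k.ppi.hyp,
    fun P hP a ha => k.ppi.mor P hP a (AutF_mono k2.sub P ha)⟩, fun V hV hc b hb hp => k2.mor V hV b
      ((mem_AutF (hV.trans h2)).2 ⟨k.gen V (hV.trans h2) hc b hb hp, supp_of_AutF hb.1⟩) hp⟩

omit [Finite S] in
theorem PPI.ni' {D : FusionSystem R} [Finite R] (h : PPI E D p) (hD : Sat D p) (hE : Sat E p) (hF : D.IsSubsystemOf F)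
    (hT : F.StronglyClosed T) : NI E D p := h.ni hD hE ((sub_le hF).trans (sc_le_normalizer hT))

omit [Finite S] in
theorem PPI.mem_BE {D : FusionSystem R} (h : PPI E D p) (hT : D.StronglyClosed T) (hF : D.IsSubsystemOf F) (hP : P ≤ R) (ha : a ∈ AutF D P)
    (hp : (orderOf a).Coprime p) : a ∈ BE E F P := by
  have hi := iso_of_AutF hP ha
  have hm := sc_maps_inf hT hi
  exact ⟨AutF_mono hF P ha, (h.mor _ inf_le_right _ (Iso.res_mem ⟨hi.mor.mono inf_le_left, hm⟩) (coprime_res hm hp)).congr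
    fun x hx => (res_apply hm hx).symm, fun x hx => h.hyp (mem_hyp hP ha hp hx)⟩

theorem Pd.ni {D : FusionSystem R} (k : Pd D E F p) (h : WN E F p) : haveI := finite_of_le (sub_le k.sub); NI E D p :=
  haveI := finite_of_le (sub_le k.sub); k.ppi.ni' k.sat h.satE k.sub h.sc

/-- The product is the largest subsystem in which `E` has `p`-power index. -/
theorem Pd.sub_of_ppi {D : FusionSystem R} (k : Pd D E F p) (h : WN E F p) {D' : FusionSystem U} (h1 : Sat D' p)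
    (h2 : D'.IsSubsystemOf F) (h3 : PPI E D' p) (hU : U ≤ R) : D'.IsSubsystemOf D := by
  haveI := finite_of_le (sub_le h2)
  have h4 := h3.ni' h1 h.satE h2 h.sc
  refine sub_iff_perm.2 (h1.alperin_p' (closed_mor _) (fun t ht => mor_cp _ hU (hU ht)) fun P hP a ha hp => ?_)
  obtain ⟨k1, k2, k3⟩ := h1.base_fcr hP
  exact k.gen P (k1.1.trans hU) (h4.toWN.centric_inf k2 k3) a (h3.mem_BE h4.sc h2 k1.1 ha hp) hp

theorem Pd.sub_of_ppi' {D : FusionSystem R} (k : Pd D E F p) (h : WN E F p) {D' : FusionSystem R} (h1 : Sat D' p)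
    (h2 : D'.IsSubsystemOf F) (h3 : PPI E D' p) : D.IsSubsystemOf D' := by
  haveI := finite_of_le (sub_le h2)
  have h4 := h3.ni' h1 h.satE h2 h.sc
  have h5 := k.ni h
  have h6 := k.sub_of_ppi h h1 h2 h3 le_rfl
  refine sub_iff_perm.2 (k.sat.alperin_p' (closed_mor _) (fun t ht => mor_cp _ le_rfl ht) fun P hP a ha hp => ?_)
  obtain ⟨k1, k2, k3⟩ := k.sat.base_fcr hP
  have hb := k.ppi.mem_BE h5.sc k.sub k1.1 ha hp
  have hi := iso_of_AutF k1.1 ha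
  have hm := sc_maps_inf h5.sc hi
  have hN : P ≤ normalizerIn R (P ⊓ T) := fun x hx => ⟨k1.1 hx, mem_normalizer_inf (le_normalizer hx) (sc_le_normalizer h5.sc (k1.1 hx))⟩
  obtain ⟨g, l1, -, l2, l3⟩ := h4.ext_pprime (h5.toWN.centric_inf k2 k3) (Iso.res_mem ⟨hb.2.1, hm⟩) (coprime_res hm hp) inf_le_left hN
    fun x hx => ⟨a x * x⁻¹, ⟨P.mul_mem (hi.mem hx) (P.inv_mem hx), by
      simpa [mul_assoc] using conj_mem_of_mem_normalizer (sc_le_normalizer h5.sc (k1.1 hx)) (hb.2.2 x hx)⟩, fun y hy => by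
      rw [res_apply hm hy, res_apply hm (conj_mem_of_mem_normalizer (hN hx).2 hy), hi.homOn.map_conj hx hy.1]; simp⟩
  have l4 := mem_pCore_of_stab k.sat.pg h5.sc k1.1 (mul_mem (inv_mem (AutF_mono h6 P l1)) ha)
    (fun x hx => by rw [Perm.mul_apply, ← res_apply hm hx, ← l2 x hx]; simp) ((l3.inv (maps_of_AutF l1)).mul hb.2.2 fun _ => hi.mem)
  rw [(radical_iff.1 k3).2] at l4
  simpa using (iso_of_AutF k1.1 (mul_mem l1 (AutK_le_AutF D' k1.1 k1.1 l4))).mor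

theorem Pd.eq_of_ppi {D : FusionSystem R} (k : Pd D E F p) (h : WN E F p) {D' : FusionSystem R} (h1 : Sat D' p)
    (h2 : D'.IsSubsystemOf F) (h3 : PPI E D' p) : D' = D :=
  sub_antisymm (k.sub_of_ppi h h1 h2 h3 le_rfl) (k.sub_of_ppi' h h1 h2 h3)

end Cfsg.Agent.Fus
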