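import Cfsg.Agent.Fus.Bc2

/-! Subsystems of index prime to `p`. -/

set_option autoImplicit false

namespace Cfsg.Agent.Fus

open Subgroup Cfsg Cfsg.Agent.Loc Equiv
open Cfsg.FusionSystem (normalizerIn centralizerIn)
open scoped commutatorElement

variable {Ω : Type*} [Group Ω] {S T U P Q R N V X Y : Subgroup Ω} {p n : ℕ} {F : FusionSystem S} {E : FusionSystem T}
  {a b f g : Perm Ω} {K : Subgroup (Perm Ω)}

theorem mem_of_pow_mem {G : Type*} [Group G] {M : Subgroup G} {x : G} {m k : ℕ} (hm : m.Coprime p) (h1 : x ^ m ∈ M)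
    (h2 : x ^ p ^ k ∈ M) : x ∈ M := by
  have := M.mul_mem (M.zpow_mem h1 (Nat.gcdA m (p ^ k))) (M.zpow_mem h2 (Nat.gcdB m (p ^ k)))
  rwa [← zpow_natCast, ← zpow_natCast, ← zpow_mul, ← zpow_mul, ← zpow_add, ← Nat.gcd_eq_gcd_ab, (hm.pow_right k).gcd_eq_one,
    Nat.cast_one, zpow_one] at this

theorem mul_pow_mem {G : Type*} [Group G] {M : Subgroup G} {x y : G} (hx : x ∈ normalizer (M : Set G)) (hy : y ∈ M) (m : ℕ) :
    (x * y) ^ m * (x ^ m)⁻¹ ∈ M := by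
  induction m with
  | zero => simp
  | succ m ih =>
    have := M.mul_mem (conj_mem_of_mem_normalizer hx hy) (conj_mem_of_mem_normalizer hx ih)
    convert this using 1
    rw [pow_succ', pow_succ']; group

/-! ### Generated subsystems -/

/-- The morphisms generated by `𝒢` and conjugations. -/
def Gen (F : FusionSystem S) (𝒢 : Subgroup Ω → Perm Ω → Prop) (P : Subgroup Ω) (f : Perm Ω) : Prop :=
  ∀ C, Closed F C → (∀ g ∈ S, C S (cp g)) → (∀ Q a, 𝒢 Q a → Mor F Q a → C Q a) → C P f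

theorem closed_Gen (F : FusionSystem S) (𝒢 : Subgroup Ω → Perm Ω → Prop) : Closed F (Gen F 𝒢) where
  congr h e C hC h1 h2 := hC.congr (h C hC h1 h2) e
  mono h e C hC h1 h2 := hC.mono (h C hC h1 h2) e
  mul i j h h' C hC h1 h2 := hC.mul i j (h C hC h1 h2) (h' C hC h1 h2)
  inv i h C hC h1 h2 := hC.inv i (h C hC h1 h2)

/-- The subsystem generated by `𝒢`. -/
def genFS (F : FusionSystem S) (𝒢 : Subgroup Ω → Perm Ω → Prop) : FusionSystem S :=
  closedFS (closed_Gen F 𝒢) fun g hg _ _ h _ => h g hg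

theorem closedFS_sub [Finite S] {C : Subgroup Ω → Perm Ω → Prop} (hC : Closed F C) (h : ∀ g ∈ S, C S (cp g)) :
    (closedFS hC h).IsSubsystemOf F := sub_iff_perm.2 fun _ _ h => (mor_closedFS.1 h).1

theorem genFS_sub [Finite S] (F : FusionSystem S) (𝒢 : Subgroup Ω → Perm Ω → Prop) : (genFS F 𝒢).IsSubsystemOf F := closedFS_sub _ _

theorem mor_genFS {𝒢 : Subgroup Ω → Perm Ω → Prop} (h : 𝒢 P a) (ha : Mor F P a) : Mor (genFS F 𝒢) P a :=
  mor_closedFS.2 ⟨ha, fun _ _ _ k => k P a h ha⟩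

theorem Closed.and_mor {C : Subgroup Ω → Perm Ω → Prop} (hC : Closed E C) (F : FusionSystem S) :
    Closed F fun P f => Mor E P f ∧ C P f where
  congr h e := ⟨h.1.congr e, hC.congr h.2 e⟩
  mono h e := ⟨h.1.mono e, hC.mono h.2 e⟩
  mul i j h h' := ⟨h'.1.mul h.1 fun _ hx => i.mem hx, hC.mul ⟨h.1, i.maps⟩ ⟨h'.1, j.maps⟩ h.2 h'.2⟩
  inv i h := ⟨h.1.inv i.maps, hC.inv ⟨h.1, i.maps⟩ h.2⟩

theorem genFS_ind {𝒢 : Subgroup Ω → Perm Ω → Prop} {C : Subgroup Ω → Perm Ω → Prop} (hC : Closed (genFS F 𝒢) C)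
    (h1 : ∀ g ∈ S, C S (cp g)) (h2 : ∀ Q a, 𝒢 Q a → Mor F Q a → C Q a) (hf : Mor (genFS F 𝒢) P f) : C P f :=
  ((mor_closedFS.1 hf).2 _ (hC.and_mor F) (fun g hg => ⟨mor_cp _ le_rfl hg, h1 g hg⟩)
    fun Q a k1 k2 => ⟨mor_genFS k1 k2, h2 Q a k1 k2⟩).2

/-! ### Morphisms of `E` twisted by automorphisms -/

/-- On `P ∩ T`, `f` is a morphism of `E` followed by an element of `K`. -/
def KE (K : Subgroup (Perm Ω)) (E : FusionSystem T) (P : Subgroup Ω) (f : Perm Ω) : Prop := ∃ a ∈ K, Mor E (P ⊓ T) (⇑(a⁻¹ * f))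

theorem KE.of_mor (K : Subgroup (Perm Ω)) (h : Mor E (P ⊓ T) f) : KE K E P f := ⟨1, one_mem _, by simpa using h⟩

theorem KE.of_mem (ha : a ∈ K) (E : FusionSystem T) (e : ∀ x ∈ P ⊓ T, f x = a x) : KE K E P f :=
  ⟨a, ha, (mor_one E inf_le_right).congr fun x hx => by simp [e x hx]⟩

theorem AInv.KE_mul (hi : AInv E F T) (hTS : T ≤ S) (ha : a ∈ AutF F T) (hf : Mor E P (⇑(a⁻¹ * f))) (hg : Mor E Q (⇑(b⁻¹ * g)))
    (hm : ∀ x ∈ P, f x ∈ Q) : Mor E P (⇑((b * a)⁻¹ * (g * f))) := by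
  have ha' := iso_of_AutF hTS ha
  have hm' := (ha'.symm.restrict hg.le).maps
  convert (hi ha'.symm hg hm').mul hf fun x hx => hm'.mem (hm x hx) using 2
  group

theorem closed_KE (hT : F.StronglyClosed T) (hi : AInv E F T) (hK : K ≤ AutF F T) : Closed F (KE K E) where
  congr := fun ⟨a, ha, h1⟩ e => ⟨a, ha, h1.congr fun x hx => by simp only [Perm.mul_apply, e x hx.1]⟩
  mono := fun ⟨a, ha, h1⟩ e => ⟨a, ha, h1.mono (inf_le_inf_right _ e)⟩
  mul := fun hf _ ⟨a, ha, h1⟩ ⟨b, hb, h2⟩ =>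
    ⟨b * a, mul_mem hb ha, hi.KE_mul hT.1 (hK ha) h1 h2 fun _ hx => (sc_maps_inf hT hf).mem hx⟩
  inv := fun {P Q f} hf ⟨a, ha, h1⟩ => by
    have ha' := iso_of_AutF hT.1 (hK ha)
    have hm := (ha'.symm.restrict (inf_le_right : Q ⊓ T ≤ T)).maps
    refine ⟨a⁻¹, inv_mem ha, ?_⟩
    convert hi ha' (h1.inv ((sc_maps_inf hT hf).trans hm)) hm.symm using 2
    group

theorem Inv.ainv (h : Inv E F) : AInv E F T := h.conj

theorem Inv.ke (h : Inv E F) (hf : Mor F P f) : KE (AutF F T) E P f := by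
  obtain ⟨a, ha, h1⟩ := h.fra inf_le_right (hf.mono (inf_le_left : P ⊓ T ≤ P))
  refine ⟨res T a, ha.res_mem, h1.congr fun x hx => ?_⟩
  rw [Perm.mul_apply, Perm.mul_apply, res_inv_apply ha.maps (sc_mem h.sc hf hx.1 hx.2)]

variable [Finite S] [Fact p.Prime]

/-- Going up from a centric subgroup. -/
theorem Inv.up (h : Inv E F) (hE : Sat E p) (hK : K ≤ AutF F T) (hn : AutF F T ≤ normalizer (K : Set (Perm Ω))) (hEK : AutF E T ≤ K)
    {m : ℕ} (hm : m.Coprime p) : ∀ P, P ≤ T → E.IsCentric P → ∀ a ∈ AutF F T, a ^ m ∈ K → Mor E P a → a ∈ K := by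
  haveI := h.finite
  refine down_induction fun P hP ih hc a ha ham hf => ?_
  rcases hP.eq_or_lt with rfl | hlt
  · exact hEK ((mem_AutF le_rfl).2 ⟨hf, supp_of_AutF ha⟩)
  have hi := iso_of_AutF h.le ha
  set N := normalizerIn T P
  have hPN := lt_NS hE.pg hlt
  have hNT : N ≤ T := NS_le T P
  haveI := finite_of_le hNT
  obtain ⟨b, hb, e⟩ := rec_ext (hE.rec_of_centric (Fus.centric_iso hc hf.iso)) hf.iso (R := N) fun x hx =>
    mem_Ext.2 ⟨hx, a x, hi.mem hx.1, fun y hy => hi.homOn.map_conj hx.1 (hP hy)⟩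
  replace hb := hb.mono le_sup_left
  have key : ∀ x ∈ N, ∃ z ∈ P, a x = b (x * z) := fun x hx => by
    have h1 : (b x)⁻¹ * a x ∈ centralizerIn T (img a P) := ⟨T.mul_mem (T.inv_mem (hb.mem_S hx)) (hi.mem hx.1),
      inv_mul_mem_centralizer fun y hy => by
        obtain ⟨y, hy', rfl⟩ := hf.homOn.mem_img.1 hy
        rw [← hi.homOn.map_conj hx.1 (hP hy'), ← e _ (conj_mem_of_mem_normalizer hx.2 hy'), hb.homOn.map_conj hx (hPN.le hy'), e y hy']⟩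
    obtain ⟨z, hz, e'⟩ := hf.homOn.mem_img.1 (centric_CS_le (Fus.centric_iso hc hf.iso) h1)
    exact ⟨z, hz, by rw [hb.homOn x hx z (hPN.le hz), e z hz, e']; simp⟩
  have hγ : Iso F (b⁻¹ * a) N N := by
    have h1 : ∀ x ∈ N, a x ∈ img b N := fun x hx => by
      obtain ⟨z, hz, e'⟩ := key x hx
      exact e' ▸ mem_img_of_mem _ (mul_mem hx (hPN.le hz))
    have h2 := (hb.iso.symm.mor.sub h.sub).mul (hi.mor.mono hNT) h1
    exact ⟨h2, h2.homOn.maps_self fun x hx => hb.iso.symm.mem (h1 x hx)⟩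
  have hp : ∃ k, res N (b⁻¹ * a) ^ p ^ k = 1 := by
    haveI := finite_of_le hP
    refine pow_eq_one_of_stab (hE.pg.to_le hP) (supp_res _ _) (homOn_of_AutF hγ.res_mem) hPN.le (fun x hx => ?_) fun x hx => ?_
    · rw [res_apply hγ.maps (hPN.le hx), Perm.mul_apply, ← e x hx]; simp
    · obtain ⟨z, hz, e'⟩ := key x hx
      rw [res_apply hγ.maps hx, Perm.mul_apply, e']; simpa using hz
  have hC := closed_KE h.sc h.ainv hK
  let M : Subgroup (Perm Ω) :=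
    { carrier := {c | c ∈ AutF F N ∧ KE K E N c}
      one_mem' := ⟨one_mem _, KE.of_mor K (mor_one E inf_le_right)⟩
      mul_mem' := fun hc hd => ⟨mul_mem hc.1 hd.1, hC.mul (iso_of_AutF hγ.le hd.1) (iso_of_AutF hγ.le hc.1) hd.2 hc.2⟩
      inv_mem' := fun hc => ⟨inv_mem hc.1, hC.inv (iso_of_AutF hγ.le hc.1) hc.2⟩ }
  have h1 : ∀ j : ℕ, Mor E N (⇑((a ^ j)⁻¹ * (b⁻¹ * a) ^ j)) := fun j => by
    induction j with
    | zero => simpa using mor_one E hNT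
    | succ j ih =>
      have h0 : Mor E N (⇑(a⁻¹ * (b⁻¹ * a))) := by
        have hm' := hγ.maps.trans hb.maps_img
        rw [mul_inv_cancel_left] at hm'
        simpa [mul_assoc] using h.conj hi.symm hb.iso.symm.mor hm'.symm
      rw [pow_succ, pow_succ]
      exact AInv.KE_mul h.ainv h.le ha h0 ih fun _ hx => hγ.mem hx
  obtain ⟨k, hk⟩ := hp
  have h2 : res N (b⁻¹ * a) ∈ M := mem_of_pow_mem hm (k := k) ⟨pow_mem hγ.res_mem m, a ^ m, ham, ((h1 m).mono inf_le_left).congr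
    fun x hx => by rw [← res_pow hγ.maps, Perm.mul_apply, Perm.mul_apply, res_apply (hγ.maps.pow m) hx.1]⟩ (hk ▸ one_mem _)
  obtain ⟨c, hc', h3⟩ := hC.congr (hC.mul (iso_of_AutF hγ.le h2.1) (hb.iso.sub h.sub) h2.2 (KE.of_mor K (hb.mono inf_le_left)))
    (g := a) fun x hx => by rw [Perm.mul_apply, res_apply hγ.maps hx]; simp
  rw [inf_eq_left.2 hNT] at h3
  have h4 := ih N hNT (card_lt_card hPN) (centric_mono hc hPN.le hNT) _ (mul_mem (inv_mem (hK hc')) ha) (by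
    have := mul_mem (mul_pow_mem (hn ha) (conj_inv_mem_of_mem_normalizer (hn ha) (inv_mem hc')) m) ham
    simpa [← mul_assoc] using this) h3
  simpa using mul_mem hc' h4

omit [Finite S] in
theorem exists_pow_mem_of_syl {G : Type*} [Group G] {A T : Subgroup G} [Finite A] (h : SylIn p T A) (hn : A ≤ normalizer (T : Set G))
    {a : G} (ha : a ∈ A) : ∃ m : ℕ, m.Coprime p ∧ a ^ m ∈ T := by
  obtain ⟨u, v, hu, hv, hu', hv', e⟩ := exists_pparts (p := p) ha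
  have h1 : u ∈ T := mem_of_pelt h le_rfl hn (zpowers_le.2 ha hu) hu'
  have hc : Commute u v := by
    obtain ⟨i, rfl⟩ := mem_zpowers_iff.1 hu
    obtain ⟨j, rfl⟩ := mem_zpowers_iff.1 hv
    exact Commute.zpow_zpow_self a i j
  exact ⟨_, hv', by rw [e, hc.mul_pow, pow_orderOf_eq_one, mul_one]; exact pow_mem h1 _⟩

theorem Sat.exists_pow_Inn (hF : Sat F p) (ha : a ∈ AutF F S) : ∃ m : ℕ, m.Coprime p ∧ a ^ m ∈ AutK S S :=
  haveI := finite_AutF F S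
  exists_pow_mem_of_syl hF.syl_S ((AutF_le_AutOn F S).trans (AutOn_le_normalizer_Inn S)) ha

/-! ### The system generated by `p`-elements -/

/-- The subsystem generated by the `p`-automorphisms of centric radical subgroups. -/
def E0 (F : FusionSystem S) (p : ℕ) : FusionSystem S :=
  genFS F fun P a => F.IsCentric P ∧ F.IsRadical p P ∧ a ∈ AutF F P ∧ ∃ k, a ^ p ^ k = 1

omit [Fact p.Prime] in
theorem E0_sub (F : FusionSystem S) (p : ℕ) : (E0 F p).IsSubsystemOf F := genFS_sub _ _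

omit [Finite S] [Fact p.Prime] in
theorem E0_ind {C : Subgroup Ω → Perm Ω → Prop} (hC : Closed (E0 F p) C) (h1 : ∀ g ∈ S, C S (cp g))
    (h2 : ∀ Q, F.IsCentric Q → F.IsRadical p Q → ∀ a ∈ AutF F Q, (∃ k, a ^ p ^ k = 1) → C Q a) (hf : Mor (E0 F p) P f) : C P f :=
  genFS_ind hC h1 (fun Q a h _ => h2 Q h.1 h.2.1 a h.2.2.1 h.2.2.2) hf

omit [Finite S] [Fact p.Prime] in
theorem pelt_conj (h : ∃ k, a ^ p ^ k = 1) (f : Perm Ω) : ∃ k, (f * a * f⁻¹) ^ p ^ k = 1 :=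
  let ⟨k, hk⟩ := h; ⟨k, by rw [conj_pow, hk]; simp⟩

omit [Finite S] [Fact p.Prime] in
theorem Inv.radical_iso (h : Inv E F) (hr : E.IsRadical p P) (hf : Iso F f P Q) : E.IsRadical p Q := by
  obtain ⟨h1, h2⟩ := radical_iff.1 hr
  exact radical_iff.2 ⟨h.iso_le hf h1, by rw [← h.cj_AutF hf h1, ← cj_pCoreOf, h2, hf.homOn.cj_Inn hf.maps]⟩

omit [Fact p.Prime] in
theorem Inv.ainv_E0 (h : Inv E F) : haveI := h.finite; AInv (E0 E p) F T := fun {a f P R} ha hf hm => by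
  haveI := h.finite
  refine hm.img_eq ▸ (E0_ind (closed_conj _ (E0 E p) ha.homOn) (fun t ht => ⟨le_rfl, mor_conj_cp ha.homOn (fun _ => ha.mem) ht⟩)
    (fun Q h1 h2 b hb hp => ?_) hf).2
  have hi := ha.restrict h1.1
  have := h.conj_AutF hi h1.1 hb
  exact ⟨h1.1, mor_genFS ⟨h.centric_iso h1 hi, h.radical_iso h2 hi, this, pelt_conj hp a⟩
    (iso_of_AutF (h.iso_le hi h1.1) this).mor⟩

theorem Sat.fra0 (hF : Sat F p) (hf : Mor F P f) : ∃ a ∈ AutF F S, Mor (E0 F p) P (⇑(a⁻¹ * f)) := by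
  have := hF.alperin_p (closed_KE (sc_S F) (inv_refl F).ainv_E0 le_rfl) (fun a ha => KE.of_mem ha _ fun _ _ => rfl)
    (fun Q hQ a ha hp => by
      obtain ⟨h1, h2, h3⟩ := hF.base_fcr (Or.inr hQ)
      exact KE.of_mor _ ((mor_genFS ⟨h2, h3, ha, hp⟩ (iso_of_AutF h1.1 ha).mor).mono inf_le_left)) P f hf
  rwa [KE, inf_eq_left.2 hf.le] at this

theorem Sat.inv_E0 (hF : Sat F p) : Inv (E0 F p) F :=
  ⟨E0_sub F p, sc_S F, (inv_refl F).ainv_E0, fun _ hf => let ⟨a, ha, h⟩ := hF.fra0 hf; ⟨a, iso_of_AutF le_rfl ha, h⟩⟩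

theorem Inv.mor_pelt (h : Inv E F) {D : FusionSystem T} (hD : Sat D p) (hDF : D.IsSubsystemOf F) (hP : P ≤ T) (ha : a ∈ AutF D P)
    (hp : ∃ k, a ^ p ^ k = 1) : Mor E P a := by
  haveI := h.finite
  obtain ⟨k, hk⟩ := hp
  obtain ⟨f, R, hf, -, hR⟩ := hD.conj_into_AutK hP ((zpowers_le (G := Perm Ω)).2 ha) (isPGroup_zpowers_of_pow hk)
  have h1 := AutK_le_AutF E le_rfl hf.le' (hR (conj_mem_cj (mem_zpowers a)))
  have h2 := h.conj_AutF (hf.sub hDF).symm hf.le' h1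
  rw [show f⁻¹ * (f * a * f⁻¹) * f⁻¹⁻¹ = a by group] at h2
  exact (iso_of_AutF hP h2).mor

theorem Sat.ppr_E0 (hF : Sat F p) : PPr (E0 F p) F p :=
  ⟨E0_sub F p, fun _ hP _ ha hp => hF.inv_E0.mor_pelt hF (same_refl F).sub hP ha hp⟩

omit [Fact p.Prime] in
theorem E0_le {D : FusionSystem T} (hS : S ≤ T)
    (h : ∀ Q, F.IsCentric Q → ∀ a ∈ AutF F Q, (∃ k, a ^ p ^ k = 1) → Mor D Q a) : (E0 F p).IsSubsystemOf D :=
  sub_iff_perm.2 fun _ _ hf => E0_ind (closed_mor D) (fun _ hg => mor_cp D hS (hS hg)) (fun Q h1 _ => h Q h1) hf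

omit [Fact p.Prime] in
theorem PPr.E0_le {D : FusionSystem S} (h : PPr D F p) : (E0 F p).IsSubsystemOf D :=
  Fus.E0_le le_rfl fun Q hQ => h.mor Q hQ.1

theorem Sat.centric_of_E0 (hF : Sat F p) {D : FusionSystem S} (h : (E0 F p).IsSubsystemOf D) (hP : D.IsCentric P) : F.IsCentric P :=
  centric_iff.2 ⟨hP.1, fun _ _ hf => centric_CS_le (hF.inv_E0.centric_iso (centric_sub h hP) hf)⟩

/-- The automorphism group of `S` in `O^{p'}(F)`. -/
def Aut0 (F : FusionSystem S) (p : ℕ) : Subgroup (Perm Ω) :=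
  closure {a | a ∈ AutF F S ∧ ∃ P, F.IsCentric P ∧ F.IsRadical p P ∧ Mor (E0 F p) P a}

omit [Finite S] [Fact p.Prime] in
theorem Aut0_le (F : FusionSystem S) (p : ℕ) : Aut0 F p ≤ AutF F S := (closure_le _).2 fun _ h => h.1

omit [Fact p.Prime] in
theorem Inv.normal_Aut0 (h : Inv E F) : AutF F T ≤ normalizer (Aut0 E p : Set (Perm Ω)) :=
  le_normalizer_closure_of_conj fun a ha _ ⟨h1, P, h2, h3, h4⟩ => by
    have hi := iso_of_AutF h.le ha
    have hi' := hi.restrict h2.1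
    exact ⟨h.conj_AutF hi le_rfl h1, _, h.centric_iso h2 hi', h.radical_iso h3 hi', h.ainv_E0 hi h4 hi'.maps⟩

theorem Sat.AutF_E0_le (hF : Sat F p) : AutF (E0 F p) S ≤ Aut0 F p := fun _ ha =>
  subset_closure ⟨AutF_mono (E0_sub F p) S ha, S, centric_self F, hF.radical_S, (iso_of_AutF le_rfl ha).mor⟩

omit [Fact p.Prime] in
/-- The subsystem generated by `E0` and a group of automorphisms of `S`. -/
def MG (F : FusionSystem S) (p : ℕ) (K : Subgroup (Perm Ω)) : FusionSystem S :=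
  closedFS (closed_KE (E := E0 F p) (K := K ⊓ AutF F S) (sc_S F) (inv_refl F).ainv_E0 inf_le_right)
    fun _ hg => KE.of_mor _ (mor_cp _ inf_le_right hg)

omit [Fact p.Prime] in
theorem MG_sub (F : FusionSystem S) (p : ℕ) (K : Subgroup (Perm Ω)) : (MG F p K).IsSubsystemOf F := closedFS_sub _ _

omit [Fact p.Prime] in
theorem mor_MG (hK : K ≤ AutF F S) : Mor (MG F p K) P f ↔ ∃ a ∈ K, Mor (E0 F p) P (⇑(a⁻¹ * f)) := by
  refine mor_closedFS.trans ⟨fun ⟨h, a, ha, h'⟩ => ⟨a, ha.1, by rwa [inf_eq_left.2 h.le] at h'⟩,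
    fun ⟨a, ha, h⟩ => ⟨?_, a, ⟨ha, hK ha⟩, h.mono inf_le_left⟩⟩
  simpa using (iso_of_AutF le_rfl (hK ha)).mor.mul (h.sub (E0_sub F p)) fun _ hx => h.mem_S hx

omit [Fact p.Prime] in
theorem E0_le_MG (hK : K ≤ AutF F S) : (E0 F p).IsSubsystemOf (MG F p K) :=
  sub_iff_perm.2 fun _ _ h => (mor_MG hK).2 ⟨1, one_mem _, by simpa using h⟩

omit [Fact p.Prime] in
theorem mor_MG_of_mem (hK : K ≤ AutF F S) (ha : a ∈ K) : Mor (MG F p K) S a :=
  (mor_MG hK).2 ⟨a, ha, by simpa using mor_one _ le_rfl⟩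

omit [Fact p.Prime] in
theorem MG_le (hK : K ≤ AutF F S) {D : FusionSystem T} (h : (E0 F p).IsSubsystemOf D) (h' : ∀ a ∈ K, Mor D S a) :
    (MG F p K).IsSubsystemOf D := sub_iff_perm.2 fun _ _ hf => by
  obtain ⟨a, ha, h1⟩ := (mor_MG hK).1 hf
  simpa using (h' a ha).mul (h1.sub h) fun _ hx => h1.mem_S hx

theorem Sat.AutF_MG (hF : Sat F p) (hK : K ≤ AutF F S) (h0 : Aut0 F p ≤ K) : AutF (MG F p K) S = K := by
  refine le_antisymm (fun a ha => ?_) fun a ha => (mem_AutF le_rfl).2 ⟨mor_MG_of_mem hK ha, supp_of_AutF (hK ha)⟩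
  obtain ⟨b, hb, h⟩ := (mor_MG hK).1 (iso_of_AutF le_rfl ha).mor
  simpa using K.mul_mem hb (h0 (hF.AutF_E0_le ((mem_AutF le_rfl).2 ⟨h, (supp_of_AutF (hK hb)).inv.mul (supp_of_AutF ha)⟩)))

theorem Sat.ppr_MG (hF : Sat F p) (hK : K ≤ AutF F S) : PPr (MG F p K) F p :=
  ⟨MG_sub F p K, fun P hP a ha hp => (hF.ppr_E0.mor P hP a ha hp).sub (E0_le_MG hK)⟩

theorem Sat.exists_fn_E0 (hF : Sat F p) (hP : P ≤ S) : ∃ f Q, Iso (E0 F p) f P Q ∧ F.IsFullyNormalized Q := by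
  obtain ⟨f, Q, hf, hn⟩ := exists_fn F hP
  obtain ⟨a, ha, h⟩ := hF.fra0 hf.mor
  have hi := (iso_of_AutF le_rfl ha).symm
  have hm := (hi.restrict hf.le').maps
  exact ⟨_, _, ⟨h, hf.maps.trans hm⟩, fn_iso hn (hi.mor.mono (NS_le _ _)) hm⟩

theorem Sat.sat_MG (hF : Sat F p) (hK : K ≤ AutF F S) (h0 : Aut0 F p ≤ K) : Sat (MG F p K) p := by
  have hs := MG_sub F p K
  have hE : (E0 F p).IsSubsystemOf (MG F p K) := E0_le_MG hK
  refine sat_of_genBy hF.pg (ℋ := fun P => F.IsCentric P ∧ F.IsRadical p P) (fun C hC h P f hf => ?_)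
    (fun f P Q hf hQ => ⟨centric_iso hQ.1 (hf.sub hs).symm, radical_iso hQ.2 (hf.sub hs).symm⟩) (fun P hP h _ => ?_) fun P hc h => ?_
  · obtain ⟨a, ha, h1⟩ := (mor_MG hK).1 hf
    have h2 := E0_ind (hC.sub hE) (fun g hg => h S _ ⟨centric_self F, hF.radical_S⟩ (mor_cp _ le_rfl hg))
      (fun Q k1 k2 b hb hp => h Q b ⟨k1, k2⟩ ((hF.ppr_MG hK).mor Q k1.1 b hb hp)) h1
    have h3 := (mor_MG_of_mem (p := p) hK ha).mono h1.img_le
    exact hC.congr (hC.mul (h1.sub hE).iso h3.iso h2 (hC.mono (h S a ⟨centric_self F, hF.radical_S⟩ (mor_MG_of_mem hK ha)) h1.img_le))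
      fun x _ => by simp
  · obtain ⟨f, Q, hf, hn⟩ := hF.exists_fn_E0 hP
    have hf' := hf.sub (E0_sub F p)
    refine ⟨f, Q, hf.sub hE, fa_iff.2 ⟨hn.1, (hF.syl hn).mono (AutK_le_AutF _ le_rfl hn.1) (AutF_mono hs Q)⟩,
      rec_iff.2 ⟨hn.1, fun g R hg => ?_⟩⟩
    have hg' := hg.sub hs
    obtain ⟨k, hk, e⟩ := (rec_iff.1 (hF.rec_of_fn hn)).2 g R hg'
    obtain ⟨a, ha, h1⟩ := hF.fra0 hk
    obtain ⟨b, hb, h2⟩ := (mor_MG hK).1 hg.mor
    have h3 := (h1.mono hg'.mor.le_Ext).iso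
    have h4 := (hf'.trans hg'.symm).trans (h3.sub (E0_sub F p))
    have h5 : b⁻¹ * a ∈ K := h0 (subset_closure ⟨mul_mem (inv_mem (hK hb)) ha, _, centric_iso h.1 h4, radical_iso h.2 h4,
      (h2.mul h3.symm.mor fun _ hx => h3.symm.mem hx).congr fun x hx => by
        rw [Perm.mul_apply, Perm.mul_apply, Perm.mul_apply, ← e _ (h3.symm.mem hx)]; simp⟩)
    exact ⟨k, (mor_MG hK).2 ⟨a, by simpa using K.mul_mem hb h5, h1⟩, e⟩
  · have hc' := hF.centric_of_E0 hE hc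
    obtain ⟨f, Q, hf, hn⟩ := hF.exists_fn_E0 hc.1
    have hf' := hf.sub (E0_sub F p)
    refine ⟨f, Q, hf.sub hE, fun k => h ⟨hc', radical_iso (radical_iff.2 ⟨hn.1, le_antisymm (fun a ha => k ⟨(hF.syl hn).pCoreOf_le ha,
      pCoreOf_inf_le (AutF_mono hs Q) ⟨ha, AutK_le_AutF _ le_rfl hn.1 ((hF.syl hn).pCoreOf_le ha)⟩⟩) (Inn_le_pCore hF.pg F hn.1)⟩)
      hf'.symm⟩⟩

theorem Sat.inv_MG (hF : Sat F p) (hK : K ≤ AutF F S) (hn : AutF F S ≤ Subgroup.normalizer (K : Set (Perm Ω))) : Inv (MG F p K) F := by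
  refine ⟨MG_sub F p K, sc_S F, fun {a f P R} ha hf hm => ?_, fun _ hf => ?_⟩
  · obtain ⟨b, hb, h⟩ := (mor_MG hK).1 hf
    refine (mor_MG hK).2 ⟨_, conj_mem_of_mem_normalizer (hn ha.res_mem) hb, ?_⟩
    rw [(supp_of_AutF (hK hb)).conj_congr ha.maps fun x hx => res_apply ha.maps hx]
    simpa [mul_assoc] using (inv_refl F).ainv_E0 ha h hm
  · obtain ⟨a, ha, h⟩ := hF.fra0 hf
    exact ⟨a, iso_of_AutF le_rfl ha, h.sub (E0_le_MG hK)⟩

theorem Sat.ni_MG (hF : Sat F p) (hK : K ≤ AutF F S) (h0 : Aut0 F p ≤ K) (hn : AutF F S ≤ Subgroup.normalizer (K : Set (Perm Ω))) :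
    NI (MG F p K) F p := WN.ni_S ⟨hF.sat_MG hK h0, hF, hF.inv_MG hK hn⟩

omit [Fact p.Prime] in
/-- The subsystem `O^{p'}(F)`. -/
abbrev OP (F : FusionSystem S) (p : ℕ) : FusionSystem S := MG F p (Aut0 F p)

theorem Sat.sat_OP (hF : Sat F p) : Sat (OP F p) p := hF.sat_MG (Aut0_le F p) le_rfl
theorem Sat.ppr_OP (hF : Sat F p) : PPr (OP F p) F p := hF.ppr_MG (Aut0_le F p)
theorem Sat.ni_OP (hF : Sat F p) : NI (OP F p) F p := hF.ni_MG (Aut0_le F p) le_rfl (inv_refl F).normal_Aut0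
theorem Sat.AutF_OP (hF : Sat F p) : AutF (OP F p) S = Aut0 F p := hF.AutF_MG (Aut0_le F p) le_rfl

omit [Fact p.Prime] in
theorem OP_le {D : FusionSystem T} (hS : S ≤ T) (h : (E0 F p).IsSubsystemOf D)
    (h' : ∀ a ∈ AutF F S, ∀ P, F.IsCentric P → F.IsRadical p P → Mor (E0 F p) P a → Mor D S a) : (OP F p).IsSubsystemOf D :=
  MG_le (Aut0_le F p) h ((closed_mor (F := F) D).of_closure le_rfl (fun _ h => h.1) (mor_one D hS)
    fun a ⟨h1, P, h2, h3, h4⟩ => h' a h1 P h2 h3 h4)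

theorem PPr.OP_le {D : FusionSystem S} (h : PPr D F p) (hF : Sat F p) (hD : Sat D p) : (OP F p).IsSubsystemOf D :=
  Fus.OP_le le_rfl h.E0_le fun _ ha P h1 _ h2 => hF.mor_of_centric hD h.sub (iso_of_AutF le_rfl ha).mor P h1.1 h1 (h2.sub h.E0_le)

theorem Sat.pprime_OP (hF : Sat F p) : F.IsPPrimeResidual p (OP F p) :=
  ⟨hF.sat_OP.sat, ppr_iff.2 hF.ppr_OP, fun _ hD h => (ppr_iff.1 h).OP_le hF ⟨hF.pg, hD⟩⟩

theorem Sat.eq_OP (hF : Sat F p) {D : FusionSystem S} (h : F.IsPPrimeResidual p D) : D = OP F p := pprime_unique h hF.pprime_OP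

theorem PPr.Aut0_le {D : FusionSystem S} (h : PPr D F p) (hF : Sat F p) (hD : Sat D p) : Aut0 F p ≤ AutF D S :=
  hF.AutF_OP ▸ AutF_mono (h.OP_le hF hD) S

theorem Sat.sub_of_ppr (hF : Sat F p) {D D' : FusionSystem S} (hD : Sat D p) (hDF : D.IsSubsystemOf F) (h : PPr D' F p)
    (hA : AutF D S ≤ AutF D' S) : D.IsSubsystemOf D' :=
  sub_iff_perm.2 (hD.alperin_p (closed_mor D') (fun _ ha => (iso_of_AutF le_rfl (hA ha)).mor) fun P hP a ha =>
    h.mor P (hD.ess_lt hP).le a (AutF_mono hDF P ha))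

theorem PPr.eq_MG {D : FusionSystem S} (h : PPr D F p) (hF : Sat F p) (hD : Sat D p) : D = MG F p (AutF D S) :=
  sub_antisymm (hF.sub_of_ppr hD h.sub (hF.ppr_MG (AutF_mono h.sub S)) (hF.AutF_MG (AutF_mono h.sub S) (h.Aut0_le hF hD)).ge)
    (MG_le (AutF_mono h.sub S) h.E0_le fun _ ha => (iso_of_AutF le_rfl ha).mor)

theorem PPr.OP_eq {D : FusionSystem S} (h : PPr D F p) (hF : Sat F p) (hD : Sat D p) : OP D p = OP F p :=
  sub_antisymm (PPr.OP_le ⟨h.OP_le hF hD, fun P hP a ha => hF.ppr_OP.mor P hP a (AutF_mono h.sub P ha)⟩ hD hF.sat_OP)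
    ((hD.ppr_OP.trans h).OP_le hF hD.sat_OP)

theorem Inv.ainv_OP (h : Inv E F) : haveI := h.finite; AInv (OP E p) F T := fun {a f P R} ha hf hm => by
  haveI := h.finite
  obtain ⟨b, hb, h'⟩ := (mor_MG (Aut0_le E p)).1 hf
  refine (mor_MG (Aut0_le E p)).2 ⟨_, conj_mem_of_mem_normalizer (h.normal_Aut0 ha.res_mem) hb, ?_⟩
  rw [(supp_of_AutF (Aut0_le E p hb)).conj_congr ha.maps fun x hx => res_apply ha.maps hx]
  simpa [mul_assoc] using h.ainv_E0 ha h' hm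

theorem WN.wn_OP (h : WN E F p) : haveI := h.finite; WN (OP E p) F p :=
  haveI := h.finite; h.satE.ni_OP.toWN.trans h h.inv.ainv_OP

theorem NI.ni_OP (h : NI E F p) : haveI := h.finite; NI (OP E p) F p :=
  haveI := h.finite; h.satE.ni_OP.trans h h.inv.ainv_OP

omit [Fact p.Prime] in
theorem Inv.centric_of (h : Inv E F) {D : FusionSystem T} (hD : D.IsSubsystemOf F) (hP : E.IsCentric P) : D.IsCentric P :=
  haveI := h.finite
  centric_iff.2 ⟨hP.1, fun _ _ hf => centric_CS_le (h.centric_iso hP (hf.sub hD))⟩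

/-- `O^{p'}(E)` is the least weakly normal subsystem over `T`. -/
theorem WN.OP_le (h : WN E F p) {D : FusionSystem T} (hD : WN D F p) : haveI := h.finite; (OP E p).IsSubsystemOf D := by
  haveI := h.finite
  have h0 : (E0 E p).IsSubsystemOf D := E0_le le_rfl fun Q hQ a ha hp => hD.inv.mor_pelt h.satE h.sub hQ.1 ha hp
  refine Fus.OP_le le_rfl h0 fun a ha P h1 _ h2 => ?_
  obtain ⟨m, hm, h3⟩ := h.satE.exists_pow_Inn ha
  exact (iso_of_AutF le_rfl (hD.inv.up hD.satE (AutF_mono hD.sub T) (hD.inv.AutF_normal le_rfl) le_rfl hm P h1.1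
    (h.inv.centric_of hD.sub h1) a (AutF_mono h.sub T ha) (AutK_le_AutF D le_rfl le_rfl h3) (h2.sub h0))).mor

theorem WN.OP_eq (h : WN E F p) {D : FusionSystem T} (hD : WN D F p) : haveI := h.finite; OP E p = OP D p :=
  haveI := h.finite; sub_antisymm (h.OP_le hD.wn_OP) (hD.OP_le h.wn_OP)

end Cfsg.Agent.Fus
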