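import Cfsg.Agent.Fus.Ppr

/-! Craven's theorem: `O^{p'}` of a weakly normal subsystem is normal. -/

set_option autoImplicit false

namespace Cfsg.Agent.Fus

open Subgroup Cfsg Cfsg.Agent.Loc Equiv
open Cfsg.FusionSystem (normalizerIn centralizerIn)
open scoped commutatorElement

variable {Ω : Type*} [Group Ω] {S T U P Q R N V X Y : Subgroup Ω} {p n : ℕ} {F : FusionSystem S} {E : FusionSystem T}
  {a b f g : Perm Ω} {K : Subgroup (Perm Ω)}

theorem Mor.quot_mem_CS (hg : Mor F R g) (hT : F.StronglyClosed T) (hP : P ≤ R) (h : ∀ x ∈ P, g x = x) {x : Ω} (hx : x ∈ R)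
    (hxT : x ∈ T) (hn : x ∈ normalizer (P : Set Ω)) : x⁻¹ * g x ∈ centralizerIn T P :=
  ⟨T.mul_mem (T.inv_mem hxT) (sc_mem hT hg hx hxT), inv_mul_mem_centralizer fun y hy => by
    rw [← h _ (conj_mem_of_mem_normalizer hn hy), hg.homOn.map_conj hx (hP hy), h y hy]⟩

theorem Mor.maps_sup_of_cu (hg : Mor F (Q ⊔ Y) g) (hm : Maps g Q R) (hY : Y ≤ centralizer (T : Set Ω)) (hQ : Q ≤ T) (hR : R ≤ T)
    (hC : centralizerIn T R ≤ R) (hu : CU T Y g) : Maps g (Q ⊔ Y) (R ⊔ Y) := by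
  have h1 : ∀ y ∈ Y, y⁻¹ * g y ∈ R := fun y hy => hC ⟨hu y hy, (centralizer (R : Set Ω)).mul_mem
    (inv_mem (centralizer_le hR (hY hy)))
    (hg.homOn.mem_centralizer le_sup_left hm (mem_sup_right hy) (centralizer_le hQ (hY hy)))⟩
  have : img g (Q ⊔ Y) = R ⊔ Y := le_antisymm (img_le_iff.2 (hg.homOn.mem_of_sup (fun x hx => mem_sup_left (hm.mem hx))
    fun y hy => by simpa using mul_mem (mem_sup_right hy : y ∈ R ⊔ Y) (mem_sup_left (h1 y hy))))
    (sup_le (hm.img_eq.ge.trans (img_mono _ le_sup_left)) fun y hy => by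
      simpa using mul_mem (mem_img_of_mem g (mem_sup_right hy : y ∈ Q ⊔ Y))
        (inv_mem (img_mono _ le_sup_left (hm.img_eq.ge (h1 y hy)))))
  exact this ▸ hg.maps_img

variable [Finite S] [Fact p.Prime]

theorem mem_pCore_of_stab (hS : IsPGroup p S) (hT : F.StronglyClosed T) (hU : U ≤ S) (ha : a ∈ AutF F U)
    (h1 : ∀ x ∈ U ⊓ T, a x = x) (h2 : CU T U a) : a ∈ pCoreOf p (AutF F U) := by
  haveI := finite_of_le hU
  haveI : Finite (U ⊓ T : Subgroup Ω) := finite_of_le inf_le_left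
  let M : Subgroup (Perm Ω) :=
    { carrier := {a | a ∈ AutF F U ∧ (∀ x ∈ U ⊓ T, a x = x) ∧ CU T U a}
      one_mem' := ⟨one_mem _, fun _ _ => rfl, fun _ _ => by simp⟩
      mul_mem' := fun h k => ⟨mul_mem h.1 k.1, fun x hx => by rw [Perm.mul_apply, k.2.1 x hx, h.2.1 x hx],
        h.2.2.mul k.2.2 fun _ hx => (maps_of_AutF k.1).mem hx⟩
      inv_mem' := fun h => ⟨inv_mem h.1, fun x hx => by rw [Perm.inv_eq_iff_eq, h.2.1 x hx], h.2.2.inv (maps_of_AutF h.1)⟩ }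
  refine le_pCoreOf (Q := M) (fun _ h => h.1) (le_normalizer_of_cj_le fun c hc => cj_le_iff_forall.2 fun d hd => ?_)
    (isPGroup_of_forall_pow fun d hd => pow_eq_one_of_stab (hS.to_le (inf_le_left.trans hU)) (supp_of_AutF hd.1) (homOn_of_AutF hd.1)
      inf_le_left hd.2.1 fun x hx => ⟨U.mul_mem (U.inv_mem hx) ((maps_of_AutF hd.1).mem hx), hd.2.2 x hx⟩) ⟨ha, h1, h2⟩
  have hi := iso_of_AutF hU hc
  exact ⟨hi.conj_mem hd.1, fun x hx => by
    rw [Perm.mul_apply, Perm.mul_apply, hd.2.1 _ ((sc_maps_inf hT hi).inv_mem hx)]; simp,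
    hd.2.2.conj hT (fun _ hx => (maps_of_AutF hd.1).mem hx) hi⟩

theorem Inv.ext_fix (h : Inv E F) (hF : Sat F p) : ∀ P, P ≤ T → E.IsCentric P → ∀ d ∈ AutF F (P ⊔ centralizerIn S T),
    (orderOf d).Coprime p → (∀ x ∈ P, d x = x) → ∃ c ∈ AutF F (T ⊔ centralizerIn S T), (∀ x ∈ T, c x = x) ∧
      ∀ x ∈ centralizerIn S T, c x = d x := by
  haveI := h.finite
  have hT := h.sc
  refine down_induction fun P hP ih hc d hd hp hfix => ?_
  rcases hP.eq_or_lt with rfl | hlt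
  · exact ⟨d, hd, hfix, fun _ _ => rfl⟩
  set Y := centralizerIn S T
  set U := P ⊔ Y
  set V := normalizerIn T P
  have hPV : P < V := lt_NS (hF.pg.to_le h.le) hlt
  have hVT : V ≤ T := NS_le T P
  have hUS : U ≤ S := sup_le (hP.trans h.le) (Fus.CS_le S T)
  have hVU : V ≤ normalizerIn S U := fun x hx => ⟨h.le hx.1, mem_normalizer_sup hx.2
    (NS_le_normalizer_CS S T ⟨h.le hx.1, le_normalizer hx.1⟩)⟩
  have hUT : U ⊓ T = P := le_antisymm ((inf_le_inf_right T (sup_le_sup_left (CS_anti S hP) P)).trans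
    (sup_CS_inf hP (centric_CS_le hc)).le) (le_inf le_sup_left hP)
  obtain ⟨k, U', hn, hk, hm⟩ := hF.exists_NS_mor hUS
  have hi : Iso F k U U' := ⟨hk.mono (le_NS hUS), hm⟩
  have hm' := sc_maps_inf hT hi
  rw [hUT] at hm'
  have hc' := h.centric_iso hc ⟨hi.mor.mono le_sup_left, hm'⟩
  have hd' := hi.conj_mem hd
  have hfix' : ∀ x ∈ U' ⊓ T, (k * d * k⁻¹) x = x := fun x hx => by
    rw [Perm.mul_apply, Perm.mul_apply, hfix _ (hm'.inv_mem hx)]; simp
  have hkV : ∀ x ∈ V, k x ∈ normalizerIn S U' ∧ k x ∈ T ∧ k x ∈ normalizer ((U' ⊓ T : Subgroup Ω) : Set Ω) := fun x hx =>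
    ⟨hk.mem_NS (le_NS hUS) hm (hVU hx) (hVU hx).2, sc_mem hT hk (hVU hx) hx.1,
      (hk.mem_NS (le_sup_left.trans (le_NS hUS)) hm' (hVU hx) hx.2).2⟩
  obtain ⟨g, hg, e⟩ := rec_ext (hF.rec_of_fn hn) (iso_of_AutF hn.1 hd') (R := img k V) (img_le_iff.2 fun x hx => by
    obtain ⟨k1, k2, k3⟩ := hkV x hx
    refine (mem_Ext_iff (maps_of_AutF hd')).2 ⟨k1, ?_⟩
    have k4 := cr_mem_Tr k2 k1.2 (hn.1.trans (sc_le_normalizer hT))
    have k5 := cr_mem_AutF F hn.1 k1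
    have k6 := (hF.syl hn).pCoreOf_le (mem_pCore_of_stab hF.pg hT hn.1
      (mul_mem (mul_mem (mul_mem hd' k5) (inv_mem hd')) (inv_mem k5)) (fun y hy => by
        have k7 := ((maps_cr_iff inf_le_left k1.2).2 k3).inv_mem hy
        rw [Perm.mul_apply, Perm.mul_apply, Perm.mul_apply, Perm.inv_eq_iff_eq.2 (hfix' _ k7).symm, perm_apply_inv, hfix' y hy])
      (Tr.cu (mul_mem (conj_mem_Tr hT k4 (iso_of_AutF hn.1 hd')) (inv_mem k4))))
    simpa using mul_mem k6 (cr_mem_AutK k1.1 k1.2))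
  have hR : V ⊔ U ≤ normalizerIn S U := sup_le hVU (le_NS hUS)
  haveI := finite_of_le hR
  have hkR := hk.mono hR
  have h₁ : ∀ x ∈ V ⊔ U, k x ∈ img k V ⊔ U' :=
    hkR.homOn.mem_of_sup (fun x hx => mem_sup_left (mem_img_of_mem _ hx)) fun x hx => mem_sup_right (hm.mem hx)
  have hG := hkR.conj_back hg h₁ fun x hx => by
    obtain ⟨y, hy, e'⟩ := hkR.homOn.mem_img.1 ((hg.mul hkR h₁).homOn.mem_of_sup (R := img k (V ⊔ U)) (fun x hx => by
      obtain ⟨k1, k2, k3⟩ := hkV x hx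
      have := centric_CS_le hc' (hg.quot_mem_CS hT (inf_le_left.trans le_sup_right) (fun y hy => (e y hy.1).trans (hfix' y hy))
        (mem_sup_left (mem_img_of_mem _ hx)) k2 k3)
      simpa using mul_mem (mem_img_of_mem k (mem_sup_left hx : x ∈ V ⊔ U))
        (img_mono k (le_sup_left.trans le_sup_right) (hm'.img_eq.ge this))) (fun x hx => by
      rw [Perm.mul_apply, e _ (hm.mem hx)]
      simpa using mem_img_of_mem k (mem_sup_right ((maps_of_AutF hd).mem hx) : d x ∈ V ⊔ U)) x hx)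
    exact ⟨y, hy, e'.symm⟩
  obtain ⟨b, hb, -, hbp, e'⟩ := hG.exists_pprime le_sup_right hp (maps_of_AutF hd) (fun x hx => by simp [e _ (hm.mem hx)])
    (H := ⊤) (mem_top _)
  have hbi := iso_of_AutF hG.le hb
  have hbP : ∀ x ∈ P, b x = x := fun x hx => (e' x (mem_sup_left hx)).trans (hfix x hx)
  have hq : ∀ x ∈ V, x⁻¹ * b x ∈ P := fun x hx => centric_CS_le hc
    (hbi.mor.quot_mem_CS hT (hPV.le.trans le_sup_left) hbP (mem_sup_left hx) hx.1 hx.2)
  haveI := finite_of_le hVT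
  have hV := fix_of_coprime_of_stab hbp (hF.pg.to_le (hP.trans h.le)) (hbi.homOn.mono le_sup_left)
    ((hbi.homOn.mono le_sup_left).maps_self fun x hx => by simpa using V.mul_mem hx (hPV.le (hq x hx))) hPV.le hbP hq
  have e₁ : V ⊔ U = V ⊔ Y := by rw [← sup_assoc, sup_eq_left.2 hPV.le]
  obtain ⟨c, hc₁, hc₂, hc₃⟩ := ih V hVT (card_lt_card hPV) (centric_mono hc hPV.le hVT) b (e₁ ▸ hb) hbp hV
  exact ⟨c, hc₁, hc₂, fun x hx => (hc₃ x hx).trans (e' x (mem_sup_right hx))⟩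

theorem WN.gx_pelt (h : WN E F p) (hQ : E.IsCentric Q) (ha : a ∈ AutF E Q) (hp : ∃ k, a ^ p ^ k = 1) :
    a ∈ GX F T Q (Q ⊔ centralizerIn S Q) (sup_CS_le (hQ.1.trans h.le)) := by
  haveI := h.finite
  have hF := h.satF
  have hT := h.sc
  have hQS := hQ.1.trans h.le
  obtain ⟨m, Q', hn, hm, hq⟩ := hF.exists_NS_mor hQS
  have hi : Iso F m Q Q' := ⟨hm.mono (le_NS hQS), hq⟩
  have hc := h.inv.centric_iso hQ hi
  have main : m * a * m⁻¹ ∈ GX F T Q' (Q' ⊔ centralizerIn S Q') (sup_CS_le hn.1) := by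
    haveI := finite_AutF' E hc.1
    refine mem_of_pelt (h.satE.syl (hF.fn_sub hT h.sub hc.1 hn)) (fun c hc => ?_) ((AutF_mono h.sub Q').trans
      (le_normalizer_of_cj_le fun c hc => cj_le_iff_forall.2 fun d hd => ?_)) (h.inv.conj_AutF hi hQ.1 ha) (pelt_conj hp m)
    · obtain ⟨t, ht, htn, rfl⟩ := mem_AutK.1 hc
      have h1 : t ∈ normalizerIn S Q' := ⟨h.le ht, htn⟩
      exact ⟨maps_res _ _, cp t, iso_cp_self F (sup_CS_le hn.1) ⟨h1.1, NS_le_normalizer_sup_CS S Q' h1⟩,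
        fun x hx => (cr_apply htn hx).symm, cu_cp ht ((sup_CS_le hn.1).trans (sc_le_normalizer hT))⟩
    · obtain ⟨h1, b, h2, h3, h4⟩ := hd
      obtain ⟨g, hg, e⟩ := hF.ext_CS (hF.fc_of_fn hn) (iso_of_AutF hn.1 hc)
      rw [sup_comm] at hg
      have hc' := maps_of_AutF hc
      have hi := hg.iso_sup_CS (hc'.congr e)
      refine ⟨hc'.symm.trans (h1.trans hc'), g * b * g⁻¹, hi.symm.trans (h2.trans hi), fun x hx => ?_,
        h4.conj hT (fun _ hx => h2.mem hx) hi⟩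
      simp only [Perm.mul_apply]
      rw [hc'.inv_eq_of_eq e x hx, h3 _ (hc'.inv_mem hx), e _ (h1.mem (hc'.inv_mem hx))]
  obtain ⟨-, b, k1, k2, k3⟩ := main
  have hW := hm.mono (sup_CS_le_NS hQS)
  haveI := finite_of_le hW.le
  have h₁ := hm.mem_sup_CS hQS hq
  have h₂ : ∀ x ∈ Q ⊔ centralizerIn S Q, ∃ y ∈ Q ⊔ centralizerIn S Q, b (m x) = m y := fun x hx => by
    obtain ⟨q, hq', e⟩ := hq.exists_eq ((sup_CS_inf hc.1 (centric_CS_le hc)).le
      (mem_inf.2 ⟨mul_mem (inv_mem (h₁ x hx)) (k1.mem (h₁ x hx)), k3 _ (h₁ x hx)⟩))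
    exact ⟨x * q, mul_mem hx (mem_sup_left hq'), by rw [hW.homOn x hx q (mem_sup_left hq'), e]; simp⟩
  exact ⟨maps_of_AutF ha, _, hW.conj_back k1.mor h₁ h₂, fun x hx => by simp [k2 _ (hq.mem hx)],
    CU.conj_back hT hW k3 h₁ h₂⟩

omit [Finite S] [Fact p.Prime] in
/-- `f` extends to `Q C_S(T)` trivially modulo `T` on every centric `Q ≤ P`. -/
def XY (E : FusionSystem T) (F : FusionSystem S) (P : Subgroup Ω) (f : Perm Ω) : Prop :=
  ∀ Q ≤ P, E.IsCentric Q → ∃ g : Perm Ω, Mor F (Q ⊔ centralizerIn S T) g ∧ (∀ x ∈ Q, g x = f x) ∧ CU T (Q ⊔ centralizerIn S T) g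

omit [Finite S] [Fact p.Prime] in
theorem closed_XY [Finite T] (E : FusionSystem T) (F : FusionSystem S) : Closed E (XY E F) where
  congr h e Q hQ hc := let ⟨g, h1, h2, h3⟩ := h Q hQ hc; ⟨g, h1, fun x hx => (h2 x hx).trans (e x (hQ hx)).symm, h3⟩
  mono h e Q hQ := h Q (hQ.trans e)
  mul i _ h h' Q hQ hc := by
    have i' := i.restrict hQ
    have hc' := centric_iso hc i'
    obtain ⟨g, h1, h2, h3⟩ := h Q hQ hc
    obtain ⟨g', k1, k2, k3⟩ := h' _ ((i'.maps.le_iff i.maps).2 hQ) hc'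
    have hm := h1.maps_sup_of_cu (i'.maps.congr h2) (CS_le_centralizer S T) hc.1 hc'.1 (centric_CS_le hc') (h3.mono le_sup_right)
    exact ⟨g' * g, k1.mul h1 fun _ => hm.mem, fun x hx => by rw [Perm.mul_apply, h2 x hx, k2 _ (i'.mem hx), Perm.mul_apply],
      k3.mul h3 fun _ => hm.mem⟩
  inv i h Q hQ hc := by
    have i' := i.symm.restrict hQ
    have hc' := centric_iso hc i'
    obtain ⟨g, h1, h2, h3⟩ := h _ ((i'.maps.le_iff i.maps.symm).2 hQ) hc'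
    have hm' := i'.maps.symm
    rw [inv_inv] at hm'
    have hm := h1.maps_sup_of_cu (hm'.congr h2) (CS_le_centralizer S T) hc'.1 hc.1 (centric_CS_le hc) (h3.mono le_sup_right)
    exact ⟨g⁻¹, h1.inv hm, hm'.inv_eq_of_eq h2, h3.inv hm⟩

theorem WN.xy_E0 (h : WN E F p) (hf : haveI := h.finite; Mor (E0 E p) P f) : XY E F P f := by
  haveI := h.finite
  have hle : ∀ Q ≤ T, Q ⊔ centralizerIn S T ≤ S := fun Q hQ => sup_le (hQ.trans h.le) (Fus.CS_le S T)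
  refine E0_ind ((closed_XY E F).sub (E0_sub E p)) (fun t ht Q hQ _ => ⟨cp t, mor_cp F (hle Q hQ) (h.le ht), fun _ _ => rfl,
    cu_cp ht ((hle Q hQ).trans (sc_le_normalizer h.sc))⟩) (fun R hR _ a ha hp Q hQ _ => ?_) hf
  obtain ⟨-, b, k1, k2, k3⟩ := h.gx_pelt hR ha hp
  have := sup_le_sup hQ (CS_anti S hR.1)
  exact ⟨b, k1.mor.mono this, fun x hx => k2 x (hQ hx), k3.mono this⟩

/-- Craven's theorem. -/
theorem WN.ni_OP (h : WN E F p) : haveI := h.finite; NI (OP E p) F p := by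
  haveI := h.finite
  have hF := h.satF
  have hT := h.sc
  refine h.wn_OP.ni_of_gx fun a ha => ?_
  rw [h.satE.AutF_OP] at ha
  refine (closure_le _).2 ?_ ha
  rintro a ⟨ha, P, hc, -, hP⟩
  haveI := finite_AutF E T
  obtain ⟨u, v, hu, hv, hu', hv', rfl⟩ := exists_pparts (p := p) ha
  have huA := zpowers_le.2 ha hu
  have hvA := zpowers_le.2 ha hv
  refine mul_mem (h.gx_pelt (centric_self E) huA hu') ?_
  have h1 : Mor (E0 E p) P v := by
    simpa using (h.satE.ppr_E0.mor T le_rfl _ (inv_mem huA) (let ⟨k, hk⟩ := hu'; ⟨k, by rw [inv_pow, hk, inv_one]⟩)).mul hP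
      fun _ hx => hP.mem_S hx
  obtain ⟨f, f1, f2, f3⟩ := h.xy_E0 h1 P le_rfl hc
  have hvi := iso_of_AutF h.le (AutF_mono h.sub T hvA)
  obtain ⟨g, hg, e⟩ := hF.ext_CS (hF.fc_of_fn (fn_of_sc hT)) hvi
  rw [sup_comm] at hg
  obtain ⟨w, hw, -, hw', e'⟩ := (hg.iso_sup_CS (hvi.maps.congr e)).exists_pprime le_sup_left hv' hvi.maps e (H := ⊤) (mem_top _)
  set Y := centralizerIn S T
  have hwi := iso_of_AutF hg.le hw
  have hwT : Maps w T T := hvi.maps.congr e'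
  have hwY : Maps w Y Y := hwi.mor.maps_CS hwT
  have i' := (iso_of_AutF le_rfl hvA).restrict hc.1
  have hc' := centric_iso hc i'
  have m1 := f1.maps_sup_of_cu (i'.maps.congr f2) (CS_le_centralizer S T) hc.1 hc'.1 (centric_CS_le hc') (f3.mono le_sup_right)
  have hle : P ⊔ Y ≤ T ⊔ Y := sup_le_sup_right hc.1 Y
  have m2 := (hwi.homOn.mono hle).maps_sup (i'.maps.congr fun x hx => e' x (hc.1 hx)) hwY
  have hd : Iso F (w⁻¹ * f) (P ⊔ Y) (P ⊔ Y) := Iso.trans ⟨f1, m1⟩ (Iso.symm ⟨hwi.mor.mono hle, m2⟩)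
  haveI := finite_AutF' F hd.le
  obtain ⟨n, n1, n2, -⟩ := exists_pow_pprime (orderOf_ne_zero_of_mem hd.res_mem) hw' 0
  obtain ⟨c, c1, c2, c3⟩ := h.inv.ext_fix hF P hc.1 hc _ (pow_mem hd.res_mem n) n1 fun x hx => pow_fix (by
    rw [res_apply hd.maps (mem_sup_left hx), Perm.mul_apply, f2 x hx, ← e' x (hc.1 hx)]; simp) n
  have hci := iso_of_AutF hg.le c1
  have key : ∀ j : ℕ, ∀ x ∈ P ⊔ Y, x⁻¹ * (w ^ j) (((w⁻¹ * f) ^ j) x) ∈ T := fun j => by
    induction j with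
    | zero => simp
    | succ j ih =>
      intro x hx
      have hz := (hd.maps.pow j).mem hx
      have k1 := (hwT.pow j).mem (f3 _ hz)
      rw [(hwi.pow j).homOn.map_inv_mul (hle hz) (sup_le_sup_right hc'.1 Y (m1.mem hz))] at k1
      simpa [pow_succ, pow_succ' (w⁻¹ * f), mul_assoc] using T.mul_mem (ih x hx) k1
  refine ⟨hvi.maps, w * c, hci.trans hwi, fun x hx => by rw [Perm.mul_apply, c2 x hx, e' x hx], CU.sup (hci.trans hwi).homOn
    (hg.le.trans (sc_le_normalizer hT)) (cu_of_sc hT (hci.trans hwi).mor le_sup_left le_rfl) fun x hx => ?_⟩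
  have := key n x (mem_sup_right hx)
  rwa [pow_eq_of_modEq_one n2 (pow_orderOf_eq_one w), ← res_apply (hd.maps.pow n) (mem_sup_right hx), res_pow hd.maps,
    ← c3 x hx] at this

end Cfsg.Agent.Fus
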