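import Cfsg.Agent.Fus.Mt

/-! Preimages of normal subsystems under central quotients; components. -/

set_option autoImplicit false

namespace Cfsg.Agent.Fus

open Subgroup Cfsg Cfsg.Agent.Loc Equiv
open Cfsg.FusionSystem (normalizerIn centralizerIn)
open scoped commutatorElement

variable {Ω Ω' : Type*} [Group Ω] [Group Ω'] {S T U P Q R N V W X Y : Subgroup Ω} {S' T' R' : Subgroup Ω'} {p n : ℕ}
  {F : FusionSystem S} {F' : FusionSystem S'} {E' : FusionSystem T'} {θ : Ω → Ω'} {a b f g k l : Perm Ω}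

variable [Finite S]

/-- The preimage of the automizers of `E'`. -/
noncomputable def Epi.BP (e : Epi F θ F') (E' : FusionSystem T') (V : Subgroup Ω) : Subgroup (Perm Ω) :=
  ⨅ h : V ≤ S, (e.homOn_ind h).pre (AutF E' (img θ V))

theorem Epi.mem_BP (e : Epi F θ F') (hV : V ≤ S) : b ∈ e.BP E' V ↔ b ∈ AutF F V ∧ ind θ V b ∈ AutF E' (img θ V) := by
  rw [Epi.BP, mem_iInf]; exact ⟨fun h => h hV, fun h _ => h⟩

theorem Epi.ind_conj (e : Epi F θ F') (hf : Iso F f V W) {f' : Perm Ω'} (hf' : Ind θ V f f') (hb : b ∈ AutF F V) :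
    ind θ W (f * b * f⁻¹) = f' * ind θ V b * f'⁻¹ := by
  obtain ⟨h1, h2⟩ := e.ind_spec (iso_of_AutF hf.le hb)
  exact ind_eq (e.hom.mono hf.le') ((supp_of_AutF h1).conj (e.iso_of_ind hf hf').maps)
    ((hf'.mul h2 fun _ => (maps_of_AutF hb).mem).mul (hf'.inv hf.maps) fun _ => hf.maps.inv_mem)

theorem Epi.coprime_ind (e : Epi F θ F') (hV : V ≤ S) (hb : b ∈ AutF F V) (hp : (orderOf b).Coprime p) :
    (orderOf (ind θ V b)).Coprime p := hp.coprime_dvd_left ((e.homOn_ind hV).orderOf_dvd hb)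

omit [Finite S] in
theorem Epi.mem_C1 (e : Epi F θ F') (hV : V ≤ S) {x : Ω} (hx : x ∈ S) (h : ∀ y ∈ V, y⁻¹ * (x * y * x⁻¹) ∈ e.hom.pre ⊥) :
    θ x ∈ centralizer (img θ V : Set Ω') := mem_centralizer_iff_cp.2 fun y hy => by
  obtain ⟨y, hy', rfl⟩ := (e.hom.mono hV).mem_img.1 hy
  rw [← e.hom.map_conj hx (hV hy'), eq_comm, e.hom.eq_iff (hV hy') (S.mul_mem (S.mul_mem hx (hV hy')) (S.inv_mem hx))]
  exact h y hy'

omit [Finite S] in
theorem Epi.mem_normalizer (e : Epi F θ F') (hV : V ≤ S) {x : Ω} (hx : x ∈ normalizerIn S V) : θ x ∈ normalizer (img θ V : Set Ω') :=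
  e.hom.le_normalizer_img (NS_le S V) hV (NS_le_normalizer S V) (mem_img_of_mem θ hx)

variable [Fact p.Prime]

theorem Epi.pact_C1 (e : Epi F θ F') (hS : IsPGroup p S) (hZ : F.IsCentral (e.hom.pre ⊥)) (hT : F'.StronglyClosed T') (hW : W ≤ S)
    (hZW : e.hom.pre ⊥ ≤ W) : PAct p (AutF F W) (AutK (e.hom.pre (centralizerIn T' (img θ (W ⊓ e.hom.pre T')))) W) W := by
  haveI := finite_of_le hW
  have hT' := e.sc_pre hT
  refine pact_top hS hW hT' (e.hom.pre_mono (Fus.CS_le _ _)) (PAct.step (B := e.hom.pre ⊥) (PAct.of_all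
    (AutK_le_AutF F (e.hom.pre_le _) hW) fun n hn => ⟨0, fun b hb => by
      simpa using central_fix hZ (iso_of_AutF hW hn).mor (hZW hb) hb⟩) (AutF_le_AutOn F W) (hS.to_le hW)
    (le_inf hZW (e.hom.ker_le_pre _)) inf_le_left (fun n hn => sc_maps e.sc_ker (iso_of_AutF hW hn).mor hZW)
    (AutF_le_Stab_inf hW hT') fun x hx c hc => ?_)
  obtain ⟨t, ht, htn, rfl⟩ := mem_AutK.1 hx
  rw [cr_apply htn hc.1, ← e.hom.eq_iff (hW hc.1) (S.mul_mem (S.mul_mem ht.1 (hW hc.1)) (S.inv_mem ht.1)),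
    e.hom.map_conj ht.1 (hW hc.1), mem_centralizer_iff_cp.1 ht.2.2 _ (mem_img_of_mem θ hc)]

omit [Finite S] [Fact p.Prime] in
theorem Epi.le_normalizer_C1 (e : Epi F θ F') (hT : F'.StronglyClosed T') (hW : W ≤ S) :
    W ≤ normalizer (e.hom.pre (centralizerIn T' (img θ (W ⊓ e.hom.pre T'))) : Set Ω) :=
  e.hom.le_normalizer_pre hW (img_le_iff.2 fun x hx => mem_normalizer_inf (sc_le_normalizer hT (e.mem (hW hx)))
    (normalizer_le_normalizer_centralizer _ (e.mem_normalizer (inf_le_left.trans hW) ⟨hW hx,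
      mem_normalizer_inf (le_normalizer hx) (sc_le_normalizer (e.sc_pre hT) (hW hx))⟩)))

theorem Epi.centric_of_fn (e : Epi F θ F') (h : WN E' F' p) (hQ : F.IsFullyNormalized Q) (hZ : e.hom.pre ⊥ ≤ Q) (hT : Q ≤ e.hom.pre T')
    (hC : e.hom.pre (centralizerIn T' (img θ Q)) ≤ Q) : E'.IsCentric (img θ Q) := by
  haveI := e.finite
  haveI := h.finite
  refine h.satE.centric_of_fc (h.satF.fc_sub h.sc h.sub ((e.hom.le_pre_iff hQ.1).1 hT)
    (h.satF.fc_of_fn ((e.fn_img_iff hQ.1 hZ).2 hQ))) ?_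
  rw [← e.img_pre ((Fus.CS_le _ _).trans h.le : centralizerIn T' (img θ Q) ≤ S')]
  exact img_mono θ hC

omit [Fact p.Prime] in
theorem Epi.centric_iso (e : Epi F θ F') (h : Inv E' F') (hc : E'.IsCentric (img θ V)) (hf : Iso F f V W) : E'.IsCentric (img θ W) :=
  haveI := e.finite
  let ⟨_, h1, _⟩ := e.iso hf; h.centric_iso hc h1

omit [Finite S] in
theorem exists_conj_mem [Finite V] (hs : SylIn p (AutK S V) (AutF F V)) (hb : b ∈ AutF F V)
    (hpb : (orderOf b).Coprime p) (hpa : (orderOf a).Coprime p) {M : Subgroup (Perm Ω)} (hn : b ∈ normalizer (M : Set (Perm Ω)))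
    (h1 : b⁻¹ * a ∈ pCoreOf p (AutF F V)) (h2 : b⁻¹ * a ∈ M) :
    ∃ e ∈ normalizerIn S V, cr V e ∈ M ∧ a = cr V e * b * (cr V e)⁻¹ := by
  haveI := finite_AutF F V
  haveI : Finite (pCoreOf p (AutF F V) ⊓ M : Subgroup _) := finite_of_le (inf_le_left.trans (pCoreOf_le p _))
  obtain ⟨d, hd, e⟩ := exists_conj_of_coprime' (D := pCoreOf p (AutF F V) ⊓ M) ((isPGroup_pCoreOf p _).to_le inf_le_left) hpb hpa
    (mem_normalizer_inf (le_normalizer_pCoreOf p _ hb) hn) ⟨h1, h2⟩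
  obtain ⟨s, k1, k2, rfl⟩ := mem_AutK.1 (hs.pCoreOf_le hd.1)
  exact ⟨s, ⟨k1, k2⟩, hd.2, e⟩

theorem Epi.pxq (e : Epi F θ F') (hF : Sat F p) (hZ : F.IsCentral (e.hom.pre ⊥)) (h : NI E' F' p) (hV : F.IsFullyNormalized V)
    (hZV : e.hom.pre ⊥ ≤ V) (hc : E'.IsCentric (img θ V)) (hb : b ∈ e.BP E' V) (hp : (orderOf b).Coprime p) (h1 : img θ V ≤ R')
    (h2 : centralizerIn S' (img θ V) ≤ R') (h3 : R' ≤ normalizerIn S' (img θ V)) (h4 : R' ≤ Ext R' (img θ V) (ind θ V b)) :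
    ∃ g ∈ AutF F (e.hom.pre R'), (orderOf g).Coprime p ∧ (∀ x ∈ V, g x = b x) ∧ CU (e.hom.pre T') (e.hom.pre R') g := by
  haveI := e.finite
  haveI := finite_of_le hV.1
  obtain ⟨hb1, hb2⟩ := (e.mem_BP hV.1).1 hb
  have hi := iso_of_AutF hV.1 hb1
  have hR := h3.trans (NS_le _ _)
  have hi' := iso_of_AutF hc.1 hb2
  obtain ⟨g', k1, k2, k3, k4⟩ := h.ext_pprime hc hb2 (e.coprime_ind hV.1 hb1 hp) h1 h3
    (h.toWN.cond_of_Ext ((e.fn_img_iff hV.1 hZV).2 hV) hi'.mor hi'.maps hR h2 h4)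
  obtain ⟨g, l1, l2, l3⟩ := e.lift_pprime (e.hom.pre_le R') (e.hom.ker_le_pre _) ((e.img_pre hR).symm ▸ k1) k2
  have hVR : V ≤ e.hom.pre R' := (e.hom.le_pre_iff hV.1).2 h1
  have hgi := iso_of_AutF (e.hom.pre_le R') l1
  have key : ∀ x ∈ V, (b x)⁻¹ * g x ∈ e.hom.pre ⊥ := fun x hx => by
    rw [← e.hom.eq_iff (hi.mor.mem_S hx) (hgi.mor.mem_S (hVR hx)), ← l3 x (hVR hx), k3 _ (mem_img_of_mem θ hx), (e.ind_spec hi).2 x hx]
  have hgV : Maps g V V := (hgi.homOn.mono hVR).maps_self fun x hx => by simpa using V.mul_mem (hi.mem hx) (hZV (key x hx))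
  have hc' := Iso.res_mem ⟨hgi.mor.mono hVR, hgV⟩
  have m1 := mul_mem (inv_mem hb1) hc'
  have m2 : CU (e.hom.pre ⊥) V (b⁻¹ * res V g) := fun x hx => by
    have := (sc_maps e.sc_ker hi.mor hZV).inv_mem (key x hx)
    rwa [hi.symm.homOn.map_inv_mul (hi.mem hx) (hgV.mem hx), perm_inv_apply, ← res_apply hgV hx] at this
  obtain ⟨s, hs, hs', e'⟩ := exists_conj_mem (hF.syl hV) hb1 hp (coprime_res hgV l2) (AutF_le_normalizer_Tr e.sc_ker hV.1 hb1)
    (mem_pCore_of_stab hF.pg e.sc_ker hV.1 m1 (fun x hx => central_fix hZ (iso_of_AutF hV.1 m1).mor hx.1 hx.2) m2)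
    (m2.mem_Tr (homOn_of_AutF m1) (maps_of_AutF m1))
  refine conj_back_ext (e.hom.pre_le R') (e.sc_pre h.sc) l1 l2 (fun x hx => ⟨S.mul_mem (S.inv_mem hx.1) (hgi.mor.mem_S hx), ?_⟩) hVR hgV
    ⟨hs.1, h2 ⟨e.mem hs.1, e.mem_C1 hV.1 hs.1 fun y hy => cr_apply hs.2 hy ▸ Tr.cu hs' y hy⟩⟩ hs.2 e'
  rw [e.hom.map_inv_mul hx.1 (hgi.mor.mem_S hx), ← l3 x hx]
  exact k4 _ hx.2

theorem Epi.tg (e : Epi F θ F') (hF : Sat F p) (hZ : F.IsCentral (e.hom.pre ⊥)) (h : NI E' F' p) :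
    TG F p (e.hom.pre T') (e.hom.pre T') (fun V => V ≤ e.hom.pre T' ∧ e.hom.pre ⊥ ≤ V ∧ E'.IsCentric (img θ V)) (e.BP E') where
  sat := hF
  scT := e.sc_pre h.sc
  scS := e.sc_pre h.sc
  le := le_rfl
  hle k := k.1
  up k h1 h2 :=
    haveI := e.finite
    haveI := h.finite
    have h3 := (le_inf le_rfl k.1).trans h1
    ⟨h2, k.2.1.trans h3, centric_mono k.2.2 (img_mono θ h3) ((e.hom.le_pre_iff (h2.trans (e.hom.pre_le _))).1 h2)⟩
  iso k hf := ⟨(closed_le (e.sc_pre h.sc)).inv hf k.1, ((sc_maps e.sc_ker hf.mor k.2.1).le_iff hf.maps).2 k.2.1,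
    e.centric_iso h.inv k.2.2 hf⟩
  fcr := fun {P} hc hr => by
    have hT := e.sc_pre h.sc
    have hZP : ∀ {P}, F.IsCentric P → F.IsRadical p P → e.hom.pre ⊥ ≤ P ⊓ e.hom.pre T' := fun hc hr =>
      le_inf (normal_le_cr hF.pg (normal_of_central hZ) hc hr) (e.hom.ker_le_pre _)
    refine ⟨inf_le_right, hZP hc hr, ?_⟩
    obtain ⟨k, Q, h1, h2, h3⟩ := hF.exists_NS_mor (inf_le_left.trans hc.1 : P ⊓ e.hom.pre T' ≤ S)
    have h4 := (h2.mono fun x (hx : x ∈ P) => ⟨hc.1 hx, mem_normalizer_inf (le_normalizer hx) (sc_le_normalizer hT (hc.1 hx))⟩).iso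
    obtain rfl := h3.unique (sc_maps_inf hT h4)
    have k1 := Fus.centric_iso hc h4
    have k2 := radical_iso hr h4
    exact e.centric_iso h.inv (e.centric_of_fn h.toWN h1 (hZP k1 k2) inf_le_right (le_inf (le_of_pact hF.pg k1 k2 (e.hom.pre_le _)
      (e.le_normalizer_C1 h.sc k1.1) (e.pact_C1 hF.pg hZ h.sc k1.1 ((hZP k1 k2).trans inf_le_left))) (e.hom.pre_mono (Fus.CS_le _ _))))
      (Iso.symm ⟨h4.mor.mono inf_le_left, h3⟩)
  star := fun {V} hV hc => by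
    have hVS := hV.trans (e.hom.pre_le _)
    by_cases hZV : e.hom.pre ⊥ ≤ V
    · obtain ⟨f, W, hf, hn⟩ := exists_fn F hVS
      have hW := (closed_le (e.sc_pre h.sc)).inv hf hV
      have hZW := ((sc_maps e.sc_ker hf.mor hZV).le_iff hf.maps).2 hZV
      obtain ⟨t, ht, k1, k2⟩ := exists_mem_normalizer_not_mem hF.pg hn.1 (e.hom.pre_le _) (e.le_normalizer_C1 h.sc hn.1) fun k =>
        hc ⟨hV, hZV, e.centric_iso h.inv (e.centric_of_fn h.toWN hn hZW hW (by rwa [inf_eq_left.2 hW] at k)) hf.symm⟩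
      exact ⟨f, W, hf, t, ⟨ht.1, ht.2.1⟩, k1, k2, (e.pact_C1 hF.pg hZ h.sc hn.1 hZW).le_pCore (AutF_le_AutOn F W) (cr_mem_AutK ht k2)⟩
    · obtain ⟨t, h1, h2⟩ := SetLike.not_le_iff_exists.1 hZV
      have h3 := centralizer_le hVS (F.center_le_centralizer (le_center hZ h1))
      exact ⟨1, V, iso_one F hVS, t, e.hom.ker_le_pre _ h1, h2, centralizer_le_normalizer _ h3,
        (cr_eq_one_iff (centralizer_le_normalizer _ h3)).2 h3 ▸ one_mem _⟩
  Ble k _ hb := ((e.mem_BP (k.1.trans (e.hom.pre_le _))).1 hb).1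
  conj k hf hb := by
    obtain ⟨h1, h2⟩ := (e.mem_BP hf.le).1 hb
    obtain ⟨f', h3, h4⟩ := e.iso hf
    exact (e.mem_BP hf.le').2 ⟨hf.conj_mem h1, e.ind_conj hf h4 h1 ▸ h.inv.conj_AutF h3 k.2.2.1 h2⟩
  cu k hb :=
    have hV := k.1.trans (e.hom.pre_le _)
    cu_of_sc (e.sc_pre h.sc) (iso_of_AutF hV ((e.mem_BP hV).1 hb).1).mor le_rfl k.1
  inn k c hc := by
    have hV := k.1.trans (e.hom.pre_le _)
    obtain ⟨t, ht, htn, rfl⟩ := mem_AutK.1 hc
    exact (e.mem_BP hV).2 ⟨cr_mem_AutF F hV ⟨ht.1, htn⟩, by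
      rw [ind_cr e.hom hV ⟨ht.1, htn⟩]; exact cr_mem_AutF _ k.2.2.1 ⟨ht.2, e.mem_normalizer hV ⟨ht.1, htn⟩⟩⟩
  res := fun {V W b} k _ h1 hb hm => by
    have hV := k.1.trans (e.hom.pre_le _)
    obtain ⟨h2, h3⟩ := (e.mem_BP hV).1 hb
    have hi := iso_of_AutF hV h2
    have h4 := (e.ind_spec hi).2.mono h1
    have hW := e.hom.mono (h1.trans hV)
    refine (e.mem_BP (h1.trans hV)).2 ⟨Iso.res_mem ⟨hi.mor.mono h1, hm⟩, ?_⟩
    rw [ind_eq_res hW (maps_res W b) fun x hx => (h4 x hx).trans (by rw [res_apply hm hx])]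
    exact Iso.res_mem ⟨(iso_of_AutF k.2.2.1 h3).mor.mono (img_mono θ h1), h4.maps hW hW hm⟩
  l1 := fun {V b R u} k h1 _ hb hp hR hn hu => by
    haveI := e.finite
    have hRA : R ≤ AutF F V := hR.trans (inf_le_left.trans (AutK_le_AutF F le_rfl h1.1))
    obtain ⟨hb1, hb2⟩ := (e.mem_BP h1.1).1 hb
    have hR' : img (ind θ V) R ≤ AutK S' (img θ V) := e.img_AutK h1.1 k.2.1 ▸ img_mono _ (hR.trans inf_le_left)
    have hn' := (e.homOn_ind h1.1).le_normalizer_img (zpowers_le.2 hb1) hRA (zpowers_le.2 hn) (mem_img_of_mem _ (mem_zpowers b))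
    have hi' := iso_of_AutF k.2.2.1 hb2
    set X' := NK S' (img θ V) (img (ind θ V) R) ⊔ img θ V
    have hX' : X' ≤ normalizerIn S' (img θ V) := sup_le (NK_le_NS _ _ _) (le_NS (e.img_le h1.1))
    have hE : X' ≤ Ext X' (img θ V) (ind θ V b) := by
      refine sup_le (fun x hx => ?_) fun x hx => mem_Ext.2 ⟨⟨mem_sup_right hx, le_normalizer hx⟩, _, mem_sup_right (hi'.mem hx),
        fun z hz => hi'.homOn.map_conj hx hz⟩
      have k1 := conj_mem_of_mem_normalizer hn' hx.2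
      obtain ⟨y, hy, hyn, e'⟩ := mem_AutK.1 (hR' k1)
      exact (mem_Ext_iff hi'.maps).2 ⟨⟨mem_sup_left hx, hx.1.2⟩, e' ▸ cr_mem_AutK (mem_sup_left ⟨⟨hy, hyn⟩, e' ▸ k1⟩) hyn⟩
    obtain ⟨g, k1, -, k2, k3⟩ := e.pxq hF hZ h h1 k.2.1 k.2.2 hb hp le_sup_right ((CS_le_NK _ _ _).trans le_sup_left) hX' hE
    obtain ⟨x, hx, hxn, rfl⟩ := mem_AutK.1 (hR hu).1
    exact l1_of_ext (homOn_of_AutF k1) k3 ((e.hom.le_pre_iff h1.1).2 le_sup_right) (maps_of_AutF hb1) k2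
      ⟨hx, mem_sup_left ⟨⟨e.mem hx, e.mem_normalizer h1.1 ⟨hx, hxn⟩⟩, ind_cr e.hom h1.1 ⟨hx, hxn⟩ ▸ mem_img_of_mem _ hu⟩⟩ hxn
  x4 := fun {V b X} k h1 _ hb hp hVX hX hx => by
    haveI := e.finite
    have hT := e.sc_pre h.sc
    obtain ⟨hb1, hb2⟩ := (e.mem_BP h1.1).1 hb
    have hXT := hX.trans (NS_le _ _)
    have hXS := hXT.trans hT.1
    obtain ⟨g, k1, k2, k3⟩ := hF.ni_refl.toWN.ext_rec hT hT.1 h1 (fun t ht => e.hom.mem_of_mem_img h1.1 k.2.1 ht.1.1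
      (centric_CS_le k.2.2 ⟨ht.1.2, e.mem_C1 h1.1 ht.1.1 fun y hy => by simp [mem_centralizer_iff_cp.1 ht.2 y hy]⟩)) hb1 hp hVX hX hx
    obtain ⟨l1, l2⟩ := e.ind_spec (iso_of_AutF hXS k1)
    have l3 : ∀ y ∈ img θ V, ind θ X g y = ind θ V b y := (e.ind_spec (iso_of_AutF h1.1 hb1)).2.eq_on (e.hom.mono h1.1)
      fun y hy => (l2 y (hVX hy)).trans (by rw [k3 y hy])
    have hX' := (e.hom.le_pre_iff hXS).1 hXT
    exact ⟨g, (e.mem_BP hXS).2 ⟨k1, (mem_AutF hX').2 ⟨h.toWN.mor_of_pprime hX' (iso_of_AutF (e.img_le hXS) l1) (e.coprime_ind hXS k1 k2) _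
      (img_mono θ hVX) k.2.2 ((maps_of_AutF hb2).congr l3) ((iso_of_AutF k.2.2.1 hb2).mor.congr l3), supp_of_AutF l1⟩⟩, k3⟩

omit [Fact p.Prime] in
theorem Epi.closed_pre (e : Epi F θ F') (E' : FusionSystem T') :
    Closed F fun P f => ∃ f' : Perm Ω', Mor E' (img θ P) f' ∧ Ind θ P f f' where
  congr := fun ⟨f', h1, h2⟩ k => ⟨f', h1, fun x hx => (h2 x hx).trans (by rw [k x hx])⟩
  mono := fun ⟨f', h1, h2⟩ k => ⟨f', h1.mono (img_mono θ k), h2.mono k⟩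
  mul := fun i _ ⟨f', h1, h2⟩ ⟨g', h3, h4⟩ => ⟨g' * f', h3.mul h1 fun _ => (e.iso_of_ind i h2).mem, h4.mul h2 fun _ => i.mem⟩
  inv := fun i ⟨f', h1, h2⟩ => ⟨f'⁻¹, h1.inv (e.iso_of_ind i h2).maps, h2.inv i.maps⟩

/-- The preimage of a normal subsystem under a central quotient. -/
theorem Epi.exists_pre (e : Epi F θ F') (hF : Sat F p) (hZ : F.IsCentral (e.hom.pre ⊥)) (h : NI E' F' p) :
    ∃ D : FusionSystem (e.hom.pre T'), NI D F p ∧ Epi D θ E' := by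
  have k := e.tg hF hZ h
  haveI := k.finite
  haveI := e.finite
  haveI := h.finite
  have w := k.wn
  have hT := w.le
  have hi := e.img_pre h.le
  refine ⟨k.sys, w.ni_of_pprime fun a ha hp => ?_, ?_⟩
  · have hb := k.mem_B k.top ha hp
    have hb2 := iso_of_AutF k.top.2.2.1 ((e.mem_BP hT).1 hb).2
    obtain ⟨g, k1, -, k2, k3⟩ := e.pxq hF hZ h (fn_of_sc w.sc) k.top.2.1 k.top.2.2 hb hp le_sup_left le_sup_right
      (sup_CS_le_NS (e.img_le hT)) (sup_le (fun x hx => mem_Ext.2 ⟨⟨mem_sup_left hx, le_normalizer hx⟩, _, mem_sup_left (hb2.mem hx),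
        fun z hz => hb2.homOn.map_conj hx hz⟩) fun x hx => CS_le_Ext _ _ _ ⟨mem_sup_right hx, hx.2⟩)
    have hle : centralizerIn S (e.hom.pre T') ≤ e.hom.pre (img θ (e.hom.pre T') ⊔ centralizerIn S' (img θ (e.hom.pre T'))) :=
      fun x hx => ⟨hx.1, mem_sup_right ⟨e.mem hx.1, e.mem_C1 hT hx.1 fun y hy => by simp [mem_centralizer_iff_cp.1 hx.2 y hy]⟩⟩
    exact ⟨g, (iso_of_AutF (e.hom.pre_le _) k1).mor.mono (sup_le ((e.hom.le_pre_iff hT).2 le_sup_left) hle), k2, k3.mono hle⟩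
  have hθ := e.hom.mono hT
  have hk : hθ.pre ⊥ = e.hom.pre ⊥ := le_antisymm (fun x hx => ⟨hT hx.1, hx.2⟩) fun x hx => ⟨e.hom.ker_le_pre _ hx, hx.2⟩
  obtain ⟨D', d⟩ := exists_epi w.satE hθ (by rw [hk]; exact sc_sub' w.sub e.sc_ker (e.hom.ker_le_pre _)) hi
  refine (sub_antisymm (sub_iff_perm.2 fun P' f' hf' => ?_) (sub_iff_perm.2 (h.satE.alperin_p' (closed_mor _)
    (fun t ht => mor_cp _ le_rfl ht) fun P' hP' a' ha' hp => ?_)) : D' = E') ▸ d
  · obtain ⟨f, h1, h2⟩ := d.lift hf'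
    obtain ⟨g', h3, h4⟩ := k.ind ((e.closed_pre E').sub k.sub) (fun s hs => ⟨cp (θ s), mor_cp _ hi.le hs.2, ind_cp e.hom hT hs.1⟩)
      (fun V b hV hb _ => ⟨_, (iso_of_AutF hV.2.2.1 ((e.mem_BP (k.hle' hV)).1 hb).2).mor, (e.ind_spec (k.biso hV hb)).2⟩) h1
    exact d.img_pre hf'.le ▸ h3.congr (h4.eq_on (hθ.mono h1.le) h2)
  · obtain ⟨h1, h2, -⟩ := h.satE.base_fcr hP'
    have h3 := e.img_pre (h1.1.trans h.le)
    obtain ⟨a, k1, k2, k3⟩ := e.lift_pprime (e.hom.pre_le P') (e.hom.ker_le_pre _) (h3.symm ▸ AutF_mono h.sub _ ha') hp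
    have := d.mor_of_ind (k.mor_gen ⟨e.hom.pre_mono h1.1, e.hom.ker_le_pre _, h3.symm ▸ h2⟩ ((e.mem_BP (e.hom.pre_le P')).2 ⟨k1, by
      rw [ind_eq (e.hom.mono (e.hom.pre_le P')) (h3.symm ▸ supp_of_AutF ha') k3, h3]; exact ha'⟩) k2) k3
    rwa [h3] at this

theorem WN.core_le {E : FusionSystem T} (h : WN E F p) : E.core ≤ F.core := le_core (h.inv.normal_core h.satF)

/-- A non-constrained system all of whose proper normal subsystems are constrained is quasisimple. -/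
theorem Sat.qs_of_min (hF : Sat F p) (hc : ¬ F.IsConstrained p)
    (h : ∀ (T : Subgroup Ω) (E : FusionSystem T), NI E F p → ¬ F.IsSubsystemOf E → E.IsConstrained p) : F.Quasisimple p := by
  have h1 : F.hyperfocalSubgroup p = S := by
    obtain ⟨D, hD⟩ := hF.exists_pres
    by_contra k
    exact hc ((hD.ni hF).toWN.constrained_of_hyp le_rfl (h _ D (hD.ni hF) fun e => k (le_antisymm (hyp_le F p) (sub_le e))))
  have h2 : F.core ≤ F.center := by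
    obtain ⟨D, hD, -⟩ := exists_centralizerSystem F (core_le F)
    have hn := hD.ni_bot hF (normal_core F)
    by_contra k
    haveI := hn.finite
    have k1 := hn.toWN.core_le
    refine hc (constrained_iff.2 ⟨hF.sat, fun x hx => k1 ((constrained_iff.1 (h _ D hn fun e => k (le_center
      (central_iff_nMor.2 ⟨core_le F, (hD.cz_of_sub e).mor⟩)))).2 ⟨hx, centralizer_le k1 hx.2⟩)⟩)
  obtain ⟨Ω', _, S', _, θ, E, e, hk, hE⟩ := hF.exists_epi' (sc_of_normal (normal_of_central (central_center F)))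
  refine qs_of_epi hF h1 e hk ((simple_iff hE.pg).2 ⟨hE.sat, fun k => hc (constrained_iff.2 ⟨hF.sat, fun x hx =>
    center_le_core F (hk ▸ ⟨hx.1, k ▸ e.mem hx.1⟩)⟩), fun T' E' h' => ?_⟩)
  obtain ⟨D, k1, k2⟩ := e.exists_pre hF (hk ▸ central_center F) h'
  by_cases k : F.IsSubsystemOf D
  · exact Or.inr (k2.sub_of_sub e k)
  · haveI := k1.finite
    refine Or.inl (eq_bot_iff.2 fun y hy => ?_)
    obtain ⟨x, hx, rfl⟩ := k2.exists_eq hy
    have k3 := k1.toWN.core_le.trans h2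
    exact (hk.ge (k3 ((constrained_iff.1 (h _ D k1 k)).2 ⟨hx, mem_centralizer_iff.2 fun z hz =>
      (F.center_le_centralizer (k3 hz) x hx.1).symm⟩))).2

omit [Finite S] [Fact p.Prime] in
theorem component_of_sn {E : FusionSystem T} {C : FusionSystem U} (hC : C.IsComponentIn E p) (h : E.IsSubnormalIn F p) :
    C.IsComponentIn F p := ⟨sn_trans hC.1 h, hC.2⟩

theorem Sat.exists_component (hF : Sat F p) (hc : ¬ F.IsConstrained p) : ∃ (T : Subgroup Ω) (C : FusionSystem T), C.IsComponentIn F p := by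
  refine sub_induction (C := fun {S} F => Sat F p → ¬ F.IsConstrained p → ∃ (T : Subgroup Ω) (C : FusionSystem T), C.IsComponentIn F p)
    (fun S _ F ih hF hc => ?_) F hF hc
  by_cases h : ∀ (T : Subgroup Ω) (E : FusionSystem T), NI E F p → ¬ F.IsSubsystemOf E → E.IsConstrained p
  · exact ⟨S, F, .refl F p, hF.qs_of_min hc h⟩
  push Not at h
  obtain ⟨T, E, h1, h2, h3⟩ := h
  haveI := h1.finite
  obtain ⟨U, C, hC⟩ := ih T E h1.sub h2 h1.satE h3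
  exact ⟨U, C, component_of_sn hC h1.sn⟩

theorem qs_not_constrained (hS : IsPGroup p S) (h : F.Quasisimple p) : ¬ F.IsConstrained p := fun hc => by
  have h1 := qs_normal_le hS h (normal_core F)
  refine qs_not_abelian hS h (commutator_eq_bot_of_comm fun x hx y hy => ?_)
  exact F.center_le_centralizer (h1 ((constrained_iff.1 hc).2 ⟨hy, mem_centralizer_iff.2 fun z hz =>
    (F.center_le_centralizer (h1 hz) y hy).symm⟩)) x hx

theorem Sat.constrained_iff (hF : Sat F p) : F.IsConstrained p ↔ ¬ ∃ (T : Subgroup Ω) (C : FusionSystem T), C.IsComponentIn F p :=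
  ⟨fun hc ⟨_, _, hC⟩ =>
    haveI := finite_of_le (sub_le (sn_sub hC.1))
    qs_not_constrained (hF.pg.to_le (sub_le (sn_sub hC.1))) hC.2 (sn_constrained hC.1 hF.pg hc),
    fun h => by_contra fun hc => h (hF.exists_component hc)⟩

end Cfsg.Agent.Fus
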