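import Cfsg.Agent.Fus.Ppr2

/-! Constrained systems with `p`-solvable automizers. -/

set_option autoImplicit false

namespace Cfsg.Agent.Fus

open Subgroup Cfsg Cfsg.Agent.Loc Equiv
open Cfsg.FusionSystem (normalizerIn centralizerIn)
open scoped commutatorElement

section grp
variable {G : Type*} [Group G] {p : ℕ} [Fact p.Prime] {A N : Subgroup G}

theorem eq_bot_of_pSolv (h : IsPSolvable p A) (h1 : OpA p A = A) (h2 : OppA p A = A) : A = ⊥ := by
  obtain ⟨n, H, h0, hn, -, hN, hi⟩ := h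
  have key : ∀ i, H i = ⊤ := fun i => by
    induction i using Fin.reverseInduction with
    | last => exact hn
    | cast i ih =>
      have := hN i.castSucc
      have hi := hi i
      rw [ih, relIndex_top_right] at hi
      refine eq_top_iff.2 fun x _ => ?_
      suffices A ≤ (H i.castSucc).map A.subtype by
        obtain ⟨y, hy, e⟩ := this x.2
        exact (Subtype.ext e : y = x) ▸ hy
      rcases hi with ⟨m, hm⟩ | hi
      · refine h1.ge.trans (OpA_le_iff.2 fun a ha hc => mem_of_pow_mem hc (k := m) (by simp) ?_)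
        exact ⟨_, hm ▸ (H i.castSucc).pow_index_mem ⟨a, ha⟩, by simp⟩
      · refine h2.ge.trans (OppA_le_iff.2 fun a ha ⟨k, hk⟩ => mem_of_pow_mem hi (k := k) ?_ (by simp [hk]))
        exact ⟨_, (H i.castSucc).pow_index_mem ⟨a, ha⟩, by simp⟩
  refine eq_bot_iff.2 fun x hx => ?_
  have : (⟨x, hx⟩ : A) ∈ H 0 := key 0 ▸ mem_top _
  rw [h0] at this
  exact congrArg Subtype.val (mem_bot.1 this)

theorem isPGroup_of_pprime [Finite A] (h : ∀ a ∈ A, (orderOf a).Coprime p → a = 1) : IsPGroup p A :=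
  isPGroup_of_forall_pow fun _ ha => by
    obtain ⟨u, v, -, hv, hu', hv', e⟩ := exists_pparts (p := p) ha
    rwa [e, h v (zpowers_le.2 ha hv) hv', mul_one]

theorem isPGroup_quot_of_OpA [Finite A] [(N.subgroupOf A).Normal] (h : OpA p A ≤ N) : IsPGroup p (A ⧸ N.subgroupOf A) := fun x => by
  obtain ⟨a, rfl⟩ := QuotientGroup.mk_surjective x
  obtain ⟨u, v, hu, hv, ⟨k, hk⟩, hv', e⟩ := exists_pparts (p := p) (H := ⊤) (mem_top a)
  have : (v : A ⧸ N.subgroupOf A) = 1 := (QuotientGroup.eq_one_iff v).2 (h (mem_OpA v.2 (by simpa using hv')))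
  exact ⟨k, by rw [e, QuotientGroup.mk_mul, this, mul_one, ← QuotientGroup.mk_pow, hk]; rfl⟩

theorem coprime_quot_of_OppA [Finite A] [(N.subgroupOf A).Normal] (h : OppA p A ≤ N) : (Nat.card (A ⧸ N.subgroupOf A)).Coprime p := by
  rw [Nat.coprime_comm, Nat.Prime.coprime_iff_not_dvd Fact.out]
  intro hd
  obtain ⟨x, hx⟩ := exists_prime_orderOf_dvd_card' p hd
  obtain ⟨a, rfl⟩ := QuotientGroup.mk_surjective x
  obtain ⟨u, v, hu, hv, ⟨k, hk⟩, hv', e⟩ := exists_pparts (p := p) (H := ⊤) (mem_top a)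
  have h1 : (u : A ⧸ N.subgroupOf A) = 1 := (QuotientGroup.eq_one_iff u).2 (h (mem_OppA u.2 ⟨k, by simpa using congrArg Subtype.val hk⟩))
  rw [e, QuotientGroup.mk_mul, h1, one_mul] at hx
  have := orderOf_map_dvd (QuotientGroup.mk' (N.subgroupOf A)) v
  exact (Fact.out : p.Prime).one_lt.ne' (Nat.Coprime.eq_one_of_dvd hv'.symm (hx ▸ this))

theorem pSolv_of_OpA [Finite A] (hn : A ≤ normalizer (N : Set G)) (h : OpA p A ≤ N ∨ OppA p A ≤ N) (hs : IsPSolvable p N) :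
    IsPSolvable p A := by
  haveI := normal_subgroupOf_of_le_normalizer hn
  exact PLocal.pSolv_of_normal_of_quotient (N.subgroupOf A) (PLocal.pSolv_subgroupOf hs A)
    (h.elim (fun h => PLocal.pSolv_of_isPGroup (isPGroup_quot_of_OpA h)) fun h => PLocal.pSolv_of_coprime (coprime_quot_of_OppA h))

theorem HomOn.pSolv_of_ker {G' : Type*} [Group G'] {θ : G → G'} [Finite A] (h : HomOn θ A) {B : Subgroup G'} (hB : ∀ a ∈ A, θ a ∈ B)
    (hk : ∀ a ∈ A, (orderOf a).Coprime p → θ a = 1 → a = 1) (hs : IsPSolvable p B) : IsPSolvable p A := by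
  refine PLocal.pSolv_of_ker (h.toHom.codRestrict B fun a => hB a a.2) (PLocal.pSolv_of_isPGroup (isPGroup_of_pprime fun a ha hc => ?_)) hs
  exact Subtype.ext (hk a a.2 (by simpa using hc) (congrArg Subtype.val ha))

theorem HomOn.pSolv_img {G' : Type*} [Group G'] {θ : G → G'} (h : HomOn θ A) (hs : IsPSolvable p A) : IsPSolvable p (img θ A) := by
  rw [h.img_eq_range]
  exact PLocal.pSolv_of_surjective hs _ h.toHom.rangeRestrict_surjective

end grp

variable {Ω : Type*} [Group Ω] {S T U P Q R N V X Y : Subgroup Ω} {p n : ℕ} {F : FusionSystem S} {E : FusionSystem T}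
  {a b f g : Perm Ω} {K : Subgroup (Perm Ω)}

theorem pSolv_autGroup_iff [Fact p.Prime] : IsPSolvable p (F.autGroup P) ↔ IsPSolvable p (AutF F P) :=
  PLocal.pSolv_congr ((F.autGroup P).equivMapOfInjective _ (toPerm_injective _))

variable [Finite S] [Fact p.Prime]

theorem normal_ext_pprime (hQ : F.IsNormal Q) (hP : P ≤ S) (ha : a ∈ AutF F P) (hp : (orderOf a).Coprime p) :
    ∃ b ∈ AutF F (P ⊔ Q), (orderOf b).Coprime p ∧ Maps b Q Q ∧ ∀ x ∈ P, b x = a x := by
  obtain ⟨g, hg, e, hm⟩ := normal_ext hQ (iso_of_AutF hP ha).mor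
  have hi : Iso F g (P ⊔ Q) (P ⊔ Q) := ⟨hg, hg.homOn.maps_sup ((maps_of_AutF ha).congr e) hm⟩
  obtain ⟨b, h1, h2, h3, h4⟩ := hi.exists_pprime le_sup_left hp (maps_of_AutF ha) e (H := Stab Q) (hi.maps.res hm le_sup_right)
  exact ⟨b, h1, h3, h2, h4⟩

theorem Sat.pSolv_of_centric (hF : Sat F p) (hQ : F.IsNormal Q) (hC : centralizerIn S Q ≤ Q) (hs : IsPSolvable p (AutF F Q))
    (hP : P ≤ S) : IsPSolvable p (AutF F P) := by
  have hR : P ⊔ Q ≤ S := sup_le hP hQ.1
  haveI := finite_AutF' F hR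
  have hst : AutF F (P ⊔ Q) ≤ Stab Q := fun a ha => sc_maps (sc_of_normal hQ) (iso_of_AutF hR ha).mor le_sup_right
  have h1 : IsPSolvable p (AutF F (P ⊔ Q)) := ((homOn_res Q).mono hst).pSolv_of_ker
    (fun a ha => Iso.res_mem ⟨(iso_of_AutF hR ha).mor.mono le_sup_right, hst ha⟩) (fun a ha hc e => by
      obtain ⟨z, hz, e'⟩ := hF.aut_fix_centric (centric_of_normal hQ hC) le_sup_right (hR.trans (sc_le_normalizer (sc_of_normal hQ)))
        (iso_of_AutF hR ha) ((res_eq_one_iff (hst ha)).1 e)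
      have hzn : z ∈ Subgroup.normalizer ((P ⊔ Q : Subgroup Ω) : Set Ω) := le_normalizer (mem_sup_right (hC hz))
      exact eq_one_of_pprime_of_pgroup (isPGroup_AutK hF.pg _) ((cr_eq_iff hzn (supp_of_AutF ha)).2 (fun x hx => (e' x hx).symm) ▸
        cr_mem_AutK hz.1 hzn) hc) hs
  refine PLocal.pSolv_of_le (((homOn_res P).mono (inf_le_right : AutF F (P ⊔ Q) ⊓ Stab P ≤ _)).pSolv_img
    (PLocal.pSolv_of_le h1 inf_le_left)) fun a ha => ?_
  obtain ⟨g, hg, e, hm⟩ := normal_ext hQ (iso_of_AutF hP ha).mor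
  have hgm := (maps_of_AutF ha).congr e
  have hi : Iso F g (P ⊔ Q) (P ⊔ Q) := ⟨hg, hg.homOn.maps_sup hgm hm⟩
  rw [← (res_eq_iff hgm (supp_of_AutF ha)).2 e, ← res_res hi.maps hgm le_sup_left]
  exact mem_img_of_mem _ ⟨hi.res_mem, hi.maps.res hgm le_sup_left⟩

omit [Finite S] [Fact p.Prime] in
/-- Constrained with `p`-solvable automizers. -/
def PS (F : FusionSystem S) (p : ℕ) : Prop := F.IsConstrained p ∧ ∀ P ≤ S, IsPSolvable p (AutF F P)

theorem Sat.ps_of (hF : Sat F p) (hQ : F.IsNormal Q) (hC : centralizerIn S Q ≤ Q) (hs : IsPSolvable p (AutF F Q)) : PS F p :=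
  ⟨constrained_iff.2 ⟨hF.sat, (CS_anti S (le_core hQ)).trans (hC.trans (le_core hQ))⟩, fun _ => hF.pSolv_of_centric hQ hC hs⟩

theorem NI.ps (h : NI E F p) (hF : PS F p) : PS E p :=
  ⟨h.constrained hF.1, fun P hP => PLocal.pSolv_of_le (hF.2 P (hP.trans h.le)) (AutF_mono h.sub P)⟩

theorem WN.constrained_S {E : FusionSystem S} (h : WN E F p) (hE : E.IsConstrained p) : F.IsConstrained p :=
  have := le_core (h.inv.normal_core h.satF)
  constrained_iff.2 ⟨h.satF.sat, (CS_anti S this).trans ((constrained_iff.1 hE).2.trans this)⟩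

theorem WN.ps_S {E : FusionSystem S} (h : WN E F p) (hE : PS E p) : PS F p :=
  haveI := finite_AutF' F (core_le E)
  h.satF.ps_of (h.inv.normal_core h.satF) (constrained_iff.1 hE.1).2 (pSolv_of_OpA (h.inv.AutF_normal (core_le E))
    (Or.inr (h.ppr.OppA_le (core_le E))) (hE.2 _ (core_le E)))

theorem fix_of_hyp (hS : IsPGroup p S) (hQ : Q ≤ S) (hP : P ≤ centralizerIn S Q) (hC : centralizerIn (F.hyperfocalSubgroup p) Q ≤ Q)
    (ha : a ∈ AutF F (P ⊔ Q)) (hp : (orderOf a).Coprime p) (h : ∀ x ∈ Q, a x = x) : ∀ x ∈ P ⊔ Q, a x = x := by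
  have hR : P ⊔ Q ≤ normalizerIn S Q := sup_le (hP.trans (CS_le_NS S Q)) (le_NS hQ)
  have hi := iso_of_AutF (hR.trans (NS_le S Q)) ha
  refine fix_of_coprime_of_stab hp (hS.to_le hQ) hi.homOn hi.maps le_sup_right h (CU.sup hi.homOn (hR.trans (NS_le_normalizer S Q))
    (fun x hx => hC ⟨mem_hyp hi.le ha hp (mem_sup_left hx), (centralizer (Q : Set Ω)).mul_mem (inv_mem (hP hx).2)
      (hi.homOn.mem_centralizer le_sup_right ((maps_one Q).congr h) (mem_sup_left hx) (hP hx).2)⟩) fun x hx => by simp [h x hx])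

theorem Sat.normal_CS (hF : Sat F p) (hQ : F.IsNormal Q) (hC : centralizerIn (F.hyperfocalSubgroup p) Q ≤ Q) :
    F.IsNormal (centralizerIn S Q) := by
  obtain ⟨D, hD⟩ := exists_isNK F hQ.1 ⊥ (NK_bot S Q).symm
  have h := hD.ni_bot hF hQ
  have e := h.satE.eq_inner fun P hP a ha hp => by
    have hP' := (h.satE.base_fcr hP).1.1
    have hi := iso_of_AutF hP' ha
    obtain ⟨g, h1, h2, h3, h4⟩ := ((hD.mor_iff P a).1 hi.mor).2
    have hg : Iso F g (P ⊔ Q) (P ⊔ Q) := ⟨h1, h1.homOn.maps_sup (hi.maps.congr h2) h3⟩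
    obtain ⟨b, k1, k2, k3, k4⟩ := hg.exists_pprime le_sup_left hp hi.maps h2 (H := KP (P ⊔ Q) Q ⊥)
      (mem_KP.2 ⟨maps_res _ _, hg.maps.res h3 le_sup_right, by rwa [res_res hg.maps h3 le_sup_right]⟩)
    obtain ⟨-, k5, k6⟩ := mem_KP.1 k2
    exact fun x hx => (k4 x hx).symm.trans (fix_of_hyp hF.pg hQ.1 hP' hC k1 k3 ((res_eq_one_iff k5).1 k6) x (mem_sup_left hx))
  exact normal_of_inv_inner hF (e ▸ h.inv)

theorem WN.constrained_of_hyp (h : WN E F p) (hh : F.hyperfocalSubgroup p ≤ T) (hE : E.IsConstrained p) : F.IsConstrained p := by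
  haveI := h.finite
  have hQ := h.inv.normal_core h.satF
  have h1 := le_core (h.satF.normal_CS hQ fun x hx => (constrained_iff.1 hE).2 ⟨hh hx.1, hx.2⟩)
  exact constrained_iff.2 ⟨h.satF.sat, (CS_anti S (le_core hQ)).trans h1⟩

theorem WN.ps_of_ppi (h : WN E F p) (hh : PPI E F p) (hE : PS E p) : PS F p := by
  haveI := h.finite
  have hQ := h.inv.normal_core h.satF
  have hC : centralizerIn (F.hyperfocalSubgroup p) E.core ≤ E.core := fun x hx => (constrained_iff.1 hE.1).2 ⟨hh.hyp hx.1, hx.2⟩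
  have hR := normal_sup (h.satF.normal_CS hQ hC) hQ
  haveI := finite_AutF' F hQ.1
  haveI := finite_AutF' F hR.1
  have hst : AutF F (centralizerIn S E.core ⊔ E.core) ≤ Stab E.core := fun a ha =>
    sc_maps (sc_of_normal hQ) (iso_of_AutF hR.1 ha).mor le_sup_right
  exact h.satF.ps_of hR ((CS_anti S le_sup_right).trans le_sup_left) (((homOn_res E.core).mono hst).pSolv_of_ker
    (fun a ha => Iso.res_mem ⟨(iso_of_AutF hR.1 ha).mor.mono le_sup_right, hst ha⟩)
    (fun a ha hc e => (supp_of_AutF ha).eq_one (fix_of_hyp h.satF.pg hQ.1 le_rfl hC ha hc ((res_eq_one_iff (hst ha)).1 e)))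
    (pSolv_of_OpA (h.inv.AutF_normal (core_le E)) (Or.inl (hh.OpA_le (core_le E))) (hE.2 _ (core_le E))))

omit [Finite S] [Fact p.Prime] in
theorem closed_res (hQ : F.StronglyClosed Q) [Finite S] (K : Subgroup (Perm Ω)) : Closed F fun P f => Q ≤ P → res Q f ∈ K where
  congr {P f g} h e k := by
    by_cases hm : Maps f Q Q
    · exact res_congr hm (fun x hx => e x (k hx)) ▸ h k
    · rw [res, dif_neg fun hm' => hm (Maps.congr hm' fun x hx => (e x (k hx)).symm)]; exact one_mem _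
  mono h e k := h (k.trans e)
  mul i j h h' k := by
    have m := sc_maps hQ i.mor k
    have k' := (m.le_iff i.maps).2 k
    rw [res_mul (sc_maps hQ j.mor k') m]; exact mul_mem (h' k') (h k)
  inv i h k := by
    have m := (sc_maps hQ i.symm.mor k).symm
    rw [inv_inv] at m
    rw [res_inv m]; exact inv_mem (h ((m.le_iff i.maps).1 k))

theorem res_mem_OppA_of_E0 (hS : IsPGroup p S) (hQ : F.StronglyClosed Q) (hf : Mor (E0 F p) P f) : Q ≤ P → res Q f ∈ OppA p (AutF F Q) :=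
  E0_ind ((closed_res hQ _).sub (E0_sub F p)) (fun _ hs _ => le_OppA (AutK_le_AutF F le_rfl hQ.1) (isPGroup_AutK hS Q)
    (cr_mem_AutK hs (sc_le_normalizer hQ hs))) (fun R hR _ _ ha hp k =>
      have hi := (iso_of_AutF hR.1 ha).mor
      mem_OppA (Iso.res_mem ⟨hi.mono k, sc_maps hQ hi k⟩) (pelt_res (sc_maps hQ hi k) hp)) hf

theorem Sat.OppA_eq_of_OP (hF : Sat F p) (hQ : F.IsNormal Q) : AutF (OP F p) Q = OppA p (AutF F Q) := by
  have hs := sc_of_normal hQ
  refine le_antisymm (fun a ha => ?_) (hF.ppr_OP.OppA_le hQ.1)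
  obtain ⟨b, hb, h⟩ := (mor_MG (Aut0_le F p)).1 (iso_of_AutF hQ.1 ha).mor
  have hst : AutF F S ≤ Stab Q := fun a ha => sc_maps hs (iso_of_AutF le_rfl ha).mor hQ.1
  have h1 : Aut0 F p ≤ ((homOn_res Q).mono hst).pre (OppA p (AutF F Q)) := (closure_le _).2 fun c ⟨k1, P, k2, k3, k4⟩ =>
    ⟨k1, res_mem_OppA_of_E0 hF.pg hs k4 (normal_le_cr hF.pg hQ k2 k3)⟩
  have h2 := mul_mem (h1 hb).2 (res_mem_OppA_of_E0 hF.pg hs h le_rfl)
  rwa [← res_mul (hst (h1 hb).1) ((maps_of_AutF ha).trans (hst (h1 hb).1).symm), mul_inv_cancel_left, (supp_of_AutF ha).res_eq] at h2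

theorem AutK_hyp_le_OpA (hQ : F.IsNormal Q) : AutK (F.hyperfocalSubgroup p) Q ≤ OpA p (AutF F Q) := by
  have hn := sc_le_normalizer (sc_of_normal hQ)
  have : F.hyperfocalSubgroup p ≤ NK S Q (OpA p (AutF F Q)) := hyp_le_iff.2 fun P hP a ha hp x hx => by
    obtain ⟨b, h1, h2, h3, h4⟩ := normal_ext_pprime hQ hP ha hp
    have hi := iso_of_AutF (sup_le hP hQ.1) h1
    have hx' := hi.mor.mem_S (mem_sup_left hx)
    rw [← h4 x hx]
    refine ⟨⟨S.mul_mem (S.inv_mem (hP hx)) hx', hn (S.mul_mem (S.inv_mem (hP hx)) hx')⟩, ?_⟩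
    have hb := mem_OpA (Iso.res_mem ⟨hi.mor.mono le_sup_right, h3⟩) (coprime_res h3 h2)
    have hc := cr_mem_AutF F hQ.1 ⟨hP hx, hn (hP hx)⟩
    rw [(homOn_cr Q).map_inv_mul (hn (hP hx)) (hn hx'), ← hi.homOn.conj_cr le_sup_right h3 (mem_sup_left hx) (hn (hP hx)),
      ← (supp_cr Q x).conj_congr h3 fun y hy => res_apply h3 hy]
    simpa [mul_assoc] using mul_mem (conj_inv_mem_of_mem_normalizer (le_normalizer_OpA p _ hc) hb) (inv_mem hb)
  exact (AutK_mono this Q).trans (by rw [AutK_NK]; exact inf_le_right)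

omit [Finite S] in
theorem OppA_OppA {G : Type*} [Group G] (A : Subgroup G) : OppA p (OppA p A) = OppA p A :=
  le_antisymm (OppA_le p _) (OppA_le_iff.2 fun _ ha h => mem_OppA (mem_OppA ha h) h)

theorem PS.eq_bot (h : PS F p) (hS : IsPGroup p S) (hh : (OP F p).hyperfocalSubgroup p = S) : S = ⊥ := by
  have hF : Sat F p := ⟨hS, h.1.1⟩
  have hE := hF.sat_OP
  have hQ := normal_core F
  have hQE := hF.ni_OP.toWN.normal_inf hQ
  rw [inf_eq_left.2 hQ.1] at hQE
  haveI := finite_AutF' (OP F p) hQ.1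
  have hsyl := hE.syl (fn_of_sc (sc_of_normal hQE))
  have h1 : AutF (OP F p) F.core = ⊥ := eq_bot_of_pSolv (PLocal.pSolv_of_le (h.2 _ hQ.1) (AutF_mono (MG_sub _ _ _) _))
    (by conv_rhs => rw [← OpA_sup_syl hsyl]
        exact (sup_eq_left.2 ((AutK_mono hh.ge _).trans (AutK_hyp_le_OpA hQE))).symm)
    (by rw [hF.OppA_eq_of_OP hQ, OppA_OppA])
  have h2 : S ≤ F.core := fun s hs => (constrained_iff.1 h.1).2 ⟨hs, (cr_eq_one_iff (sc_le_normalizer (sc_of_normal hQ) hs)).1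
    (mem_bot.1 (h1 ▸ hsyl.le (cr_mem_AutK hs (sc_le_normalizer (sc_of_normal hQ) hs))))⟩
  refine eq_bot_iff.2 (hh.ge.trans (hyp_le_iff.2 fun P hP a ha hp x hx => ?_))
  obtain ⟨b, k1, -, -, k2⟩ := normal_ext_pprime hQE hP ha hp
  rw [sup_eq_right.2 (hP.trans h2), h1] at k1
  rw [← k2 x hx, mem_bot.1 k1]; simp

theorem ps_of_eq_bot (hS : S = ⊥) (F : FusionSystem S) : PS F p := by
  subst hS
  have hp : IsPGroup p (⊥ : Subgroup Ω) := IsPGroup.of_bot
  have hF : Sat F p := eq_inner_bot F ▸ sat_inner hp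
  haveI := finite_AutF F ⊥
  refine hF.ps_of (normal_bot F) (Fus.CS_le _ _) (PLocal.pSolv_of_isPGroup ?_)
  rw [eq_inner_bot F, AutF_inner le_rfl]; exact isPGroup_AutK hp _

theorem Model.ps_iff {G : Type*} [Group G] {L : Ω → G} (h : Model F p L) : PS F p ↔ IsPSolvable p G := by
  rw [h.pSolv_iff, pSolv_autGroup_iff]
  exact ⟨fun k => k.2 _ (core_le F), h.sat.ps_of (normal_core F) (constrained_iff.1 h.constrained).2⟩

end Cfsg.Agent.Fus
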