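import Cfsg.Agent.Fus.Blk
import Cfsg.Agent.FusC.Meta

/-! Saturated fusion systems on `p`-groups of rank two, `p ≥ 5`. -/

set_option autoImplicit false

namespace Cfsg.Agent.Fus

section grp

open Subgroup Cfsg.Agent.BG Cfsg.Agent.PGrp
open scoped commutatorElement

variable {G : Type*} [Group G] {p m n : ℕ} {a c d x y g v z : G} {A M : Subgroup G} [Finite G] [hp : Fact p.Prime]

namespace Bz

variable (h : Bz p A z m) (hx : x ∉ C[A])
include h hx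

theorem exp (h0 : z ^ p = 1) (h1 : x ^ p = 1) : Nat.card G = p ^ 3 ∧ Monoid.exponent G = p := by
  have k : m = 0 := by
    have := orderOf_dvd_of_pow_eq_one h0
    rw [h.ord, ← pow_one p, ← pow_mul, Nat.pow_dvd_pow_iff_le_right hp.out.one_lt] at this
    omega
  subst k
  refine ⟨h.card' hx, ((Nat.dvd_prime hp.out).1 (Monoid.exponent_dvd_of_forall_pow_eq_one fun g => ?_)).resolve_left
    fun e => hx (by rw [← pow_one x, ← e, Monoid.pow_exponent_eq_one]; exact one_mem _)⟩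
  haveI := h.cn
  obtain ⟨c, hc, i, rfl⟩ := (mem_sup_zpowers (norm_of_normal _ ⊤ trivial)).1 ((sup_zpowers_eq_top (h.idx hx) hx).ge (mem_top g))
  have k : c ∈ A := (sup_le le_rfl (zpowers_le.2 ((h.mem z).2 ⟨h.z_mem, h0⟩)) : A ⊔ zpowers z ≤ A) (h.gen.ge hc)
  have k1 := h.comm_mem k (x ^ i)
  rw [mul_pow_prime hp.out h.odd (commute_of_mem_center k1.2 _) (commute_of_mem_center k1.2 _) (h.pow k1.1), h.pow k,
    one_mul, ← zpow_natCast, zpow_comm, zpow_natCast, h1, one_zpow]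

theorem comm_z (k : ⁅x, z⁆ ∈ center G) (hc : c ∈ C[A]) : ⁅x, c⁆ ∈ center G := by
  obtain ⟨a, ha, i, rfl⟩ := h.decomp hc
  rw [h.comm_mul (h.le ha) (zpow_mem h.z_mem i), commutator_zpow_right (commute_of_mem_center k z)]
  exact (center G).mul_mem (h.comm_mem ha x).2 (zpow_mem k i)

theorem exists_cen (k : ⁅x, z⁆ ∈ center G) : ∃ a ∈ A, z * a ∈ center G := by
  obtain ⟨a, ha, e⟩ := h.exists_comm_eq hx (inv_mem ⟨h.comm_A hx h.z_mem x, k⟩)
  refine ⟨a, ha, h.cen_of hx (fun g => h.ab (mul_mem h.z_mem (h.le ha))) (commutatorElement_eq_one_iff_commute.1 ?_)⟩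
  rw [h.comm_mul h.z_mem (h.le ha), e, mul_inv_cancel]

/-- In the class three case every automorphism acts on `G / C` as `± 1`. -/
theorem eq_three (k : ⁅x, z⁆ ∉ center G) (f : MulAut G) (hf : f x ^ 2 * x⁻¹ ∈ C[A]) : p = 3 := by
  haveI := h.cn
  have hy := h.comm_A hx h.z_mem x
  have hu := h.comm_mem hy x
  have u1 : ⁅x, ⁅x, z⁆⁆ ≠ 1 := fun e => k (h.cen_of' hx hy (commutatorElement_eq_one_iff_commute.1 e)).2
  have hfy : f ⁅x, z⁆ ∈ A := (h.γ_two hx).1 (by rw [map_commutatorElement]; exact comm_mem_γ (i := 0) _ trivial)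
  have hz : f z ∈ C[A] := by_contra fun c => k (mem_center_iff.2 fun g => f.injective (by
    rw [map_mul, map_mul]
    exact mem_center_iff.1 (h.cen_of' c hfy ((h.ab h.z_mem (h.le hy)).map f)).2 _))
  obtain ⟨a, ha, b, e1⟩ := h.decomp hz
  obtain ⟨c, hc, i, e2⟩ := (mem_sup_zpowers (norm_of_normal _ ⊤ trivial)).1 ((sup_zpowers_eq_top (h.idx hx) hx).ge (mem_top (f x)))
  obtain ⟨n, hn⟩ := mem_powers_iff_mem_zpowers.2 (zpow_mem_zpowers x i)
  simp only at hn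
  rw [← hn] at e2
  have k1 : ∀ d ∈ C[A], ⁅f x, d⁆ = ⁅x ^ n, d⁆ := fun d hd => by
    rw [← e2, commutator_mul_left (h.ab (h.comm_C hd _) hc), commutatorElement_eq_one_iff_commute.2 (h.ab hc hd), mul_one]
  have k2 : ∀ c ∈ center G, ⁅x, c⁆ = 1 := fun c hc => commutatorElement_eq_one_iff_commute.2 (commute_of_mem_center hc x).symm
  have k3 : f ⁅x, ⁅x, z⁆⁆ = ⁅x, ⁅x, z⁆⁆ ^ (n * b * n : ℤ) := by
    have hy' := h.comm_A hx h.z_mem (x ^ n)
    rw [map_commutatorElement, k1 _ (h.le hfy), commutator_pow_left (commute_of_mem_center (h.comm_mem hfy x).2 x),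
      map_commutatorElement, k1 _ hz, ← e1, h.comm_mul (h.le ha) (zpow_mem h.z_mem b),
      commutator_zpow_right (h.ab (h.le hy') h.z_mem), h.comm_mul (h.le (h.comm_mem ha _).1) (h.le (zpow_mem hy' b)),
      k2 _ (h.comm_mem ha _).2, one_mul, commutator_zpow_right (commute_of_mem_center (h.comm_mem hy' x).2 _),
      comm_pow_left (commute_of_mem_center hu.2 x).symm (commute_of_mem_center hu.2 _),
      h.comm_mul (h.le (pow_mem (mem_inf.1 hu).1 _)) (h.le (pow_mem hy _)), k2 _ (pow_mem (mem_inf.1 hu).2 _), one_mul,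
      h.comm_pow' (h.le hy), ← zpow_natCast, ← zpow_natCast, ← zpow_mul, ← zpow_mul, mul_assoc]
  have k4 : f ⁅x, ⁅x, z⁆⁆ = ⁅x, ⁅x, z⁆⁆ ^ b := by
    obtain ⟨s, hs⟩ := mem_zpowers_iff.1 ((h.Z_eq hx h.w_mem h.w_ne).ge hu)
    rcases m with _ | m
    · exact absurd (by rw [k2 z (by simpa using h.cen)]; exact one_mem _) k
    rw [← hs, map_zpow, map_pow, ← e1, (h.ab (h.le ha) (zpow_mem h.z_mem b)).mul_pow, pow_succ' p, pow_mul a, h.pow ha,
      one_pow, one_mul, ← zpow_natCast (z ^ b), zpow_comm z b, zpow_natCast, zpow_comm]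
  have k5 := orderOf_eq_prime (h.pow hu.1) u1
  have k6 : (p : ℤ) ∣ b * (n * n - 1) := by
    rw [k4, eq_comm, zpow_eq_zpow_iff_modEq, k5] at k3
    convert k3.symm.dvd using 1; ring
  have k7 : (p : ℤ) ∣ 2 * n - 1 := dvd_of_zpow_mem hp.out hx (h.pow_mem hx x) ((QuotientGroup.eq_one_iff _).1 (by
    have := (QuotientGroup.eq_one_iff _).2 hf
    rw [← e2] at this
    simp only [QuotientGroup.mk_mul, QuotientGroup.mk_pow, QuotientGroup.mk_inv, (QuotientGroup.eq_one_iff _).2 hc] at this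
    rw [QuotientGroup.mk_zpow, ← this, one_mul, zpow_sub_one, ← pow_mul, ← zpow_natCast, mul_comm n]; simp))
  have k8 := ((Nat.prime_iff_prime_int.1 hp.out).dvd_or_dvd k6).resolve_left fun c => u1 (f.injective (by
    rw [k4, map_one, ← orderOf_dvd_iff_zpow_eq_one, k5]; exact c))
  refine (Nat.prime_dvd_prime_iff_eq hp.out Nat.prime_three).1 (Int.natCast_dvd_natCast.1 ?_)
  have := dvd_sub (k7.mul_right (2 * n + 1)) (k8.mul_left 4)
  rwa [show (2 * n - 1) * (2 * n + 1) - 4 * (n * n - 1) = ((3 : ℕ) : ℤ) by push_cast; ring] at this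

end Bz

end grp

open Subgroup Cfsg Cfsg.Agent.Loc Equiv
open Cfsg.FusionSystem (normalizerIn centralizerIn)
open scoped commutatorElement

variable {Ω : Type*} [Group Ω] {S P R C : Subgroup Ω} {p : ℕ} {F : FusionSystem S} [hp : Fact p.Prime]

/-- Two transvections generate the element `diag(2, 1/2)`; congruences are read through `μ`. -/
theorem exists_two {V : Type*} [Group V] {μ : Ω → V} (hμ : HomOn μ R) (hc : ∀ x ∈ R, ∀ y ∈ R, Commute (μ x) (μ y))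
    {A : Subgroup (Perm Ω)} (hA : A ≤ AutOn R) (hD : ∀ a ∈ A, ∀ x ∈ R, μ x = 1 → μ (a x) = 1) (h0 : p ≠ 2)
    {τ τ' : Perm Ω} (hτ : τ ∈ A) (hτ' : τ' ∈ A) {z w : Ω} (hz : z ∈ R) (hw : w ∈ R) (e : μ z ^ p = 1) (e' : μ w ^ p = 1)
    (h1 : μ (τ z) = μ z) (h2 : μ (w⁻¹ * τ w) ∈ zpowers (μ z)) (h3 : μ (w⁻¹ * τ w) ≠ 1)
    (h1' : μ (τ' w) = μ w) (h2' : μ (z⁻¹ * τ' z) ∈ zpowers (μ w)) (h3' : μ (z⁻¹ * τ' z) ≠ 1) :
    ∃ σ ∈ A, μ (σ z) = μ (z ^ 2) ∧ μ (σ w ^ 2) = μ (z ^ 2 * w) := by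
  have H : ∀ a ∈ A, HomOn a R := fun a ha => (mem_AutOn.1 (hA ha)).1
  have M : ∀ a ∈ A, ∀ x ∈ R, a x ∈ R := fun a ha x hx => Maps.mem (AutOn_le_Stab R (hA ha)) hx
  have K : ∀ a ∈ A, ∀ {x y z : Ω} {i j : ℤ}, x ∈ R → y ∈ R → z ∈ R → μ x = μ y ^ i * μ z ^ j →
      μ (a x) = μ (a y) ^ i * μ (a z) ^ j := fun a ha x y z i j hx hy hz k => by
    have k1 := mul_mem (zpow_mem hy i) (zpow_mem hz j)
    have := hD a ha _ (mul_mem (inv_mem k1) hx) (by
      rw [hμ.map_inv_mul k1 hx, hμ _ (zpow_mem hy i) _ (zpow_mem hz j), hμ.map_zpow hy, hμ.map_zpow hz, k, inv_mul_cancel])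
    rw [(H a ha).map_inv_mul k1 hx, hμ.map_inv_mul (M a ha _ k1) (M a ha _ hx), inv_mul_eq_one,
      H a ha _ (zpow_mem hy i) _ (zpow_mem hz j), (H a ha).map_zpow hy, (H a ha).map_zpow hz,
      hμ _ (zpow_mem (M a ha _ hy) i) _ (zpow_mem (M a ha _ hz) j), hμ.map_zpow (M a ha _ hy),
      hμ.map_zpow (M a ha _ hz)] at this
    exact this.symm
  have key : ∀ τ ∈ A, ∀ z ∈ R, ∀ w ∈ R, μ z ^ p = 1 → μ (τ z) = μ z → μ (w⁻¹ * τ w) ∈ zpowers (μ z) →
      μ (w⁻¹ * τ w) ≠ 1 → ∀ i : ℤ, ∃ ρ ∈ A, μ (ρ z) = μ z ∧ μ (ρ w) = μ w * μ z ^ i := fun τ hτ z hz w hw e h1 h2 h3 i => by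
    obtain ⟨k, hk⟩ := mem_zpowers_iff.1 h2
    have fo : IsOfFinOrder (μ z ^ k) := (isOfFinOrder_iff_pow_eq_one.2 ⟨p, hp.out.pos, e⟩).zpow
    obtain ⟨n, hn⟩ := fo.mem_powers_iff_mem_zpowers.2 (hk ▸ (zpowers_eq_of_mem e h2 h3).ge (zpow_mem_zpowers _ i))
    rw [hμ.map_inv_mul hw (M τ hτ w hw), eq_inv_mul_iff_mul_eq] at hk
    refine ⟨τ ^ n, pow_mem hτ n, ?_⟩
    simp only at hn
    rw [← hn]
    clear hn
    induction n with
    | zero => simp
    | succ n ih =>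
      rw [pow_succ, Perm.mul_apply, Perm.mul_apply, K _ (pow_mem hτ n) (i := 1) (j := 0) (M τ hτ z hz) hz hz (by simpa using h1),
        K _ (pow_mem hτ n) (i := 1) (j := k) (M τ hτ w hw) hw hz (by simpa using hk.symm), ih.1, ih.2]
      simp [pow_succ, mul_assoc]
  obtain ⟨j, hj⟩ := hp.out.odd_of_ne_two h0
  obtain ⟨u, hu, u1, u2⟩ := key τ hτ z hz w hw e h1 h2 h3 1
  obtain ⟨s, hs, s1, s2⟩ := key τ' hτ' w hw z hz e' h1' h2' h3' 1
  obtain ⟨t, ht, t1, t2⟩ := key τ' hτ' w hw z hz e' h1' h2' h3' j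
  have c := hc z hz w hw
  have e1 : μ w ^ (2 * j + 1 : ℤ) = 1 := by rw [← e', hj, ← zpow_natCast]; simp
  refine ⟨t * u * s, mul_mem (mul_mem ht hu) hs, ?_, ?_⟩
  · rw [Perm.mul_apply, K _ (mul_mem ht hu) (i := 1) (j := 1) (M s hs z hz) hz hw (by simpa using s2), Perm.mul_apply,
      Perm.mul_apply, K t ht (i := 1) (j := 0) (M u hu z hz) hz hz (by simpa using u1),
      K t ht (i := 1) (j := 1) (M u hu w hw) hw hz (by simpa using u2), t1, t2, hμ.map_pow hz, ← mul_one (μ z ^ 2), ← e1]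
    simp only [zpow_one, zpow_zero, mul_one, sq, two_mul, zpow_add, mul_assoc]
    rw [← mul_assoc (μ w), ← c.eq, mul_assoc (μ z), ← mul_assoc (μ w ^ _), ← (c.zpow_right j).eq]
    group
  · have k := M _ (mul_mem (mul_mem ht hu) hs) w hw
    rw [hμ.map_pow k, Perm.mul_apply, K _ (mul_mem ht hu) (i := 1) (j := 0) (M s hs w hw) hw hw (by simpa using s1),
      Perm.mul_apply, K t ht (i := 1) (j := 1) (M u hu w hw) hw hz (by simpa using u2), t1, t2, hμ _ (pow_mem hz 2) _ hw,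
      hμ.map_pow hz, ← mul_one (μ z ^ 2), ← e1]
    simp only [zpow_one, zpow_zero, mul_one]
    rw [← mul_assoc (μ w), ← c.eq, mul_assoc, (c.mul_right (c.zpow_right j)).mul_pow]
    group

variable [Finite S]

theorem AI.nab (h : AI p S C) (h0 : p ≠ 2) (hD : ⁅S, S⁆ ≤ Zs S 2) (hT : ¬ C ≤ Zs S 2 → ∀ f, Iso F f S S → ∀ x ∈ S,
    f x ^ 2 * x⁻¹ ∈ C → x ∈ C) (e : Es F p P) : P ≤ centralizer (P : Set Ω) := by
  by_contra hab
  have := e.finite
  obtain ⟨x, hx, hx'⟩ := h.exists_x_ess e fun c => hab (c ▸ h.ab)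
  obtain ⟨z1, z2, z3, z4, -, z6⟩ := h.ess_nab e hx hx' hab
  have hZB : centralizerIn S S ≤ Zs S 2 := fun c hc => mem_Zs_succ.2 ⟨hc.1, fun y hy => by
    rw [commutatorElement_eq_one_iff_commute.2 (CS_cen hc hy).symm]; exact one_mem _⟩
  have hB : Zs S 2 ≤ P := z3.symm ▸ le_sup_left
  have := finite_of_le hB
  have := finite_of_le hZB
  have hn : ∀ s ∈ S, s ∈ normalizerIn S P := fun s hs =>
    ⟨hs, mem_normalizer_of_comm fun c hc => hB (hD (commutator_mem_commutator hs (e.le hc)))⟩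
  have i1 : (Zs S 2).relIndex P ∣ p := z3 ▸ (PGrp.relIndex_sup_zpowers hp.out (le_normalizer_Zs S 2 (e.le hx))
    (fun c => hx' (z2 c)) (hZB (h.pow_mem (e.le hx) hx'))).dvd
  have i2 : (centralizerIn S S).relIndex (Zs S 2) = p := relIndex_of_card hZB (by
    have := h.card_Zs 1
    rwa [inf_eq_right.2 z2, Zs_one, z4, mul_comm] at this)
  have i3 : ∀ u ∈ P, u ∈ C → u ∈ Zs S 2 := fun u h1 h2 => ((eq_or_eq_of_relIndex_dvd i1 (le_inf hB z2) inf_le_left).resolve_right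
    fun c => hx' (c.ge hx).2).le ⟨h1, h2⟩
  have hC : ¬ C ≤ Zs S 2 := fun c => e.lt.not_ge ((h.sup (e.le hx) hx').ge.trans (sup_le (c.trans hB) (zpowers_le.2 hx)))
  obtain ⟨t, t1, t2⟩ := SetLike.not_le_iff_exists.1 hC
  have ht := hn t (h.le t1)
  have hτ := e.cr_mem ht
  have nZ : S ≤ normalizer (centralizerIn S S : Set Ω) := le_normalizer_of_le_centralizer (le_cen_CS S)
  have sZ : ∀ a ∈ AutF F P, Maps a (centralizerIn S S) (centralizerIn S S) := fun a ha =>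
    z1 ▸ (Chr.cen (H := P) ⟨le_rfl, fun _ _ k => k⟩).stab (AutF_le_AutOn F P ha)
  have tv1 : ∀ s ∈ S, Tv (cr P s) (Zs S 2) P := fun s hs => tv_cr_of_comm (hn s hs).2 le_rfl
    fun c hc => hD (commutator_mem_commutator hs (e.le hc))
  have fx : ∀ c ∈ Zs S 2, cr P t c = c := fun c hc => by
    rw [cr_apply ht.2 (hB hc), (commute_of_le_centralizer h.ab t1 (z2 hc)).eq, mul_inv_cancel_right]
  obtain ⟨y, y1, y2⟩ : ∃ y ∈ Zs S 2, y ∉ centralizerIn S S :=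
    SetLike.not_le_iff_exists.1 fun c => hp.out.one_lt.ne' (i2 ▸ relIndex_eq_one.2 c)
  have dec : ∀ u ∈ Zs S 2, ∃ b ∈ centralizerIn S S, ∃ i : ℤ, b * y ^ i = u := fun u =>
    exists_mul_zpow i2.dvd hZB ((hB.trans e.le).trans nZ) y1 y2
  have sB : ∀ a ∈ AutF F P, a y ∈ Zs S 2 → Maps a (Zs S 2) (Zs S 2) := fun a ha k =>
    ((homOn_of_AutF ha).mono hB).maps_self fun u hu => by
      obtain ⟨b, hb, i, rfl⟩ := dec u hu
      rw [homOn_of_AutF ha _ (hB (hZB hb)) _ (zpow_mem (hB y1) i), (homOn_of_AutF ha).map_zpow (hB y1)]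
      exact mul_mem (hZB ((sZ a ha).mem hb)) (zpow_mem k i)
  obtain ⟨g, hg, hg'⟩ : ∃ g ∈ AutF F P, g y ∉ Zs S 2 := by
    by_contra! c
    exact t2 (i3 t (e.chain2 ht hB (fun a ha => sB a ha (c a ha)) (tv1 t ht.1) (tv_of_fix fx _)) t1)
  have G := homOn_of_AutF hg
  have hw := (maps_of_AutF hg).mem (hB y1)
  have hv := (maps_of_AutF hg).inv_mem (hB y1)
  have hv' : g⁻¹ y ∉ Zs S 2 := fun c => hg' ((sB _ (inv_mem hg) c).symm.mem y1)
  have hμ : HomOn (cr P) P := (homOn_cr P).mono le_normalizer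
  have ker : ∀ u ∈ P, cr P u = 1 ↔ u ∈ centralizerIn S S := fun u hu => by
    rw [cr_eq_one_iff (le_normalizer hu), ← z1]; exact ⟨fun c => ⟨hu, c⟩, fun c => c.2⟩
  have T : ∀ u ∈ P, u ∉ Zs S 2 → u⁻¹ * cr P t u ∉ centralizerIn S S := fun u h1 h2 c => t2 (mem_Zs_succ.2 ⟨ht.1, fun s hs =>
    Zs_one S ▸ comm_mem_symm (h.comm_all (e.le (inv_mem h1)) (fun c => h2 (i3 u h1 (inv_mem_iff.1 c))) nZ t1 (by
      rw [cr_apply ht.2 h1] at c; simpa [commutatorElement_def, mul_assoc] using c) hs)⟩)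
  have hτv := (maps_of_AutF hτ).mem hv
  have e1 : y⁻¹ * (g * cr P t * g⁻¹) y = g ((g⁻¹ y)⁻¹ * cr P t (g⁻¹ y)) := by rw [G.map_inv_mul hv hτv]; simp
  have yp := pow_mem_of_relIndex i2.dvd ((hB.trans e.le).trans nZ) y1
  obtain ⟨σ, hσ, s1, s2⟩ := exists_two hμ (fun a ha b hb => commutatorElement_eq_one_iff_commute.1 (by
      rw [← hμ.map_commutatorElement ha hb]
      exact (ker _ (hB (hD (commutator_mem_commutator (e.le ha) (e.le hb))))).2 (z6.le (commutator_mem_commutator ha hb)).1))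
    (AutF_le_AutOn F P) (fun a ha u hu k => (ker _ ((maps_of_AutF ha).mem hu)).2 ((sZ a ha).mem ((ker u hu).1 k))) h0 hτ
    (mul_mem (mul_mem hg hτ) (inv_mem hg)) (hB y1) hw (by rw [← hμ.map_pow (hB y1), ker _ (hB (hZB yp))]; exact yp)
    (by rw [← hμ.map_pow hw, ker _ (P.pow_mem hw p), ← G.map_pow (hB y1)]; exact (sZ g hg).mem yp) (by rw [fx y y1])
    (by
      obtain ⟨b, hb, i, k⟩ := dec _ (tv1 t ht.1 _ hw)
      rw [← k, hμ _ (hB (hZB hb)) _ (zpow_mem (hB y1) i), (ker b (hB (hZB hb))).2 hb, one_mul, hμ.map_zpow (hB y1)]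
      exact zpow_mem_zpowers _ i)
    (fun c => T _ hw hg' ((ker _ (hB (tv1 t ht.1 _ hw))).1 c)) (by simp [fx y y1])
    (by
      obtain ⟨b, hb, i, k⟩ := dec _ (tv1 t ht.1 _ hv)
      have k1 := (sZ g hg).mem hb
      rw [e1, ← k, G _ (hB (hZB hb)) _ (zpow_mem (hB y1) i), G.map_zpow (hB y1), hμ _ (hB (hZB k1)) _ (zpow_mem hw i),
        (ker _ (hB (hZB k1))).2 k1, one_mul, hμ.map_zpow hw]
      exact zpow_mem_zpowers _ i)
    (fun c => T _ hv hv' (by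
      rw [e1, ker _ ((maps_of_AutF hg).mem (hB (tv1 t ht.1 _ hv)))] at c
      simpa using (sZ g hg).inv_mem c))
  have y3 := (Zs S 2).pow_mem y1 2
  have k1 := (maps_of_AutF hσ).mem (hB y1)
  have k2 := P.pow_mem ((maps_of_AutF hσ).mem hw) 2
  rw [← mul_inv_eq_one, ← hμ.map_mul_inv k1 (hB y3), ker _ (mul_mem k1 (inv_mem (hB y3)))] at s1
  rw [← mul_inv_eq_one, ← hμ.map_mul_inv k2 (mul_mem (hB y3) hw), ker _ (mul_mem k2 (inv_mem (mul_mem (hB y3) hw))),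
    mul_inv_rev, ← mul_assoc] at s2
  have sσ := sB σ hσ ((mul_mem_cancel_right (inv_mem y3)).1 (hZB s1))
  have H := homOn_of_AutF hσ
  obtain ⟨f, f1, f2⟩ := e.ext_NS hσ (cj_le_iff_forall.2 fun a ha => by
    obtain ⟨s, hs, -, rfl⟩ := mem_AutK.1 ha
    have hc := e.cr_mem (hn s hs)
    have hm := (AutF F P).mul_mem (mul_mem hσ hc) (inv_mem hσ)
    have k3 := (tv1 s hs).conj H le_rfl (maps_of_AutF hc) sσ (maps_of_AutF hσ)
    refine (e.syl.mono (K := AutF F P ⊓ Stab (Zs S 2)) (fun a ha => ?_) inf_le_left).pCoreOf_le (QA.three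
      (inf_le_left.trans (AutF_le_AutOn F P)) e.pg ⟨hm, (k3.mono le_rfl hB).maps ((homOn_of_AutF hm).mono hB) le_rfl⟩
      (hZB.trans hB) hB (fun a ha => sZ a ha.1) inf_le_right k3 ((tv_cr_of_comm (hn s hs).2 hB fun c hc =>
        comm_mem_symm (Zs_one S ▸ (mem_Zs_succ.1 hc).2 s hs)).conj H hB (maps_of_AutF hc) (sZ σ hσ) sσ)
      (tv_of_fix (fun c hc => ?_) _))
    · obtain ⟨s, hs, -, rfl⟩ := mem_AutK.1 ha
      have := e.cr_mem (hn s hs)
      exact ⟨this, ((tv1 s hs).mono le_rfl hB).maps ((homOn_of_AutF this).mono hB) le_rfl⟩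
    · have k4 := (sZ σ hσ).inv_mem hc
      rw [Perm.mul_apply, Perm.mul_apply, cr_apply (hn s hs).2 (hB (hZB k4)), (CS_cen k4 hs).eq, mul_inv_cancel_right,
        perm_apply_inv])
  rw [show normalizerIn S P = S from le_antisymm inf_le_left hn] at f1
  exact hg' (i3 _ hw (hT hC f f1 _ (e.le hw) (f2 _ hw ▸ (mul_mem_cancel_right (inv_mem (z2 y3))).1 (z2 (hZB s2)))))

theorem AI.pearl (h : AI p S C) (h0 : p ≠ 2) (hT : ∀ f, Iso F f S S → ∀ x ∈ S, f x ^ 2 * x⁻¹ ∈ C → x ∈ C)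
    (hE : ∀ E, Es F p E → E ≤ centralizer (E : Set Ω)) (e : Es F p P) (hP : ∀ u ∈ P, u ^ p = 1) : P = C := by
  by_contra c
  obtain ⟨x, hx, hx'⟩ := h.exists_x_ess e c
  obtain ⟨-, tv, -⟩ := h.ess_ab e hx hx' (hE P e)
  obtain ⟨t, z, d⟩ := tv.exists_tvd
  obtain ⟨g, hg⟩ := e.exists_far
  have hw := (maps_of_AutF hg.1).mem d.hzP
  obtain ⟨h1, h2, h3⟩ := d.conj_data hg
  obtain ⟨σ, hσ, s1, s2⟩ := exists_two (homOn_id P) (fun a ha b hb => commute_of_le_centralizer d.ab ha hb)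
    (AutF_le_AutOn F P) (fun a ha u _ k => by rw [k, (homOn_of_AutF ha).map_one]) h0 (e.cr_mem d.ht)
    (d.conj_fix hg.1 d.ht).1 d.hzP hw d.hzp (hP _ hw) (d.fix d.ht d.hz) (d.comm t d.ht _ hw)
    (fun k => d.far g hg (d.mem_of_fix d.ht d.ht0 hw (inv_mul_eq_one.1 k).symm)) h1 h2 fun k => h3 (inv_mul_eq_one.1 k).symm
  obtain ⟨f, f1, f2⟩ := e.ext_NS hσ (d.cj_le hσ (s1 ▸ Subgroup.pow_mem _ d.hz 2))
  obtain ⟨k, k1, k2⟩ := e.sat.ext_S f1.mor fun k E k1 k2 k3 => d.ht0 (e.CS_le ⟨d.ht.1, fun u hu => k.injective (by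
    rw [k1.homOn _ (e.lt_NS.le hu) _ d.ht, k1.homOn _ d.ht _ (e.lt_NS.le hu)]
    exact hE E ⟨e.sat, k2⟩ (k3 _ d.ht) _ (k3 _ (e.lt_NS.le hu)))⟩)
  refine d.far g hg (h.mem_Z (e.le hx) hx' (hT k k1 _ (e.le hw) ?_) (commute_of_le_centralizer d.ab hx hw))
  rw [k2 _ (e.lt_NS.le hw), f2 _ hw, s2, mul_inv_cancel_right]
  exact C.pow_mem (h.Z_le d.hz) 2

omit [Finite S] in
theorem relIndex_Phi_dvd [Finite P] (hP : IsPGroup p P) (hab : P ≤ centralizer (P : Set Ω))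
    (h : ∀ E ≤ P, IsElementaryAbelian p E → Nat.card E ≤ p ^ 2) : (Phi P).relIndex P ∣ p ^ 2 := by
  have H := homOn_pow hab p
  have := finite_of_le (H.pre_le ⊥)
  have := finite_of_le (Phi_le P)
  rw [relIndex_of_card (Phi_le P) (k := Nat.card (H.pre ⊥)) (by
    rw [← H.card_img_mul, show img (· ^ p) P = Phi P from Subgroup.ext fun x => H.mem_img.trans (mem_Phi_ab hP hab).symm])]
  obtain ⟨k, hk⟩ := IsPGroup.iff_card.1 (hP.to_le (H.pre_le ⊥))
  have := h _ (H.pre_le ⊥) (isElementaryAbelian_iff.2 ⟨((H.pre_le ⊥).trans hab).trans (centralizer_anti (H.pre_le ⊥)),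
    fun a ha => ha.2⟩)
  rw [hk] at this ⊢
  exact pow_dvd_pow p ((Nat.pow_le_pow_iff_right hp.out.one_lt).1 this)

theorem normal_of_rank_two (hF : Sat F p) (h5 : 5 ≤ p) (hr : ∀ E ≤ S, IsElementaryAbelian p E → Nat.card E ≤ p ^ 2)
    (hE : ¬ (Nat.card S = p ^ 3 ∧ Monoid.exponent S = p)) : F.IsNormal S := by
  have h0 : p ≠ 2 := by omega
  rcases blackburn hF.pg h0 (fun B h1 h2 => card_map_of_injective (K := B) S.subtype_injective ▸ hr _ (map_subtype_le B)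
    (isElementaryAbelian_map _ ⟨h1, h2⟩)) with h | ⟨h, -⟩ | ⟨A, z, m, x, h, hx, k⟩
  · exact normal_of_meta_odd hF h0 (sc_S F) h
  · omega
  replace k := k.resolve_right fun c => by omega
  have mem : ∀ u : S, (u : Ω) ∈ (centralizer (A : Set S)).map S.subtype ↔ u ∈ centralizer (A : Set S) := fun u =>
    mem_map_iff_mem S.subtype_injective
  have cen : ∀ u : S, (u : Ω) ∈ centralizerIn S S ↔ u ∈ center S := fun u => ⟨fun c => mem_center_iff.2 fun g =>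
    Subtype.ext (c.2 g g.2), fun c => ⟨u.2, fun g hg => congrArg Subtype.val (mem_center_iff.1 c ⟨g, hg⟩)⟩⟩
  have ai : AI p S ((centralizer (A : Set S)).map S.subtype) := ⟨hF.pg, map_subtype_le _, by
    rintro _ ⟨a, ha, rfl⟩ _ ⟨b, hb, rfl⟩; exact congrArg Subtype.val (h.ab hb ha).eq,
    (congrArg index (comap_map_eq_self_of_injective S.subtype_injective _)).trans (h.idx hx),
    fun c => hx fun a _ => Subtype.ext (c x.2 a a.2)⟩
  have hT : ¬ (centralizer (A : Set S)).map S.subtype ≤ Zs S 2 → ∀ f, Iso F f S S → ∀ x ∈ S,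
      f x ^ 2 * x⁻¹ ∈ (centralizer (A : Set S)).map S.subtype → x ∈ (centralizer (A : Set S)).map S.subtype :=
    fun c f hf y hy e => by_contra fun hy' => by
      obtain ⟨γ, hγ⟩ := res_mem_AutOn hf.homOn hf.maps
      have k1 := mt (mem ⟨y, hy⟩).2 hy'
      have := h.eq_three k1 (fun c' => c ?_) γ ((mem _).1 (by
        rwa [← res_apply hf.maps hy, ← hγ, toPerm_apply γ hy] at e))
      · omega
      rintro _ ⟨u, hu, rfl⟩
      exact mem_Zs_succ.2 ⟨u.2, fun s hs => Zs_one S ▸ comm_mem_symm (ai.comm_all hy hy'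
        (le_normalizer_of_le_centralizer (le_cen_CS S)) ((mem u).2 hu) ((cen ⁅⟨y, hy⟩, u⁆).2 (h.comm_z k1 c' hu)) hs)⟩
  have hab : ∀ E, Es F p E → E ≤ centralizer (E : Set Ω) := fun E => ai.nab h0 (commutator_le.2 fun a ha b hb =>
    mem_Zs_succ.2 ⟨commutator_le_self S (commutator_mem_commutator ha hb), fun s hs => Zs_one S ▸ comm_mem_symm ((cen ⁅(⟨s, hs⟩ : S), ⁅(⟨a, ha⟩ : S), (⟨b, hb⟩ : S)⁆⁆).2
      ((h.γ_two hx).2 (comm_mem_γ _ (comm_mem_γ (i := 0) _ trivial))).2)⟩) hT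
  refine hF.normal_S fun P e => hE (h.exp hx ?_ k)
  replace e : Es F p P := ⟨hF, e⟩
  have := e.finite
  have hP := (isElementaryAbelian_iff.1 ((e.rank_two (hab P e) (relIndex_Phi_dvd e.pg (hab P e)
    fun E k => hr E (k.trans e.le))).resolve_right fun c => by omega).1).2
  by_cases c : ⁅x, z⁆ ∈ center S
  · obtain ⟨a, ha, k1⟩ := h.exists_cen hx c
    have : (z * a) ^ p = 1 := Subtype.ext (hP _ (e.CS_le ⟨(z * a).2, fun u hu => ((cen _).2 k1).2 u (e.le hu)⟩))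
    rwa [(h.ab h.z_mem (h.le ha)).mul_pow, h.pow ha, mul_one] at this
  exact Subtype.ext (hP _ ((ai.pearl h0 (hT fun c' => c ((cen _).1 (Zs_one S ▸ comm_mem_symm
    ((mem_Zs_succ.1 (c' ((mem z).2 h.z_mem))).2 x x.2)))) hab e hP).ge ((mem z).2 h.z_mem)))

end Cfsg.Agent.Fus
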