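import Cfsg.Agent.Fus.Rk2

/-! Consequences of Blackburn's classification: chief factors, automorphisms of metacyclic groups. -/

set_option autoImplicit false

namespace Cfsg.Agent.Fus

open Subgroup Cfsg.Agent.BG Cfsg.Agent.PGrp
open scoped commutatorElement

variable {G : Type*} [Group G] {p m n : ℕ} {a c d x y g v z : G} {A H L M : Subgroup G} [Finite G] [hp : Fact p.Prime]

theorem index_dvd_sq (hG : IsPGroup p G) (hM : frattini G ≤ M) (h : M ⊔ zpowers x ⊔ zpowers y = ⊤) : M.index ∣ p ^ 2 := by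
  have k : ∀ M : Subgroup G, frattini G ≤ M → ∀ x, M.relIndex (M ⊔ zpowers x) ∣ p := fun M hM x => by
    haveI := Normal.of_commutator_le G ((Transfer.commutator_le_frattini hG).trans hM)
    by_cases k : x ∈ M
    · rw [sup_eq_left.2 (zpowers_le.2 k), relIndex_self]; exact one_dvd p
    · exact (relIndex_sup_zpowers hp.out (norm_of_normal _ ⊤ trivial) k (hM (Transfer.pow_mem_frattini hG x))).dvd
  rw [← relIndex_top_right, ← h, ← relIndex_mul_relIndex M _ _ le_sup_left le_sup_left, sq]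
  exact mul_dvd_mul (k M hM x) (k _ (hM.trans le_sup_left) y)

theorem Bk.sup_eq (h : Bk p A) (hx : x ∉ C[A]) (hy : y ∈ A) (k : y ∉ center G) : A ⊓ center G ⊔ zpowers y = A :=
  eq_of_card_le (sup_le inf_le_left (zpowers_le.2 hy)) (by
    haveI := h.nrm
    rw [card_sup_zpowers hp.out (norm_of_normal _ ⊤ trivial) (fun c : y ∈ A ⊓ center G => k c.2) (h.pow hy ▸ one_mem _),
      h.card_Z hx, h.card, sq])

theorem rank_two_index (hG : IsPGroup p G) (h2 : p ≠ 2) (hr : PRankLE p 2 G) (hM : frattini G ≤ M)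
    (hZ : center G ≤ M ∨ M ⊔ center G = ⊤) : M.index ≤ p ^ 2 := by
  have hD := (Transfer.commutator_le_frattini hG).trans hM
  have pos := pow_pos hp.out.pos 2
  rcases hZ with hZ | hZ
  swap
  · haveI := Normal.of_commutator_le G hD
    have k : Abelem p (omegaOne p (center G)) := Ohm1_abelem p inferInstance
    rw [← relIndex_top_right, ← hZ, relIndex_sup_left]
    exact ((⟨hG, h2, fun a ha _ g _ => commute_of_mem_center ha g⟩ : PCen p (center G)).sm (fun a =>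
      ⟨fun ha => ⟨Ohm_sub _ _ ha, k.2 a ha⟩, fun ha => mem_Ohm1 ha.1 ha.2⟩) M
        fun g _ => hM (Transfer.pow_mem_frattini hG g)).trans (hr _ k.1 k.2)
  rcases blackburn hG h2 hr with h | ⟨-, n, h⟩ | ⟨A, z, m, x, h, hx, -⟩
  · obtain ⟨a, b, -, e⟩ := BG4.metacyclic_gen (BG4.metacyclic_top.2 h)
    exact Nat.le_of_dvd pos (index_dvd_sq hG hM (eq_top_iff.2 (e.ge.trans (sup_le_sup_right le_sup_right _))))
  · exact Nat.le_of_dvd pos (h.index_γ n.zero_le ▸ index_dvd_of_le hD)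
  have key : ∀ y, C[A] ≤ M ⊔ zpowers y → M.index ≤ p ^ 2 := fun y k => Nat.le_of_dvd pos (index_dvd_sq hG hM
    (eq_top_iff.2 ((sup_zpowers_eq_top (h.idx hx) hx).ge.trans (sup_le_sup_right k _))))
  by_cases k : ⁅x, z⁆ ∈ center G
  · obtain ⟨a, ha, k1⟩ := h.exists_cen hx k
    obtain ⟨y, hy, k2⟩ := h.exists_comm hx
    have k3 : A ≤ M ⊔ zpowers y := (h.toBk.sup_eq hx hy fun c => k2 (commutatorElement_eq_one_iff_mul_comm.2
      (mem_center_iff.1 c x))).ge.trans (sup_le_sup_right (inf_le_right.trans hZ) _)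
    exact key y (h.gen.ge.trans (sup_le k3 (zpowers_le.2 ((mul_mem_cancel_right (k3 ha)).1 (mem_sup_left (hZ k1))))))
  · exact key z ((h.sup_eq hx (h.comm_A hx h.z_mem x) k).ge.trans (sup_le le_sup_right
      ((zpowers_le.2 (hD (commutator_mem_commutator trivial trivial))).trans le_sup_left)))

omit [Finite G] hp in
theorem mem_C_sub (hA : A ≤ H) {g : H} : g ∈ C[A.subgroupOf H] ↔ (g : G) ∈ C[A] :=
  ⟨fun h a ha => congrArg Subtype.val (h ⟨a, hA ha⟩ ha), fun h a ha => Subtype.ext (h a ha)⟩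

omit [Finite G] hp in
theorem bk_sub (hG : IsPGroup p G) (h2 : p ≠ 2) [A.Normal] (hc : #A = p ^ 2) (hA : A ≤ H)
    (hm : ∀ a ∈ H, a ∈ A ↔ a ∈ C[A] ∧ a ^ p = 1) : Bk p (A.subgroupOf H) :=
  ⟨hG.to_subgroup H, h2, inferInstance, (Nat.card_congr (subgroupOfEquivOfLe hA).toEquiv).trans hc,
    fun a => (hm a a.2).trans (and_congr (mem_C_sub hA).symm (Subtype.ext_iff (a1 := a ^ p) (a2 := 1)).symm)⟩

namespace Bk

variable (h : Bk p A) (hx : x ∉ C[A])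
include h hx

theorem cyc_comm (hc : IsCyclic (γ G 1)) (ha : a ∈ A) (ha' : a ∈ γ G 1) : a ∈ center G := by
  by_contra k
  have k1 := h.comm_mem ha x
  exact k (zpowers_le.2 k1.2 (Loc.rk1_of_isCyclic hc _ (γ_anti one_le_two (comm_mem_γ x ha')) a ha' (h.pow k1.1) (h.pow ha)
    fun e => k (h.cen_of' hx ha (commutatorElement_eq_one_iff_commute.1 e)).2))

theorem cyc_index (hD : γ G 1 ≤ A ⊓ center G) (hA : ∀ a : G, a ^ p = 1 → a ∈ A) : ∃ C : Subgroup G, IsCyclic C ∧ C.index = p := by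
  have k : ∀ a b : G, ⁅a, b⁆ ∈ A ⊓ center G := fun a b => hD (comm_mem_γ (i := 0) a trivial)
  let f : G →* G := MonoidHom.mk' (· ^ p) fun a b => mul_pow_prime hp.out h.odd (commute_of_mem_center (k b a).2 a)
    (commute_of_mem_center (k b a).2 b) (h.pow (k b a).1)
  have k1 : f.ker = A := Subgroup.ext fun a => ⟨hA a, h.pow⟩
  obtain ⟨_, hg⟩ := cyclicP.1 (BG4.cyclic_of_card_omega_le (h.pg.to_subgroup f.range) h.odd
    ((card_le_of_le (Ohm1_le_iff.2 (by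
      rintro _ ⟨g, rfl⟩ e
      exact ⟨hA _ e, mem_center_iff.2 fun u => commutatorElement_eq_one_iff_mul_comm.1
        ((commutator_pow_right (commute_of_mem_center (k u g).2 g) p).trans (h.pow (k u g).1))⟩))).trans (h.card_Z hx).le))
  obtain ⟨g, rfl⟩ := hg.le (mem_zpowers _)
  have k2 := A.card_mul_index
  have k3 := (zpowers g).card_mul_index
  have k4 : g ≠ 1 := fun e => hx (h.le (k1.le (show f x = 1 by
    have := hg.ge ⟨x, rfl⟩
    rwa [e, map_one, zpowers_one_eq_bot] at this)))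
  obtain ⟨j, hj⟩ := IsPGroup.iff_orderOf.1 h.pg g
  rcases j with _ | j
  · exact absurd (orderOf_eq_one_iff.1 hj) k4
  rw [← k2, h.card, ← k1, index_ker, ← hg, Nat.card_zpowers, Nat.card_zpowers, show f g = g ^ p from rfl,
    orderOf_pow_of_dvd hp.out.ne_zero (hj ▸ dvd_pow_self p j.succ_ne_zero), hj, pow_succ, Nat.mul_div_cancel _ hp.out.pos] at k3
  exact ⟨zpowers g, inferInstance, Nat.eq_of_mul_eq_mul_left (pow_pos hp.out.pos (j + 1)) (by rw [pow_succ, k3]; ring)⟩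

variable (hv : v ∈ h.pcen.D)
include hv

omit hx in
theorem comm2 : ⁅x, ⁅x, v⁆⁆ ∈ A := (h.mem _).2 ⟨(h.comm_D (h.comm_D hv x) x).1, by
  rw [h.comm_pow (h.comm_D hv x), h.comm_pow hv, commutatorElement_eq_one_iff_commute.2 (commute_of_mem_center
    (h.comm_mem ((h.mem _).2 ⟨_root_.pow_mem hv.1 p, hv.2⟩) x).2 x).symm]⟩

theorem big0 (h1 : v ^ p ∉ center G) (k : Commute x ⁅x, ⁅x, v⁆⁆) : x ^ p ∉ C1[v] := fun c => by
  obtain ⟨j, hj⟩ := dvd_choose_two hp.out h.odd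
  have := comm_pow_left k ((h.comm_D hv x).1 _ (h.comm2 hv)) p
  rw [commutatorElement_eq_one_iff_mul_comm.2 (mem_cent1.1 c), hj, pow_mul, h.pow (h.comm2 hv), one_pow, one_mul,
    h.comm_pow hv, eq_comm, commutatorElement_eq_one_iff_commute] at this
  exact h1 (h.cen_of' hx ((h.mem _).2 ⟨_root_.pow_mem hv.1 p, hv.2⟩) this).2

theorem big1 (h1 : v ^ p ∉ center G) (k : ¬ Commute x ⁅x, ⁅x, v⁆⁆) (hc : c ∈ C[A]) (hc' : Commute x c) : c ∈ A := by
  have hv' : v ^ p ∈ A := (h.mem _).2 ⟨_root_.pow_mem hv.1 p, hv.2⟩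
  have hu := h.comm_D hv x
  have e1 := h.comm_pow hv x
  have k1 := e1 ▸ h.comm_mem hv' x
  have k2 : ⁅x, v⁆ ^ p ≠ 1 := fun e => h1 (h.cen_of' hx hv' (commutatorElement_eq_one_iff_commute.1 (e1 ▸ e))).2
  have hw := h.comm2 (x := x) hv
  have k3 : Commute ⁅x, ⁅x, v⁆⁆ ⁅x, v⁆ := hu.1 _ hw
  by_contra e
  obtain ⟨j, j1, j2⟩ := PGrp.exists_pow_not_mem h.pg e
  have hd : c ^ p ^ j ∈ h.pcen.D := ⟨_root_.pow_mem hc _, h.pow j2⟩
  have c1 := hc'.pow_right (p ^ j)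
  generalize c ^ p ^ j = d at *
  obtain ⟨i, hi⟩ := mem_zpowers_iff.1 ((h.Z_eq hx k1 k2).ge (h.cen_of' hx j2 (c1.pow_right p)))
  have k5 : (⁅x, v⁆ ^ i)⁻¹ * d ∈ A := (h.mem _).2 ⟨mul_mem (inv_mem (zpow_mem hu.1 i)) hd.1, by
    rw [h.pcen.mul_pow (inv_mem (zpow_mem hu.1 i)) hd.1 hd.2, ← hi, inv_pow, ← zpow_natCast, zpow_comm, zpow_natCast,
      inv_mul_cancel]⟩
  have k6 := commutator_mul_right (x := x) (commute_of_mem_center (h.comm_mem k5 x).2 (⁅x, v⁆ ^ i))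
  rw [mul_inv_cancel_left, commutatorElement_eq_one_iff_commute.2 c1, commutator_zpow_right k3, eq_comm,
    mul_eq_one_iff_eq_inv] at k6
  obtain ⟨j, rfl⟩ := dvd_of_zpow_mem hp.out (H := center G) (fun c => k (commute_of_mem_center c x).symm)
    (h.pow hw ▸ one_mem _) (k6 ▸ (center G).inv_mem (h.comm_mem k5 x).2)
  exact j1 ((h.mem d).2 ⟨hd.1, by rw [← hi, zpow_mul, zpow_natCast, hu.2, one_zpow]⟩)

end Bk

theorem not_cyc (hd : p ∣ Nat.card G) (hnc : ∀ C : Subgroup G, IsCyclic C → C.index ≠ p) : ¬ IsCyclic G := fun k => by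
  obtain ⟨g, hg⟩ := IsCyclic.exists_generator (α := G)
  have e := orderOf_eq_card_of_forall_mem_zpowers hg
  have k2 := (zpowers (g ^ p)).card_mul_index
  rw [← e] at hd
  rw [Nat.card_zpowers, orderOf_pow_of_dvd hp.out.ne_zero hd, ← e] at k2
  exact hnc _ inferInstance (Nat.eq_of_mul_eq_mul_left (Nat.div_pos (Nat.le_of_dvd (orderOf_pos g) hd) hp.out.pos)
    (k2.trans (Nat.div_mul_cancel hd).symm))

theorem card_closure_le (hA : Abelem p A) (T : Finset G) (h : (T : Set G) ⊆ A) : #(closure (T : Set G)) ≤ p ^ T.card := by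
  classical
  induction T using Finset.induction_on with
  | empty => simp
  | insert t T ht ih =>
    rw [Finset.coe_insert, Set.insert_subset_iff] at h
    rw [Finset.coe_insert, Set.insert_eq, Subgroup.closure_union, ← zpowers_eq_closure, sup_comm, Finset.card_insert_of_notMem ht, pow_succ]
    by_cases k : t ∈ closure (T : Set G)
    · rw [sup_eq_left.2 (zpowers_le.2 k)]; exact (ih h.2).trans (Nat.le_mul_of_pos_right _ hp.out.pos)
    rw [card_sup_zpowers hp.out (cent_sub _ (centS ((closure_le _).2 h.2) (hA.cent h.1))) k (hA.2 t h.1 ▸ one_mem _)]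
    exact Nat.mul_le_mul_right p (ih h.2)

theorem meta_aut' [Fact (Nat.Prime 3)] (h : MX 3 G n) (hi : L.index = 3) (hm : IsMetacyclic L)
    (hnc : ∀ C : Subgroup L, IsCyclic C → C.index ≠ 3) (hn : 3 ∣ #L) (hx : x ∉ L) (hxp : x ^ 3 = 1) :
    ¬ ∀ y ∈ L, y ^ 3 = 1 → Commute x y := fun k => by
  have nc := not_cyc hn hnc
  obtain ⟨h3, h4⟩ := BG4.Ohm1_metacyclic' (h.pg.to_subgroup L) (by norm_num) hm nc
  have hc : x ∈ C[omegaOne 3 L] := fun a ha => (k a (Ohm_sub _ _ ha) (h3.2 a ha)).symm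
  have k1 := L.card_mul_index
  rw [hi, h.card, pow_succ] at k1
  replace k1 := Nat.eq_of_mul_eq_mul_right three_pos k1
  by_cases k2 : 3 ≤ n
  · obtain ⟨T, t1, t2⟩ := h.three k2 (omegaOne 3 L ⊔ zpowers x)
    have := card_closure_le (abelemY h3 ⟨inferInstance, fun a ha => pow_eq_one_of_mem_zpowers hxp ha⟩
      (cents_symm (zpowers_le.2 hc))) T (t2 ▸ subset_closure)
    rw [t2, card_sup_zpowers Nat.prime_three (cent_sub _ hc) (fun c => hx (Ohm_sub _ _ c)) (hxp ▸ one_mem _), h4] at this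
    exact absurd (this.trans (Nat.pow_le_pow_right three_pos t1)) (by norm_num)
  have key : ∀ g : L, ∀ j, orderOf g = 3 ^ j → j ≠ n := fun g j e c => hnc (zpowers g) inferInstance
    (Nat.eq_of_mul_eq_mul_left (pow_pos three_pos n) (by rw [← pow_succ, ← k1, ← (zpowers g).card_mul_index, Nat.card_zpowers, e, c]))
  have k3 := h4 ▸ k1 ▸ card_le_of_le (Ohm_sub 3 L)
  rw [Nat.pow_le_pow_iff_right (by norm_num)] at k3
  obtain rfl | rfl : n = 1 ∨ n = 2 := by omega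
  · obtain ⟨g, e⟩ := exists_prime_orderOf_dvd_card' 3 hn
    exact key g 1 e rfl
  obtain ⟨g, g1, g2⟩ := SetLike.not_le_iff_exists.1 fun c : L ≤ omegaOne 3 L => absurd (h4 ▸ k1 ▸ card_le_of_le c) (by norm_num)
  obtain ⟨j, j1, j2⟩ := (Nat.dvd_prime_pow Nat.prime_three).1 (k1 ▸ orderOf_dvd_natCard (⟨g, g1⟩ : L))
  obtain c | rfl | rfl : j ≤ 1 ∨ j = 2 ∨ j = 3 := by omega
  · rw [orderOf_mk] at j2
    exact g2 (mem_Ohm1 g1 (orderOf_dvd_iff_pow_eq_one.1 (by simpa [j2] using pow_dvd_pow 3 c)))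
  · exact key _ 2 j2 rfl
  · exact nc (isCyclic_of_orderOf_eq_card _ (j2.trans k1.symm))

theorem meta_aut (hG : IsPGroup p G) (h2 : p ≠ 2) (hi : L.index = p) (hm : IsMetacyclic L)
    (hnc : ∀ C : Subgroup L, IsCyclic C → C.index ≠ p) (hx : x ∉ L) (hxp : x ^ p = 1) (hy : y ∈ L) (hyp : y ^ p = 1)
    (hc : ¬ Commute x y) : p = 3 ∧ #C1[x] ≤ p ^ 2 := by
  haveI := normal_of_index_eq hG hi
  obtain ⟨h3, h4⟩ := BG4.Ohm1_metacyclic' (hG.to_subgroup L) h2 hm (not_cyc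
    (orderOf_eq_prime hyp (fun e => hc (e ▸ Commute.one_right x)) ▸ L.orderOf_dvd_natCard hy) hnc)
  set A := omegaOne p L
  have AL : A ≤ L := Ohm_sub p L
  haveI : A.Normal := normalizer_eq_top_iff.1 (eq_top_iff.2 (norms_Ohm p (norm_of_normal L ⊤)))
  have AC : A ≤ C[A] := h3.cent
  have hxC : x ∉ C[A] := fun k => hc (k y (mem_Ohm1 hy hyp)).symm
  have hA : ∀ a ∈ L, a ∈ A ↔ a ∈ C[A] ∧ a ^ p = 1 := fun a ha => ⟨fun k => ⟨AC k, h3.2 a k⟩, fun k => mem_Ohm1 ha k.2⟩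
  have bL := bk_sub hG h2 h4 AL hA
  set H := L ⊓ C[A] ⊔ zpowers x with hH
  have l1 : L ⊓ C[A] ≤ H := le_sup_left
  have AH := (le_inf AL AC).trans l1
  have xH : x ∈ H := mem_sup_right (mem_zpowers x)
  have HC : ∀ a ∈ H, a ∈ C[A] → a ∈ L := fun a ha k => by
    obtain ⟨l, hl, i, rfl⟩ := (mem_sup_zpowers (norm_of_normal _ ⊤ trivial)).1 ha
    obtain ⟨j, rfl⟩ := dvd_of_zpow_mem hp.out hxC (hxp ▸ one_mem _) ((mul_mem_cancel_left (mem_inf.1 hl).2).1 k)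
    rw [zpow_mul, zpow_natCast, hxp, one_zpow, mul_one]; exact hl.1
  have bH := bk_sub hG h2 h4 AH fun a ha => ⟨fun k => ⟨AC k, h3.2 a k⟩, fun k => mem_Ohm1 (HC a ha k.1) k.2⟩
  have hx' : (⟨x, xH⟩ : H) ∉ C[A.subgroupOf H] := mt (mem_C_sub AH).1 hxC
  obtain ⟨u, u1, u2⟩ := (bot_or_exists_ne_one _).resolve_left (meet_center_nil (hG.to_subgroup ⊤).isNilpotent
    ⟨le_top, norm_of_normal A ⊤⟩ fun e => by rw [e, card_bot] at h4; exact (Nat.one_lt_pow two_ne_zero hp.out.one_lt).ne h4)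
  have uZ : ∀ {K : Subgroup G} (hK : A ≤ K), Bk p (A.subgroupOf K) → ∀ c : K, c ∉ C[A.subgroupOf K] →
      ∀ a ∈ A.subgroupOf K ⊓ center K, (a : G) ∈ zpowers u := fun hK b c k a ha => by
    obtain ⟨i, hi⟩ := (b.Z_eq k (c := ⟨u, hK u1.1⟩) ⟨u1.1, mem_center_iff.2 fun g => Subtype.ext (u1.2.2 g trivial)⟩
      fun e => u2 (congrArg Subtype.val e)).ge ha
    exact ⟨i, congrArg Subtype.val hi⟩
  have uC : ∀ a ∈ zpowers u, ∀ g, Commute g a := fun a ⟨i, e⟩ g => e ▸ (show Commute g u from u1.2.2 g trivial).zpow_right i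
  have zA : ∀ a ∈ A, Commute x a → a ∈ zpowers u := fun a ha k =>
    uZ AH bH _ hx' ⟨a, AH ha⟩ (bH.cen_of' hx' ha (Subtype.ext k))
  have cyc : IsCyclic (γ L 1) := BG4.metacyclic_der_cyclic (BG4.metacyclic_top.2 hm)
  by_cases k : ∀ v ∈ L ⊓ C[A], (v ^ p) ^ p = 1 → Commute x (v ^ p)
  · have k1 : ∀ {K : Subgroup G} (hK : A ≤ K) (b : Bk p (A.subgroupOf K)), (∀ a ∈ K, a ∈ C[A] → a ∈ L) →
        ∀ v ∈ b.pcen.D, v ^ p ∈ center K := fun hK b e v hv => mem_center_iff.2 fun g => Subtype.ext (uC _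
      (zA _ ((b.mem _).2 ⟨pow_mem hv.1 p, hv.2⟩) (k v ⟨e v v.2 ((mem_C_sub hK).1 hv.1), (mem_C_sub hK).1 hv.1⟩
        (congrArg Subtype.val hv.2))) g)
    by_cases k2 : L ≤ C[A]
    · obtain ⟨z, m, hz⟩ := bH.exists_z hx' (k1 AH bH HC)
      have k3 := L.card_mul_index
      have k4 := (zpowers (⟨z, HC z z.2 ((mem_C_sub AH).1 hz.z_mem)⟩ : L)).card_mul_index
      rw [hi, ← Subgroup.card_top (G := G), show ⊤ = H by rw [hH, inf_eq_left.2 k2, sup_zpowers_eq_top hi hx],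
        hz.card' hx', pow_succ] at k3
      rw [Nat.card_zpowers, orderOf_mk, orderOf_coe, hz.ord, Nat.eq_of_mul_eq_mul_right hp.out.pos k3, pow_succ p (m + 1)] at k4
      exact absurd (Nat.eq_of_mul_eq_mul_left (pow_pos hp.out.pos _) k4) (hnc _ inferInstance)
    obtain ⟨c, c1, c2⟩ := SetLike.not_le_iff_exists.1 k2
    have c3 : (⟨c, c1⟩ : L) ∉ C[A.subgroupOf L] := mt (mem_C_sub AL).1 c2
    obtain ⟨z, m, hz⟩ := bL.exists_z c3 (k1 AL bL fun _ a _ => a)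
    obtain ⟨C, e1, e2⟩ := bL.cyc_index c3 (fun a ha => ⟨(hz.γ_two c3).1 ha, bL.cyc_comm c3 cyc ((hz.γ_two c3).1 ha) ha⟩)
      fun a ha => mem_Ohm1 a.2 (congrArg Subtype.val ha)
    exact absurd e2 (hnc C e1)
  push Not at k
  obtain ⟨v, v1, v2, v3⟩ := k
  have v4 : (⟨v, l1 v1⟩ : H) ∈ bH.pcen.D := ⟨(mem_C_sub AH).2 v1.2, Subtype.ext v2⟩
  have v5 : (⟨v, l1 v1⟩ : H) ^ p ∉ center H := fun e => v3 (congrArg Subtype.val (mem_center_iff.1 e ⟨x, xH⟩))
  have x1 : (⟨x, xH⟩ : H) ^ p = 1 := Subtype.ext hxp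
  have k1 : ∀ c ∈ L ⊓ C[A], Commute x c → c ∈ A := fun c hc e => bH.big1 hx' v4 v5
    (fun e => bH.big0 hx' v4 v5 e (x1 ▸ one_mem _)) (c := ⟨c, l1 hc⟩) ((mem_C_sub AH).2 hc.2) (Subtype.ext e)
  refine ⟨((bH.big hx' v4 v5).resolve_left fun e => e.1 x1).1, ?_⟩
  rw [← card_inf_mul_relIndex L, sq]
  refine Nat.mul_le_mul ((card_le_of_le fun c hc => ?_).trans (card_zpowers_of_pow_eq_one (h3.2 u u1.1) u2).le)
    ((relIndex_le_of_le_right le_top (by simpa using index_ne_zero_of_finite)).trans (by simp [hi]))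
  have e : Commute x c := (mem_cent1.1 hc.2).symm
  refine zA c (k1 c ⟨hc.1, by_contra fun c2 => ?_⟩ e) e
  have c3 : (⟨c, hc.1⟩ : L) ∉ C[A.subgroupOf L] := mt (mem_C_sub AL).1 c2
  have v6 : (⟨v, v1.1⟩ : L) ∈ bL.pcen.D := ⟨(mem_C_sub AL).2 v1.2, Subtype.ext v2⟩
  refine bL.big0 c3 v6 (fun e => v3 (uC _ (uZ AL bL _ c3 _ ⟨(bL.mem _).2 ⟨pow_mem v6.1 p, v6.2⟩, e⟩) x))
    (commute_of_mem_center (bL.cyc_comm c3 cyc (bL.comm2 v6) (γ_anti one_le_two (comm_mem_γ _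
      (comm_mem_γ (i := 0) _ trivial)))) _).symm (mem_cent1.2 (Subtype.ext ?_))
  exact v1.2 _ (k1 _ ⟨pow_mem (mem_inf.1 hc).1 p, (mem_C_sub AL).1 (bL.pow_mem c3 ⟨c, hc.1⟩)⟩ (e.pow_right p))

end Cfsg.Agent.Fus
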