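import Cfsg.Agent.Fus.Psv

/-! A general construction of saturated subsystems from invariant families of automorphism groups. -/

set_option autoImplicit false

namespace Cfsg.Agent.Fus

open Subgroup Cfsg Cfsg.Agent.Loc Equiv
open Cfsg.FusionSystem (normalizerIn centralizerIn)
open scoped commutatorElement

theorem sylIn_sup_of_inf {G : Type*} [Group G] {p : ℕ} {A W : Subgroup G} (hA : IsPGroup p A) (hn : A ≤ normalizer (W : Set G))
    (h : SylIn p (A ⊓ W) W) : SylIn p A (W ⊔ A) := ⟨le_sup_right, hA, fun Q h1 h2 h3 => le_antisymm (fun q hq => by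
  obtain ⟨w, hw, a, ha, rfl⟩ := (mem_sup_of_le_normalizer_left hn).1 (h1 hq)
  have : w ∈ A ⊓ W := h.max (Q ⊓ W) inf_le_right (h2.to_le inf_le_left) (inf_le_inf_right W h3) ▸
    mem_inf.2 ⟨by simpa using Q.mul_mem hq (Q.inv_mem (h3 ha)), hw⟩
  exact A.mul_mem this.1 ha) h3⟩

theorem inf_OpA_le {G : Type*} [Group G] {p : ℕ} [Fact p.Prime] {B U M : Subgroup G} [Finite B] (hU : SylIn p U B)
    (h : ∀ b ∈ B, (orderOf b).Coprime p → ∀ R ≤ U, b ∈ normalizer (R : Set G) → ∀ u ∈ R, u⁻¹ * (b * u * b⁻¹) ∈ M) :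
    U ⊓ OpA p B ≤ M := by
  have hF := grpFS_sub B U hU.le
  rw [← hF.hyp_eq hU]
  refine hyp_le_iff.2 fun R hR a ha hp u hu => ?_
  rw [hF.AutF_eq hR] at ha
  obtain ⟨b, h1, h2, h3, rfl⟩ := AutK_pprime ha hp
  rw [cr_apply h2 hu]
  exact h b h1 h3 R hR h2 u hu

theorem mem_of_pprime_of_mem_sup {G : Type*} [Group G] {p : ℕ} {A W : Subgroup G} (hA : IsPGroup p A) (hn : A ≤ normalizer (W : Set G))
    {b : G} (hb : b ∈ W ⊔ A) (hp : (orderOf b).Coprime p) : b ∈ W := by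
  obtain ⟨a, ha, w, hw, rfl⟩ := (mem_sup_of_le_normalizer_right hn).1 (sup_comm W A ▸ hb)
  obtain ⟨k, hk⟩ := exists_pow_of_isPGroup hA ha
  exact mem_of_pow_mem hp (k := k) (by simp) (by simpa [hk] using mul_pow_mem (hn ha) hw (p ^ k))

variable {Ω : Type*} [Group Ω] {S T S₀ U P Q R N V W X Y : Subgroup Ω} {p n : ℕ} {F : FusionSystem S}
  {a b f g k l : Perm Ω} {ℋ : Subgroup Ω → Prop} {B : Subgroup Ω → Subgroup (Perm Ω)}

/-- Hypotheses of the construction. -/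
structure TG (F : FusionSystem S) (p : ℕ) (T S₀ : Subgroup Ω) (ℋ : Subgroup Ω → Prop) (B : Subgroup Ω → Subgroup (Perm Ω)) : Prop where
  sat : Sat F p
  scT : F.StronglyClosed T
  scS : F.StronglyClosed S₀
  le : T ≤ S₀
  hle : ∀ {V}, ℋ V → V ≤ S₀
  up : ∀ {V W}, ℋ V → V ⊓ T ≤ W → W ≤ S₀ → ℋ W
  iso : ∀ {V W f}, ℋ V → Iso F f V W → ℋ W
  fcr : ∀ {P}, F.IsCentric P → F.IsRadical p P → ℋ (P ⊓ S₀)
  star : ∀ {V}, V ≤ S₀ → ¬ ℋ V → ∃ f W, Iso F f V W ∧ ∃ t ∈ T, t ∉ W ∧ t ∈ normalizer (W : Set Ω) ∧ cr W t ∈ pCoreOf p (AutF F W)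
  Ble : ∀ {V}, ℋ V → B V ≤ AutF F V
  conj : ∀ {V W f b}, ℋ V → Iso F f V W → b ∈ B V → f * b * f⁻¹ ∈ B W
  cu : ∀ {V b}, ℋ V → b ∈ B V → CU T V b
  inn : ∀ {V}, ℋ V → AutK T V ≤ B V
  res : ∀ {V W b}, ℋ V → ℋ W → W ≤ V → b ∈ B V → Maps b W W → res W b ∈ B W
  l1 : ∀ {V b R u}, ℋ V → F.IsFullyNormalized V → F.IsFullyNormalized (V ⊓ T) → b ∈ B V → (orderOf b).Coprime p →
    R ≤ AutK S V ⊓ B V → b ∈ normalizer (R : Set (Perm Ω)) → u ∈ R → u⁻¹ * (b * u * b⁻¹) ∈ AutK T V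
  x4 : ∀ {V b X}, ℋ V → F.IsFullyNormalized V → F.IsFullyNormalized (V ⊓ T) → b ∈ B V → (orderOf b).Coprime p → V ≤ X →
    X ≤ normalizerIn S₀ V → (∀ x ∈ X, ∃ t ∈ X ⊓ T, ∀ y ∈ V, b (x * y * x⁻¹) = t * x * b y * (t * x)⁻¹) → ∃ g ∈ B X, ∀ x ∈ V, g x = b x

/-- Products of `p'`-elements of the groups `B V`. -/
def ZG (F : FusionSystem S) (p : ℕ) (S₀ : Subgroup Ω) (ℋ : Subgroup Ω → Prop) (B : Subgroup Ω → Subgroup (Perm Ω)) (P : Subgroup Ω)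
    (f : Perm Ω) : Prop :=
  ∀ C, Closed F C → C S₀ 1 → (∀ V b, ℋ V → b ∈ B V → (orderOf b).Coprime p → C V b) → C P f

theorem closed_ZG : Closed F (ZG F p S₀ ℋ B) where
  congr h e C hC h1 h2 := hC.congr (h C hC h1 h2) e
  mono h e C hC h1 h2 := hC.mono (h C hC h1 h2) e
  mul i j h h' C hC h1 h2 := hC.mul i j (h C hC h1 h2) (h' C hC h1 h2)
  inv i h C hC h1 h2 := hC.inv i (h C hC h1 h2)

theorem zg_one (hP : P ≤ S₀) : ZG F p S₀ ℋ B P 1 := fun _ hC h _ => hC.mono h hP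

theorem zg_gen (hV : ℋ V) (hb : b ∈ B V) (hp : (orderOf b).Coprime p) : ZG F p S₀ ℋ B V b := fun _ _ _ h => h V b hV hb hp

theorem closed_le (h : F.StronglyClosed S₀) : Closed F fun P _ => P ≤ S₀ where
  congr h _ := h
  mono h e := e.trans h
  mul _ _ h _ := h
  inv i k := fun y hy => by obtain ⟨x, hx, rfl⟩ := i.maps.exists_eq hy; exact sc_mem h i.mor hx (k hx)

theorem Closed.and {C D : Subgroup Ω → Perm Ω → Prop} (hC : Closed F C) (hD : Closed F D) : Closed F fun P f => C P f ∧ D P f where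
  congr h e := ⟨hC.congr h.1 e, hD.congr h.2 e⟩
  mono h e := ⟨hC.mono h.1 e, hD.mono h.2 e⟩
  mul i j h h' := ⟨hC.mul i j h.1 h'.1, hD.mul i j h.2 h'.2⟩
  inv i h := ⟨hC.inv i h.1, hD.inv i h.2⟩

theorem Closed.mul' {C : Subgroup Ω → Perm Ω → Prop} (hC : Closed F C) (hg : Mor F Q g) (hf : Mor F P f) (h' : C Q g) (h : C P f)
    (hm : ∀ x ∈ P, f x ∈ Q) : C P (g * f) :=
  hC.mul hf.iso (hg.mono (img_le_iff.2 hm)).iso h (hC.mono h' (img_le_iff.2 hm))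

theorem CU.mem_sup (h : CU T P f) {x : Ω} (hx : x ∈ P) : f x ∈ T ⊔ P := by
  simpa using mul_mem (mem_sup_right hx : x ∈ T ⊔ P) (mem_sup_left (h x hx))

theorem CU.mem_sup' (h : CU T P f) {x : Ω} (hx : x ∈ P) (hx' : f x ∈ Q) : x ∈ T ⊔ Q := by
  simpa using mul_mem (mem_sup_right hx' : f x ∈ T ⊔ Q) (inv_mem (mem_sup_left (h x hx)))

namespace TG

theorem S₀_le (h : TG F p T S₀ ℋ B) : S₀ ≤ S := h.scS.1
theorem T_le (h : TG F p T S₀ ℋ B) : T ≤ S := h.scT.1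
theorem hle' (h : TG F p T S₀ ℋ B) (hV : ℋ V) : V ≤ S := (h.hle hV).trans h.S₀_le
theorem biso (h : TG F p T S₀ ℋ B) (hV : ℋ V) (hb : b ∈ B V) : Iso F b V V := iso_of_AutF (h.hle' hV) (h.Ble hV hb)

theorem normal (h : TG F p T S₀ ℋ B) (hV : ℋ V) : AutF F V ≤ normalizer (B V : Set (Perm Ω)) :=
  le_normalizer_of_cj_le fun _ hc => cj_le_iff_forall.2 fun _ hb => h.conj hV (iso_of_AutF (h.hle' hV) hc) hb

theorem normal' (h : TG F p T S₀ ℋ B) (hV : ℋ V) : AutF F V ≤ normalizer (OpA p (B V) : Set (Perm Ω)) :=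
  le_normalizer_of_cj_le fun _ hc => cj_OpA_le (cj_eq_of_mem_normalizer (h.normal hV hc)).le

theorem zmor (h : TG F p T S₀ ℋ B) (hf : ZG F p S₀ ℋ B P f) : Mor F P f :=
  hf _ (closed_mor F) (mor_one F h.S₀_le) fun _ _ hV hb _ => (h.biso hV hb).mor

theorem zle (h : TG F p T S₀ ℋ B) (hf : ZG F p S₀ ℋ B P f) : P ≤ S₀ :=
  hf _ (closed_le h.scS) le_rfl fun _ _ hV _ _ => h.hle hV

theorem zcu (h : TG F p T S₀ ℋ B) (hf : ZG F p S₀ ℋ B P f) : CU T P f :=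
  hf _ (closed_CU F T) (fun _ _ => by simp) fun _ _ hV hb _ => h.cu hV hb

theorem zmul (h : TG F p T S₀ ℋ B) (hg : ZG F p S₀ ℋ B Q g) (hf : ZG F p S₀ ℋ B P f) (hm : ∀ x ∈ P, f x ∈ Q) :
    ZG F p S₀ ℋ B P (g * f) := closed_ZG.mul' (h.zmor hg) (h.zmor hf) hg hf hm

theorem z_OpA (h : TG F p T S₀ ℋ B) (hV : ℋ V) : ∀ b ∈ OpA p (B V), ZG F p S₀ ℋ B V b :=
  closed_ZG.of_closure (h.hle' hV) (fun _ k => h.Ble hV k.1) (zg_one (h.hle hV)) fun _ k => zg_gen hV k.1 k.2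

variable [Finite S]

theorem zconj (h : TG F p T S₀ ℋ B) (hf : ZG F p S₀ ℋ B P f) (hk : Mor F (T ⊔ P) k) (hm : Maps k P Q) :
    ZG F p S₀ ℋ B Q (k * f * k⁻¹) := by
  have hC : Closed F fun P f => CU T P f ∧ ∀ V ≤ P, ∀ k : Perm Ω, Mor F (T ⊔ V) k → ZG F p S₀ ℋ B (img k V) (k * f * k⁻¹) :=
    { congr := fun k e => ⟨k.1.congr e, fun V hV l hl => closed_ZG.congr (k.2 V hV l hl) fun y hy => by
        obtain ⟨x, hx, rfl⟩ := (hl.homOn.mono le_sup_right).mem_img.1 hy; simp [e x (hV hx)]⟩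
      mono := fun k e => ⟨k.1.mono e, fun V hV => k.2 V (hV.trans e)⟩
      mul := fun i j k k' => ⟨k'.1.mul k.1 fun _ => i.mem, fun V hV l hl => by
        have i' := i.restrict hV
        have := h.zmul (k'.2 _ ((i'.maps.le_iff i.maps).2 hV) l (hl.mono (sup_le le_sup_left (img_le_iff.2 fun x hx =>
          (k.1.mono hV).mem_sup hx)))) (k.2 V hV l hl) fun y hy => by
            obtain ⟨x, hx, rfl⟩ := (hl.homOn.mono le_sup_right).mem_img.1 hy; simpa using mem_img_of_mem _ (i'.mem hx)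
        simpa [mul_assoc] using this⟩
      inv := fun i k => ⟨k.1.inv i.maps, fun V hV l hl => by
        have i' := i.symm.restrict hV
        have h1 := (i'.maps.le_iff i.maps.symm).2 hV
        have h2 := hl.mono (sup_le le_sup_left (img_le_iff.2 fun x hx => ((k.1.inv i.maps).mono hV).mem_sup hx))
        have h3 := k.2 _ h1 l h2
        have := closed_ZG.inv ⟨h.zmor h3, (h2.mono le_sup_right).maps_img.symm.trans (i'.maps.symm.trans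
          (hl.mono le_sup_right).maps_img)⟩ h3
        simpa [mul_assoc] using this⟩ }
  refine hm.img_eq ▸ (hf _ hC ⟨fun _ _ => by simp, fun V hV l hl => ?_⟩ (fun W b hW hb hp => ⟨h.cu hW hb, fun V hV l hl => ?_⟩)).2
    P le_rfl k hk
  · simpa using zg_one (img_le_iff.2 fun x hx => sc_mem h.scS hl (mem_sup_right hx) (hV hx))
  · have hW' : ℋ (W ⊓ (T ⊔ V)) := h.up hW (inf_le_inf_left W le_sup_left) (inf_le_left.trans (h.hle hW))
    haveI := finite_of_le (h.hle' hW')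
    have hi := h.biso hW hb
    have hm := (h.cu hW hb).maps_of_le hi.homOn hi.maps (inf_le_inf_left W (le_sup_left : T ≤ T ⊔ V)) inf_le_left
    have hl' := (hl.mono (inf_le_right : W ⊓ (T ⊔ V) ≤ _)).iso
    refine closed_ZG.congr (closed_ZG.mono (zg_gen (h.iso hW' hl') (h.conj hW' hl' (h.res hW hW' inf_le_left hb hm))
      (coprime_conj (coprime_res hm hp) l)) (img_mono _ (le_inf hV le_sup_right))) fun y hy => ?_
    obtain ⟨x, hx, rfl⟩ := (hl.homOn.mono le_sup_right).mem_img.1 hy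
    simp [res_apply hm ⟨hV hx, mem_sup_right hx⟩]

theorem z_mem_sup (h : TG F p T S₀ ℋ B) (hk : Mor F (T ⊔ P) k) (hf : ZG F p S₀ ℋ B P (k⁻¹ * f)) (hm : ∀ x ∈ P, f x ∈ Q) :
    ∀ x ∈ T ⊔ P, k x ∈ T ⊔ Q := hk.homOn.mem_of_sup (fun x hx => mem_sup_left (sc_mem h.scT hk (mem_sup_left hx) hx)) fun x hx => by
  have h1 := h.zcu hf x hx
  have h2 := mul_mem (mem_sup_right (hm x hx) : f x ∈ T ⊔ Q) (inv_mem (mem_sup_left (sc_mem h.scT hk (mem_sup_left h1) h1)))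
  rw [hk.homOn.map_inv_mul (mem_sup_right hx) ((h.zcu hf).mem_sup hx)] at h2
  simpa using h2

theorem z_maps (h : TG F p T S₀ ℋ B) (hk : Mor F (T ⊔ P) k) (hf : ZG F p S₀ ℋ B P (k⁻¹ * f)) (hm : Maps f P Q) :
    Maps k (T ⊔ P) (T ⊔ Q) := by
  have : img k (T ⊔ P) = T ⊔ Q := le_antisymm (img_le_iff.2 (h.z_mem_sup hk hf fun _ => hm.mem))
    (sup_le ((sc_maps h.scT hk le_sup_left).img_eq.ge.trans (img_mono _ le_sup_left)) fun y hy => by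
      obtain ⟨x, hx, rfl⟩ := hm.exists_eq hy
      simpa using mem_img_of_mem k ((h.zcu hf).mem_sup hx))
  exact this ▸ hk.maps_img

theorem fk_mul (h : TG F p T S₀ ℋ B) (hk : Mor F (T ⊔ P) k) (hf : ZG F p S₀ ℋ B P (k⁻¹ * f)) (hg : ZG F p S₀ ℋ B Q (l⁻¹ * g))
    (hfm : Mor F P f) (hm : ∀ x ∈ P, f x ∈ Q) : ZG F p S₀ ℋ B P ((l * k)⁻¹ * (g * f)) := by
  have h1 := hk.inv (h.z_maps hk hf hfm.maps_img)
  have h2 := h.zconj (closed_ZG.mono hg (img_le_iff.2 hm)) h1 (h1.mono le_sup_right).maps_img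
  simpa [mul_assoc] using h.zmul h2 hf fun x hx => mem_img_of_mem _ (mem_img_of_mem _ hx)

theorem fk_inv (h : TG F p T S₀ ℋ B) (hk : Mor F (T ⊔ P) k) (hf : ZG F p S₀ ℋ B P (k⁻¹ * f)) (hm : Maps f P Q) :
    ZG F p S₀ ℋ B Q (k⁻¹⁻¹ * f⁻¹) := by
  have h1 := (h.zmor hf).iso
  have h2 := h1.maps.symm.trans hm
  have h3 := h.zconj (closed_ZG.inv h1 hf) (hk.mono (sup_le le_sup_left (img_le_iff.2 fun x hx => (h.zcu hf).mem_sup hx)))
    (Q := Q) (by simpa [mul_assoc] using h2)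
  simpa [mul_assoc] using h3

theorem mor_of_fk (h : TG F p T S₀ ℋ B) (hk : Mor F (T ⊔ P) k) (hf : ZG F p S₀ ℋ B P (k⁻¹ * f)) : Mor F P f := by
  simpa using hk.mul (h.zmor hf) fun x hx => (h.zcu hf).mem_sup hx

theorem closed_fk (h : TG F p T S₀ ℋ B) :
    Closed F fun P f => ∃ k : Perm Ω, Mor F (T ⊔ P ⊓ S₀) k ∧ ZG F p S₀ ℋ B (P ⊓ S₀) (k⁻¹ * f) where
  congr := fun ⟨k, h1, h2⟩ e => ⟨k, h1, closed_ZG.congr h2 fun x hx => by simp [e x hx.1]⟩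
  mono := fun ⟨k, h1, h2⟩ e => ⟨k, h1.mono (sup_le_sup_left (inf_le_inf_right _ e) T), closed_ZG.mono h2 (inf_le_inf_right _ e)⟩
  mul := fun i _ ⟨k, h1, h2⟩ ⟨l, h3, h4⟩ =>
    have hm := sc_maps_inf h.scS i
    ⟨l * k, h3.mul h1 (h.z_mem_sup h1 h2 fun _ => hm.mem), h.fk_mul h1 h2 h4 (i.mor.mono inf_le_left) fun _ => hm.mem⟩
  inv := fun i ⟨k, h1, h2⟩ =>
    have hm := sc_maps_inf h.scS i
    ⟨k⁻¹, h1.inv (h.z_maps h1 h2 hm), h.fk_inv h1 h2 hm⟩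

theorem mor_cp' (h : TG F p T S₀ ℋ B) (hP : P ≤ S₀) {s : Ω} (hs : s ∈ S) : Mor F (T ⊔ P) (cp s) :=
  mor_cp F (sup_le h.T_le (hP.trans h.S₀_le)) hs

/-- The constructed system. -/
def sys (h : TG F p T S₀ ℋ B) : FusionSystem S₀ :=
  ofPerm S₀ (fun P f => ∃ s ∈ S₀, ZG F p S₀ ℋ B P ((cp s)⁻¹ * f))
    (fun _ _ ⟨_, hs, k⟩ => ⟨h.zle k, fun _ hx =>
      sc_mem h.scS (h.mor_of_fk (h.mor_cp' (h.zle k) (h.S₀_le hs)) k) hx (h.zle k hx)⟩)
    (fun _ s hP hs => ⟨s, hs, by simpa using zg_one hP⟩)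
    (fun _ _ _ _ ⟨s, hs, k⟩ ⟨u, hu, k'⟩ hm => ⟨u * s, mul_mem hu hs, by
      have h1 := h.mor_cp' (h.zle k) (h.S₀_le hs)
      rw [map_mul]; exact h.fk_mul h1 k k' (h.mor_of_fk h1 k) hm⟩)
    (fun _ _ _ ⟨s, hs, k⟩ hm => ⟨s⁻¹, inv_mem hs, by rw [map_inv]; exact h.fk_inv (h.mor_cp' (h.zle k) (h.S₀_le hs)) k hm⟩)

theorem mor_sys (h : TG F p T S₀ ℋ B) : Mor h.sys P f ↔ ∃ s ∈ S₀, ZG F p S₀ ℋ B P ((cp s)⁻¹ * f) :=
  mor_ofPerm' (fun _ _ ⟨_, hs, k⟩ => (h.mor_of_fk (h.mor_cp' (h.zle k) (h.S₀_le hs)) k).homOn)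
    fun _ _ _ ⟨s, hs, k⟩ e => ⟨s, hs, closed_ZG.congr k fun x hx => by simp [e x hx]⟩

theorem finite (h : TG F p T S₀ ℋ B) : Finite S₀ := finite_of_le h.S₀_le

theorem sub (h : TG F p T S₀ ℋ B) : h.sys.IsSubsystemOf F :=
  haveI := h.finite
  sub_iff_perm.2 fun _ _ hf => let ⟨_, hs, k⟩ := h.mor_sys.1 hf; h.mor_of_fk (h.mor_cp' (h.zle k) (h.S₀_le hs)) k

theorem mor_of_z (h : TG F p T S₀ ℋ B) (hf : ZG F p S₀ ℋ B P f) : Mor h.sys P f := h.mor_sys.2 ⟨1, one_mem _, by simpa using hf⟩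

theorem mor_gen (h : TG F p T S₀ ℋ B) (hV : ℋ V) (hb : b ∈ B V) (hp : (orderOf b).Coprime p) : Mor h.sys V b :=
  h.mor_of_z (zg_gen hV hb hp)

theorem ind (h : TG F p T S₀ ℋ B) {C : Subgroup Ω → Perm Ω → Prop} (hC : Closed h.sys C) (h1 : ∀ s ∈ S₀, C S₀ (cp s))
    (h2 : ∀ V b, ℋ V → b ∈ B V → (orderOf b).Coprime p → C V b) (hf : Mor h.sys P f) : C P f := by
  obtain ⟨s, hs, k⟩ := h.mor_sys.1 hf
  obtain ⟨k1, k2⟩ := k _ (hC.and_mor F) ⟨mor_one _ le_rfl, by simpa using h1 1 (one_mem _)⟩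
    fun V b hV hb hp => ⟨h.mor_gen hV hb hp, h2 V b hV hb hp⟩
  simpa using hC.mul' (mor_cp _ le_rfl hs) k1 (h1 s hs) k2 fun _ hx => k1.mem_S hx

theorem OpA_le (h : TG F p T S₀ ℋ B) (hV : ℋ V) : OpA p (B V) ≤ AutF h.sys V :=
  OpA_le_iff.2 fun _ hb hp => (mem_AutF (h.hle hV)).2 ⟨h.mor_gen hV hb hp, supp_of_AutF (h.Ble hV hb)⟩

variable [Fact p.Prime]

theorem top (h : TG F p T S₀ ℋ B) : ℋ S₀ := by
  have := h.fcr (centric_self F) h.sat.radical_S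
  rwa [inf_eq_right.2 h.S₀_le] at this

theorem z_of_pprime (h : TG F p T S₀ ℋ B) (hf : Iso h.sys f P P) (hp : (orderOf f).Coprime p) : ZG F p S₀ ℋ B P f := by
  obtain ⟨s, hs, k⟩ := h.mor_sys.1 hf.mor
  have h1 := h.mor_cp' (h.zle k) (h.S₀_le hs)
  have h2 : ∀ j : ℕ, ZG F p S₀ ℋ B P ((cp (s ^ j))⁻¹ * f ^ j) := fun j => by
    induction j with
    | zero => simpa using zg_one hf.le
    | succ j ih => rw [pow_succ, pow_succ, map_mul]; exact h.fk_mul h1 k ih (hf.mor.sub h.sub) fun _ => hf.mem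
  obtain ⟨i, hi⟩ := exists_pow_of_isPGroup h.sat.pg (h.S₀_le hs)
  obtain ⟨n, -, n1, c, rfl⟩ := exists_pow_pprime (p := p) (g := (1 : Ω)) (by simp) hp i
  have := h2 (p ^ i * c)
  rwa [pow_eq_of_modEq_one n1 (pow_orderOf_eq_one f), pow_mul, hi, one_pow, map_one, inv_one, one_mul] at this

theorem hyp_le (h : TG F p T S₀ ℋ B) : h.sys.hyperfocalSubgroup p ≤ T :=
  hyp_le_iff.2 fun _ hP _ ha hp => h.zcu (h.z_of_pprime (iso_of_AutF hP ha) hp)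

/-- The Frattini factorization. -/
theorem fac (h : TG F p T S₀ ℋ B) (hf : Mor F P f) : ∃ k : Perm Ω, Mor F (T ⊔ P ⊓ S₀) k ∧ ZG F p S₀ ℋ B (P ⊓ S₀) (k⁻¹ * f) := by
  have hF := h.sat
  have hC := h.closed_fk
  refine hF.alperin' hC (fun P hP ih a ha => ?_) P f hf
  obtain ⟨hn, hc, hr⟩ := hF.base_fcr hP
  have hi := iso_of_AutF hn.1 ha
  by_cases hTP : T ≤ P
  · exact ⟨a, hi.mor.mono (sup_le hTP inf_le_left), by simpa using zg_one inf_le_right⟩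
  have hV := h.fcr hc hr
  have hst := AutF_le_Stab_inf hn.1 h.scS
  have hθ := (homOn_res (P ⊓ S₀)).mono hst
  have hres : ∀ c ∈ AutF F P, Iso F (Fus.res (P ⊓ S₀) c) (P ⊓ S₀) (P ⊓ S₀) := fun c hc =>
    iso_of_AutF (h.hle' hV) (Iso.res_mem ⟨(iso_of_AutF hn.1 hc).mor.mono inf_le_left, hst hc⟩)
  have hN : AutF F P ≤ normalizer (hθ.pre (B (P ⊓ S₀)) : Set (Perm Ω)) := le_normalizer_of_cj_le fun b hb =>
    cj_le_iff_forall.2 fun c hc => ⟨mul_mem (mul_mem hb hc.1) (inv_mem hb), by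
      rw [hθ.map_conj hb hc.1]; exact h.conj hV (hres b hb) hc.2⟩
  obtain ⟨n, hn', g, hg, hm, e⟩ := hF.frattini' hn (hθ.pre_le _) hN ha
  haveI := finite_of_le hg.le
  have c1 := hC.mono (ih _ g (card_lt_card (lt_NK_sup hF.pg hn.1 h.T_le (hn.1.trans (sc_le_normalizer h.scT)) hTP fun b hb => by
    obtain ⟨x, hx, hxn, rfl⟩ := mem_AutK.1 hb
    have := mem_normalizer_inf hxn (le_normalizer (h.le hx))
    exact ⟨cr_mem_AutF F hn.1 ⟨h.T_le hx, hxn⟩, by rw [res_cr inf_le_left this hxn]; exact h.inn hV (cr_mem_AutK hx this)⟩)) hg)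
    le_sup_right
  refine hC.congr (hC.mul ⟨hg.mono le_sup_right, hm⟩ (iso_of_AutF hn.1 hn'.1) c1 ?_) e
  haveI := finite_AutF' F hn.1
  haveI : Finite (hθ.pre (B (P ⊓ S₀))) := finite_of_le (hθ.pre_le _)
  obtain ⟨u, hu, v, hv, rfl⟩ := exists_op_mul_syl ((hF.syl hn).inf_normal' (hθ.pre_le _) hN) hn'
  have h1 := h.z_OpA hV _ ((hθ.mono (hθ.pre_le _)).img_OpA_le (fun _ k => k.2) u hu)
  have hu' : u ∈ hθ.pre (B (P ⊓ S₀)) := Fus.OpA_le p _ hu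
  obtain ⟨s, hs, hsn, rfl⟩ := mem_AutK.1 hv.1
  refine hC.mul (iso_of_AutF hn.1 hv.2.1) (iso_of_AutF hn.1 hu'.1) ⟨cp s, h.mor_cp' inf_le_right hs, closed_ZG.congr
    (zg_one inf_le_right) fun x hx => by rw [Perm.mul_apply, cr_apply hsn hx.1]; exact perm_inv_apply (cp s) x⟩ ⟨1, mor_one F (sup_le h.T_le (h.hle' hV)),
    closed_ZG.congr h1 fun x hx => by simp [res_apply (hst hu'.1) hx]⟩

theorem fac' (h : TG F p T S₀ ℋ B) (hf : Iso F f P Q) (hP : P ≤ S₀) :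
    ∃ (k z : Perm Ω) (R : Subgroup Ω), Iso h.sys z P R ∧ Mor F (T ⊔ R) k ∧ Maps k R Q ∧ Maps k T T := by
  obtain ⟨k, h1, h2⟩ := h.fac hf.mor
  rw [inf_eq_left.2 hP] at h1 h2
  have h3 := (h.mor_of_z h2).iso
  exact ⟨k, _, _, h3, h1.mono (sup_le le_sup_left (img_le_iff.2 fun x hx => (h.zcu h2).mem_sup hx)),
    by simpa [mul_assoc] using h3.maps.symm.trans hf.maps, sc_maps h.scT h1 le_sup_left⟩

end TG

theorem Sat.exists_NS_mor2 [Finite S] [Fact p.Prime] (hF : Sat F p) (hT : F.StronglyClosed T) (hV : V ≤ S) :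
    ∃ (k : Perm Ω) (W : Subgroup Ω), F.IsFullyNormalized W ∧ F.IsFullyNormalized (W ⊓ T) ∧ Mor F (normalizerIn S V) k ∧ Maps k V W := by
  obtain ⟨k, W, h1, h2, h3⟩ := hF.exists_NS_mor hV
  obtain ⟨l, Q, k1, k2, k3⟩ := hF.exists_NS_mor (inf_le_left.trans h1.1 : W ⊓ T ≤ S)
  have h4 := k2.mono fun x (hx : x ∈ normalizerIn S W) => ⟨hx.1, mem_normalizer_inf hx.2 (sc_le_normalizer hT hx.1)⟩
  have h5 := (h4.mono (le_NS h1.1)).iso
  exact ⟨l * k, _, fn_iso h1 h4 h5.maps, k3.unique (sc_maps_inf hT h5) ▸ k1,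
    h4.mul h2 fun x hx => h2.mem_NS (le_NS hV) h3 hx hx.2, h3.trans h5.maps⟩

namespace TG

variable [Finite S] [Fact p.Prime]

omit [Finite S] [Fact p.Prime] in
theorem cj_OpA (h : TG F p T S₀ ℋ B) (hV : ℋ V) (hf : Iso F f V W) : cj f (OpA p (B V)) = OpA p (B W) :=
  le_antisymm (cj_OpA_le (cj_le_iff_forall.2 fun _ => h.conj hV hf)) fun b hb => mem_cj.2 (by
    simpa using cj_OpA_le (cj_le_iff_forall.2 fun _ => h.conj (h.iso hV hf) hf.symm) (conj_mem_cj hb))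

theorem syl_fn (h : TG F p T S₀ ℋ B) (hV : ℋ V) (h1 : F.IsFullyNormalized V) (h2 : F.IsFullyNormalized (V ⊓ T)) :
    SylIn p (AutK T V ⊓ OpA p (B V)) (OpA p (B V)) := by
  haveI := finite_AutF' F h1.1
  haveI := finite_of_le (h.Ble hV)
  have h3 := (h.sat.syl h1).inf_normal' ((Fus.OpA_le p _).trans (h.Ble hV)) (h.normal' hV)
  have h4 := inf_OpA_le ((h.sat.syl h1).inf_normal' (h.Ble hV) (h.normal hV)) fun b hb hp R hR hn u hu => h.l1 hV h1 h2 hb hp hR hn hu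
  rwa [show AutK S V ⊓ OpA p (B V) = AutK T V ⊓ OpA p (B V) from le_antisymm
    (fun x hx => ⟨h4 ⟨⟨hx.1, Fus.OpA_le p _ hx.2⟩, hx.2⟩, hx.2⟩) (inf_le_inf_right _ (AutK_mono h.T_le V))] at h3

theorem syl_of_mor (h : TG F p T S₀ ℋ B) (hV : ℋ V) (hs : SylIn p (AutK T V ⊓ OpA p (B V)) (OpA p (B V)))
    (hk : Mor F (normalizerIn T V ⊔ V) k) (hm : Maps k V W) : SylIn p (AutK T W ⊓ OpA p (B W)) (OpA p (B W)) := by
  have hi : Iso F k V W := ⟨hk.mono le_sup_right, hm⟩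
  have hW := h.iso hV hi
  haveI := finite_AutF' F hi.le'
  haveI := finite_of_le ((Fus.OpA_le p _).trans (h.Ble hW))
  haveI : Finite (AutK T W ⊓ OpA p (B W) : Subgroup _) := finite_of_le inf_le_right
  have h1 := hs.conj k
  rw [cj_inf, h.cj_OpA hV hi] at h1
  refine sylIn_of_card_le h1 inf_le_right ((isPGroup_AutK (h.sat.pg.to_le h.T_le) W).to_le inf_le_left)
    (card_le_card (inf_le_inf_right _ ?_))
  rw [← AutK_NS]
  exact hk.homOn.cj_AutK_le le_sup_right hm le_sup_left fun x hx => sc_mem h.scT hk (mem_sup_left hx) hx.1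

theorem exists_syl (h : TG F p T S₀ ℋ B) (hV : ℋ V) :
    ∃ z R, Iso h.sys z V R ∧ SylIn p (AutK T R ⊓ OpA p (B R)) (OpA p (B R)) := by
  obtain ⟨f, W, h1, h2, h3, h4⟩ := h.sat.exists_NS_mor2 h.scT (h.hle' hV)
  have hf : Iso F f V W := ⟨h3.mono (le_NS (h.hle' hV)), h4⟩
  obtain ⟨k, z, R, k1, k2, k3, k4⟩ := h.fac' hf (h.hle hV)
  have hW := h.iso hV hf
  exact ⟨z, R, k1, h.syl_of_mor hW (h.syl_fn hW h1 h2) ((k2.inv (k2.homOn.maps_sup k4 k3)).mono (sup_le_sup_right (NS_le T W) W))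
    k3.symm⟩

omit [Fact p.Prime] in
theorem syl_sys (h : TG F p T S₀ ℋ B) (hV : ℋ V) (hs : SylIn p (AutK T V ⊓ OpA p (B V)) (OpA p (B V)))
    (hA : AutF h.sys V ≤ OpA p (B V) ⊔ AutK S₀ V) : AutK S₀ V ⊓ OpA p (B V) ≤ AutK T V ∧ SylIn p (AutK S₀ V) (AutF h.sys V) := by
  have hp := isPGroup_AutK (h.sat.pg.to_le h.S₀_le) V
  have e := hs.max (AutK S₀ V ⊓ OpA p (B V)) inf_le_right (hp.to_le inf_le_left) (inf_le_inf_right _ (AutK_mono h.le V))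
  exact ⟨e.le.trans inf_le_left, (sylIn_sup_of_inf hp ((AutK_le_AutF F h.S₀_le (h.hle' hV)).trans (h.normal' hV)) (e ▸ hs)).mono
    (AutK_le_AutF _ le_rfl (h.hle hV)) hA⟩

theorem x4' (h : TG F p T S₀ ℋ B) (hV : ℋ V) (hb : b ∈ B V) (hp : (orderOf b).Coprime p) (h1 : V ≤ X) (h2 : X ≤ normalizerIn S₀ V)
    (h3 : ∀ x ∈ X, ∃ t ∈ X ⊓ T, ∀ y ∈ V, b (x * y * x⁻¹) = t * x * b y * (t * x)⁻¹) :
    ∃ g ∈ B X, (orderOf g).Coprime p ∧ ∀ x ∈ V, g x = b x := by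
  obtain ⟨k, W, k1, k2, k3, k4⟩ := h.sat.exists_NS_mor2 h.scT (h.hle' hV)
  have hX := h.up hV (inf_le_left.trans h1) (h2.trans (NS_le _ _))
  have hk := k3.mono (h2.trans (inf_le_inf_right _ h.S₀_le))
  have hi : Iso F k V W := ⟨hk.mono h1, k4⟩
  have hbi := h.biso hV hb
  obtain ⟨g, hg, e⟩ := h.x4 (h.iso hV hi) k1 k2 (h.conj hV hi hb) (coprime_conj hp k) ((k4.le_iff hk.maps_img).2 h1)
    (img_le_iff.2 fun x hx => ⟨sc_mem h.scS hk hx (h2 hx).1, (hk.mem_NS h1 k4 hx (h2 hx).2).2⟩) fun x hx => by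
      obtain ⟨x, hx', rfl⟩ := hk.homOn.mem_img.1 hx
      obtain ⟨t, ht, e⟩ := h3 x hx'
      refine ⟨k t, ⟨mem_img_of_mem _ ht.1, sc_mem h.scT hk ht.1 ht.2⟩, fun y hy => ?_⟩
      obtain ⟨y, hy', rfl⟩ := k4.exists_eq hy
      rw [← hk.homOn.map_conj hx' (h1 hy'), ← hk.homOn t ht.1 x hx']
      simp only [Perm.mul_apply, perm_inv_apply]
      rw [e y hy', hk.homOn.map_conj (X.mul_mem ht.1 hx') (h1 (hbi.mem hy'))]
  have hg' := h.conj (h.iso hX hk.iso) hk.iso.symm hg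
  obtain ⟨c, c1, c2, c3, c4⟩ := (h.biso hX hg').exists_pprime h1 hp hbi.maps (fun x hx => by simp [e _ (k4.mem hx)]) (H := B X)
    (by rwa [(supp_of_AutF (h.Ble hX hg')).res_eq])
  exact ⟨c, c2, c3, c4⟩

theorem top_le (h : TG F p T S₀ ℋ B) : AutF h.sys S₀ ≤ OpA p (B S₀) ⊔ AutK S₀ S₀ := fun a ha => by
  haveI := h.finite
  have := h.ind ((closed_res h.scS (OpA p (B S₀) ⊔ AutK S₀ S₀)).sub h.sub)
    (fun s hs _ => mem_sup_right (cr_mem_AutK hs (le_normalizer hs))) (fun V b hV hb hp k => by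
      obtain rfl := le_antisymm (h.hle hV) k
      rw [(supp_of_AutF (h.Ble hV hb)).res_eq]; exact mem_sup_left (mem_OpA hb hp)) (iso_of_AutF le_rfl ha).mor le_rfl
  rwa [(supp_of_AutF ha).res_eq] at this

theorem mem_B_of_le (h : TG F p T S₀ ℋ B) (hV : ℋ V) (hA : AutF h.sys V ≤ OpA p (B V) ⊔ AutK S₀ V) (hb : b ∈ AutF h.sys V)
    (hp : (orderOf b).Coprime p) : b ∈ OpA p (B V) :=
  mem_of_pprime_of_mem_sup (isPGroup_AutK (h.sat.pg.to_le h.S₀_le) V) ((AutK_le_AutF F h.S₀_le (h.hle' hV)).trans (h.normal' hV))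
    (hA hb) hp

theorem main (h : TG F p T S₀ ℋ B) : ∀ V, V ≤ S₀ → SC h.sys p V ∧ (ℋ V → ∀ b ∈ AutF h.sys V, (orderOf b).Coprime p → b ∈ B V) := by
  haveI := h.finite
  have hS := h.sat.pg.to_le h.S₀_le
  refine down_induction fun V hV ih => ?_
  rcases hV.eq_or_lt with rfl | hlt
  · have h1 := fn_of_sc h.scS
    exact ⟨⟨1, V, iso_one _ le_rfl, fa_iff.2 ⟨le_rfl, (h.syl_sys h.top (h.syl_fn h.top h1 (by rw [inf_eq_right.2 h.le]; exact fn_of_sc h.scT))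
      h.top_le).2⟩, rec_S _⟩, fun _ b hb hp => Fus.OpA_le p _ (h.mem_B_of_le h.top h.top_le hb hp)⟩
  have hiso : ∀ {P Q}, h.sys.IsConj P Q → ℋ P → ℋ Q := fun k hP => let ⟨_, hf⟩ := isConj_iff.1 k; h.iso hP (hf.sub h.sub)
  by_cases hH : ℋ V
  swap
  · refine ⟨sc_of_star hS hlt (fun Q h1 h2 => (ih Q h1 h2).1) (fun C hC k P f => h.ind hC (fun s hs => k _ _ (fun e => ?_)
      (mor_cp _ le_rfl hs)) fun W b hW hb hp => k _ _ (fun e => ?_) (h.mor_gen hW hb hp)) fun hc => ?_, fun k => absurd k hH⟩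
    · obtain ⟨f, hf⟩ := isConj_iff.1 e
      exact (card_lt_card hlt).ne hf.card_eq
    · obtain ⟨f, hf⟩ := isConj_iff.1 e
      exact hH (hiso hf.symm.isConj hW)
    obtain ⟨f, W, h1, t, ht, h2, h3, h4⟩ := h.star hV hH
    obtain ⟨k, z, R, k1, k2, k3, k4⟩ := h.fac' h1 hV
    have k5 := k2.inv (k2.homOn.maps_sup k4 k3)
    have k6 := k5.mem_NS le_sup_right k3.symm (mem_sup_left ht) h3
    have k7 : k⁻¹ t ∈ normalizerIn S₀ R := ⟨h.le (k4.inv_mem ht), k6.2⟩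
    refine ⟨z, R, k1, fun e => h2 ((k3.symm t).1
      (le_of_AutK_le_Inn k1.le' (centric_CS_le (centric_iso hc k1)) (zpowers_le.2 k7) ?_ (mem_zpowers _)))⟩
    rw [AutK_eq_img' (zpowers_le.2 k7.2), ((homOn_cr R).mono (zpowers_le.2 k7.2)).img_zpowers, zpowers_le]
    refine e ⟨cr_mem_AutK k7.1 k7.2, pCoreOf_inf_le (AutF_mono h.sub R) ⟨?_, cr_mem_AutF _ k1.le' k7⟩⟩
    rw [← k5.homOn.conj_cr le_sup_right k3.symm (mem_sup_left ht) h3, ← Iso.cj_AutF ⟨k5.mono le_sup_right, k3.symm⟩, ← cj_pCoreOf]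
    exact conj_mem_cj h4
  have hc : CLH h.sys p (Nat.card V) (h.sys.IsConj V) fun P => OpA p (B P) ⊔ AutK S₀ P :=
    { pg := hS
      big := fun Q h1 h2 => (ih Q h1 h2).1
      lt := fun k => by
        obtain ⟨f, hf⟩ := isConj_iff.1 k
        exact lt_of_le_of_ne hf.le' fun e => (card_lt_card hlt).ne (e ▸ hf.card_eq)
      card := fun k => let ⟨_, hf⟩ := isConj_iff.1 k; hf.card_eq.symm
      iso := fun k hf => let ⟨_, hg⟩ := isConj_iff.1 k; (hg.trans hf).isConj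
      tr := fun {P Q g a} k hg hm ha => by
        have hP := hiso k hH
        have hi : Iso F g P Q := ⟨(hg.sub h.sub).mono (le_NS (h.hle hP)), hm⟩
        refine (cj_le_iff_forall.1 (?_ : cj g _ ≤ _)) a ha
        rw [cj_sup, h.cj_OpA hP hi, ← AutK_NS]
        exact sup_le_sup_left (hg.homOn.cj_AutK_le (le_NS (h.hle hP)) hm le_rfl fun _ => hg.mem_S) _
      inn := fun _ => le_sup_right
      pp := fun {P Y b} k h1 h2 hb hp hm => by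
        have hP := hiso k hH
        have hY := h2.trans (NS_le _ _)
        have hY' := h.up hP (inf_le_left.trans h1.le) hY
        obtain ⟨f, hf⟩ := isConj_iff.1 k
        haveI := finite_of_le hY
        exact mem_sup_left (mem_OpA (h.res hY' hP h1.le ((ih Y hY (hf.card_eq ▸ card_lt_card h1)).2 hY' b hb hp) hm)
          (coprime_res hm hp))
      gen := fun C hC k1 k2 P f => h.ind hC (fun s hs => k1 _ _ (fun e => by
          obtain ⟨f, hf⟩ := isConj_iff.1 e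
          exact (card_lt_card hlt).ne hf.card_eq) (mor_cp _ le_rfl hs)) fun W b hW hb hp => by
        by_cases e : h.sys.IsConj V W
        · exact k2 W e b (mem_sup_left (mem_OpA hb hp)) (h.OpA_le hW (mem_OpA hb hp))
        · exact k1 W b e (h.mor_gen hW hb hp) }
  obtain ⟨f, P, hf, hn⟩ := exists_fn h.sys hV
  have hP := hiso hf.isConj hH
  have hA := hc.AutF_le hf.isConj hn
  obtain ⟨z, R, k1, k2⟩ := h.exists_syl hH
  obtain ⟨g, hg, hm⟩ := hc.NS_mor hf.isConj hn (k1.symm.trans hf)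
  obtain ⟨k3, k4⟩ := h.syl_sys hP (h.syl_of_mor (hiso k1.isConj hH) k2 ((hg.sub h.sub).mono
    (sup_le (inf_le_inf_right _ h.le) (le_NS k1.le'))) hm) hA
  refine ⟨SC.of_iso ⟨1, P, iso_one _ hn.1, fa_iff.2 ⟨hn.1, k4⟩, rec_of_NS hn.1 (fun _ _ => hc.NS_mor hf.isConj hn)
    (aut_ext_of_pprime hn.1 k4 fun X h1 h2 h3 b hb hp hbn => ?_)⟩ hf, fun _ b hb hp => ?_⟩
  · have hb' := h.mem_B_of_le hP hA hb hp
    obtain ⟨c, c1, c2, c3⟩ := h.x4' hP (Fus.OpA_le p _ hb') hp h1 h3 fun x hx => by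
      have hx' := h3 hx
      have l1 := cr_mem_AutK hx hx'.2
      have l2 : b * cr P x * b⁻¹ * (cr P x)⁻¹ ∈ AutK X P := mul_mem (conj_mem_of_mem_normalizer hbn l1) (inv_mem l1)
      obtain ⟨t, ht, htn, e⟩ := mem_AutK.1 (k3 ⟨AutK_mono (h3.trans (NS_le _ _)) P l2, by
        simpa [mul_assoc] using mul_mem hb' (conj_mem_of_mem_normalizer (h.normal' hP (cr_mem_AutF F (h.hle' hP)
          ⟨h.S₀_le hx'.1, hx'.2⟩)) (inv_mem hb'))⟩)
      obtain ⟨y, hy, hyn, e'⟩ := mem_AutK.1 l2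
      refine ⟨t, ⟨by simpa using X.mul_mem hy (h2 ⟨S₀.mul_mem (S₀.inv_mem (h3 hy).1) (h.le ht),
        (cr_eq_cr_iff htn hyn).1 (e.trans e'.symm)⟩), ht⟩, fun w hw => ?_⟩
      have l3 := (maps_of_AutF hb).mem hw
      rw [← cr_apply (mul_mem htn hx'.2) l3, homOn_cr P t htn x hx'.2, e, ← cr_apply hx'.2 hw]
      simp
    exact ⟨c, h.mor_gen (h.up hP (inf_le_left.trans h1) (h3.trans (NS_le _ _))) c1 c2, c3⟩
  · simpa [mul_assoc] using h.conj hP (hf.sub h.sub).symm (Fus.OpA_le p _ (h.mem_B_of_le hP hA (hf.conj_mem hb) (coprime_conj hp f)))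

theorem sat_sys (h : TG F p T S₀ ℋ B) : haveI := h.finite; Sat h.sys p :=
  haveI := h.finite; ⟨h.sat.pg.to_le h.S₀_le, sat_iff.2 fun V hV => (h.main V hV).1⟩

theorem mem_B (h : TG F p T S₀ ℋ B) (hV : ℋ V) (hb : b ∈ AutF h.sys V) (hp : (orderOf b).Coprime p) : b ∈ B V :=
  (h.main V (h.hle hV)).2 hV b hb hp

/-- In the case `S₀ = T` the system is weakly normal. -/
theorem wn (h : TG F p T T ℋ B) : WN h.sys F p := by
  refine ⟨h.sat_sys, h.sat, h.sub, h.scT, fun {a f P R} ha hf hm => ?_, fun {P f} hP hf => ?_⟩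
  · obtain ⟨s, hs, k⟩ := h.mor_sys.1 hf
    refine h.mor_sys.2 ⟨a s, ha.mem hs, closed_ZG.congr (h.zconj k (ha.mor.mono (sup_le le_rfl hf.le)) hm) fun x hx => ?_⟩
    simp only [Perm.mul_apply, ← map_inv, cp_apply]
    rw [ha.homOn.map_conj (T.inv_mem hs) (hf.mem_S (hm.inv_mem hx)), ha.homOn.map_inv hs]
  · obtain ⟨k, h1, h2⟩ := h.fac hf
    rw [inf_eq_left.2 hP] at h1 h2
    exact ⟨k, ⟨h1.mono le_sup_left, sc_maps h.scT h1 le_sup_left⟩, h.mor_of_z h2⟩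

end TG

end Cfsg.Agent.Fus
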