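import Cfsg.Agent.Spor.ThC
import Cfsg.Agent.Fus.OutB
import Cfsg.Agent.Perm.AutAlt

/-! The outer automorphism group of the Thompson group is trivial (generated certificate, helper26). -/

set_option Elab.async false
set_option maxRecDepth 100000
set_option exponentiation.threshold 100000

namespace Cfsg.Agent.Fus.ThO

open Cfsg.Agent.Spor Subgroup Equiv ThC LES

def uw : List ℕ := [1, 0, 2, 1]

def gw : List ℕ := [3, 4, 9, 5, 7]

def Lo : List (List ℕ × ℕ × List ℕ) := [([3, 4, 5], 12, [11]), ([3, 4, 5], 13, [14]), ([3, 4, 5], 18, [17]),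
  ([3, 4, 5], 15, [17, 16]), ([3, 4, 5], 16, [15, 14]), ([3, 4, 5], 11, [14, 12, 11]), ([3, 4, 5], 14, [16, 13, 11]),
  ([3, 4, 5], 17, [18, 15, 14])]

def Le : List (List ℕ × ℕ × List ℕ) := [([5], 13, [14]), ([5], 17, [15]), ([4], 17, [16, 17]), ([7], 15, [16, 18]),
  ([4], 12, [12, 11, 13]), ([4], 14, [11, 14, 16]), ([5], 15, [14, 15, 17])]

def st : List (ℕ × List ℕ × ℕ × List ℕ × List ℕ) := [(12, [3], 11, [], []), (13, [4], 12, [12, 11], []), (14, [5], 13, [], []),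
  (16, [4], 14, [11, 14], []), (15, [3], 14, [13, 14], [16]), (17, [3], 15, [0, 13, 15], []), (18, [4], 15, [13, 15, 17], [])]

def ww : List ℕ := uw ++ ([3] ++ (uw ++ ([3] ++ (uw ++ [3, 2]))))

def e1 : List (List ℕ × List ℕ) := [(0 :: uw, uw ++ [11]), (11 :: uw, uw ++ [0]), (0 :: (ww ++ [1]), ww ++ [1] ++ [0])] ++
  Lo.map fun e => (e.2.1 :: e.1, e.1 ++ e.2.2)

theorem q1 : Ct.Eqs Y e1 := Ct.eqs_K ThA.pa (by decide) (by decide +kernel)

theorem q2 : ev Y (15 :: gw) = ev Y (gw ++ [15]) :=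
  m2.eq (a := .mul (.lt 15) (.mul (.mul (.lt 3) (.lt 4)) (.mul (.lt 9) (.mul (.lt 5) (.lt 7)))))
    (b := .mul (.mul (.mul (.lt 3) (.lt 4)) (.mul (.lt 9) (.mul (.lt 5) (.lt 7)))) (.lt 15)) (by decide +kernel) (by decide +kernel)

abbrev C : Subgroup Cfsg.Spor.Th := centralizer {Y 0}

def qs : List ℕ := [11, 12, 13, 14, 15, 16, 17, 18]

def xs : List ℕ := [21, 22, 23, 24, 25, 26, 27]

noncomputable abbrev Q : Subgroup Cfsg.Spor.Th := genL Y (0 :: qs)

def gs : List ℕ := [0, 11, 12, 13, 14, 15, 16, 17, 18, 2, 3, 4, 5, 6, 7, 8, 9, 10, 21, 22, 23, 24, 25, 26, 27]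

theorem hc : genL Y gs ≤ C := (eqs.le (by decide +kernel)).trans cent.ge

theorem hQ : Q ≤ C := (genL_le fun x hx => mem_genL _ (by revert x; decide)).trans hc

theorem es : Cfsg.IsExtraspecial 2 Q ∧ Nat.card Q = 2 ^ 9 :=
  (eqs.sub (xs := 0 :: qs) le_rfl).es (m := 3) (Ct.subG_top rfl) rfl (by decide +kernel) (Ct.subG_ne (mem_genL _ (by decide)) z1)

theorem gen : C ≤ genL Y (0 :: qs ++ xs) := cent.le.trans ((eqs.le (xs := [0, 11, 12, 13, 14, 15, 16, 17, 18, 2, 3, 4, 5, 6, 7, 8, 9])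
  (by decide +kernel)).trans ((eqs.le (xs := [0, 11, 12, 13, 14, 15, 16, 17, 18, 3, 4, 5, 7, 9]) (by decide +kernel)).trans
    (eqs.le (by decide +kernel))))

theorem y7 : ¬ Commute (Y 7) (Y 14) :=
  m2.ne (a := .mul (.lt 14) (.lt 7)) (b := .mul (.lt 7) (.lt 14)) (by decide +kernel) (by decide +kernel) ∘ fun e => by
    simpa [Ex.w] using e.eq

theorem exists_pi : ∃ π : C →* alternatingGroup (Fin 9), Function.Surjective π ∧ (∀ c, π c = 1 ↔ c.1 ∈ Q) ∧
    ∀ i : Fin 7, (π (subG C Y (21 + i))).1 = Pres.c3 i.succ.succ 0 1 := by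
  have e := eqs.sub hc
  have t1 := top_unique ((Ct.subG_top cent).ge.trans (e.le (xs := [0, 11, 12, 13, 14, 15, 16, 17, 18, 2, 3, 4, 5, 6, 7, 8, 9])
    (by decide +kernel)))
  have hn := e.normal (qs := 0 :: qs) t1 (by decide +kernel)
  have h1 : genL Y (0 :: qs ++ xs) ≤ C := (genL_le fun x hx => mem_genL _ (by revert x; decide)).trans hc
  obtain ⟨f, hf, hf'⟩ := carm_hom (n := 7) (e.quot_rels _ (qs := 0 :: qs) (xs := xs) le_rfl (by decide +kernel))
  have := alternatingGroup.isSimpleGroup (α := Fin 9) (by simp)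
  have hr : ∀ i : Fin 7, renG (subG C Y) (sing xs) i = subG C Y (21 + i) := fun i => by
    rw [renG, show getL _ [] i.1 = [21 + i.1] by revert i; decide +kernel, ev_one]
  obtain ⟨π, h2, h3, h4⟩ := quot_pi _ le_rfl (Ct.subG_top (gen.antisymm h1)) f (fun x hx => by
    obtain ⟨i, rfl⟩ : ∃ i : Fin 7, x = 21 + i := by revert x; decide
    obtain ⟨a, ha, -⟩ := hf' i
    exact ⟨a, hr i ▸ ha⟩) (Ct.ne_top_of_card (Ct.genL_subG hQ ▸
      (Nat.card_congr (subgroupOfEquivOfLe hQ).toEquiv).trans es.2) (e.pow 7 3 (by decide +kernel))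
      (Ct.subG_ne (hc (mem_genL _ (by decide))) fun e => y7 (e ▸ .one_left _)) (by decide))
  refine ⟨π, h2, fun c => (h3 c).trans (by rw [Ct.genL_subG hQ]; rfl), fun i => ?_⟩
  obtain ⟨a, ha, ha'⟩ := hf' i
  rw [h4 a _ (hr i ▸ ha), ha']

open Cfsg.Agent.Comp

noncomputable def π : C →* alternatingGroup (Fin 9) := exists_pi.choose

theorem sπ : Function.Surjective π := exists_pi.choose_spec.1

theorem hπ : ∀ c, π c = 1 ↔ c.1 ∈ Q := exists_pi.choose_spec.2.1

theorem cardA : Nat.card (alternatingGroup (Fin 9)) = 181440 := by rw [nat_card_alternatingGroup]; simp [Nat.factorial]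

theorem le : LE Q (Y 0) :=
  have := alternatingGroup.isSimpleGroup (α := Fin 9) (by simp)
  le_of_simple (.of_mem es.1 (mem_genL _ (by decide)) z1 hQ) π sπ hπ (hc (mem_genL _ (by decide)))
    (eqs.pow 7 3 (by decide +kernel)) (mem_genL _ (by decide)) y7

noncomputable def z (i : ℕ) : C := if i ∈ 0 :: qs ++ xs then subG C Y i else 1

theorem hz {i : ℕ} (h : i ∈ 0 :: qs ++ xs) : (z i).1 = Y i := by
  rw [z, if_pos h]; exact coe_subG (hc (mem_genL _ (by revert i; decide)))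

def Lp : List ℕ := List.replicate 21 36344967696 ++
  [36344967201, 36344955441, 36344705601, 36339724881, 36244304481, 34465919601, 1985229441]

theorem par : Par 9 4 15 := ⟨by decide, by decide⟩

theorem hP (i : ℕ) : CRep (encFin 8) 4 15 (nthL (oneP 9 4) Lp i) (π (z i)).1 := by
  by_cases h : i ∈ xs
  · obtain ⟨j, rfl⟩ : ∃ j : Fin 7, i = 21 + j := by revert i; decide
    rw [z, if_pos (List.mem_append_right _ h), π, exists_pi.choose_spec.2.2]
    exact (show ∀ j : Fin 7, (∀ a : Fin 9, get 4 15 (nthL (oneP 9 4) Lp (21 + j)) a = (Pres.c3 j.succ.succ 0 1 a).1) ∧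
      nthL (oneP 9 4) Lp (21 + j) < 2 ^ (4 * 9) by decide +kernel) j
  · rw [show nthL (oneP 9 4) Lp i = oneP 9 4 from ?_, show π (z i) = 1 from ?_]
    · exact (isGrp_CRep _ par).one
    · by_cases h' : i ∈ 0 :: qs
      · exact (hπ _).2 (hz (List.mem_append_left _ h') ▸ mem_genL _ h')
      · rw [z, if_neg (fun k => (List.mem_append.1 k).elim h' h), map_one]
    · by_cases h' : i < 28
      · revert h; revert i; decide +kernel
      · rw [nthL_eq, List.getD_eq_default _ _ (not_lt.1 h')]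

def ex : List (List ℕ) := [[], [], [], [21, 21, 22, 24, 25, 26, 22, 27, 23, 26, 21, 12, 13, 14, 15, 17],
  [21, 22, 24, 23, 25, 22, 24, 26, 11, 13, 16, 18, 17], [25, 23, 21, 22, 23, 24, 17], [],
  [21, 21, 24, 25, 22, 23, 21, 12, 13, 15, 18], [], [21, 21, 24, 25, 21, 11, 13, 14, 18, 17]]

theorem rep (w : List ℕ) (h : (w.all fun x => EE.contains ([x], getL ex [] x)) = true ∧ ∀ x ∈ renW ex w, x ∈ 0 :: qs ++ xs) :
    ∃ c : C, c.1 = ev Y w ∧ CRep (encFin 8) 4 15 (evC (mulP 9 4 15) (oneP 9 4) Lp (renW ex w)) (π c).1 :=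
  ⟨ev z (renW ex w), (map_ev C.subtype z _).trans ((ev_congr fun x hx => hz (h.2 x hx)).trans ((ev_renG _ _ _).symm.trans
    (ev_congr fun x hx => (eqs.eq _ _ (List.all_eq_true.1 h.1 x hx)).symm.trans (ev_one _ _)))),
    (show (π (ev z _)).1 = _ from map_ev ((alternatingGroup _).subtype.comp π) z _) ▸ evC_spec (isGrp_CRep _ par) hP _⟩

theorem norm (α : MulAut Cfsg.Spor.Th) : ∃ g : Cfsg.Spor.Th, (MulAut.conj g * α) (Y 0) = Y 0 ∧
    ∀ c ∈ C, c⁻¹ * (MulAut.conj g * α) c ∈ Q := by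
  obtain ⟨g, hg⟩ := aut_fix_LE le ThG.main.2.2.2.2.1 (k := 15) (by decide) (by
    rw [← π.ker.card_mul_index, index_ker, MonoidHom.range_eq_top.2 sπ, Subgroup.card_top, cardA,
      show π.ker = Q.subgroupOf _ from Subgroup.ext hπ, Nat.card_congr (subgroupOfEquivOfLe hQ).toEquiv, es.2]; decide) α
  have := alternatingGroup.isSimpleGroup (α := Fin 9) (by simp)
  obtain ⟨hb, ψ, hψ⟩ := aut_quot' π sπ hπ hQ (fun L hL h => hL.eq_bot_or_eq_top.resolve_right fun e => by
    rw [e, Subgroup.card_top, cardA, es.2] at h; exact absurd h (by decide)) hg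
  obtain ⟨σ, rfl⟩ := (Perm.AutAlt.conjNormal_bijective (α := Fin 9) (by simp) (by simp)).2 ψ
  have key : ∀ τ : Perm (Fin 9), τ * σ⁻¹ ∈ alternatingGroup (Fin 9) → ∃ k : C, (MulAut.conj (k * g) * α) (Y 0) = Y 0 ∧
      ∀ c d : C, (π d).1 = τ * π c * τ⁻¹ → d.1⁻¹ * (MulAut.conj (k * g) * α) c ∈ Q := fun τ h => by
    obtain ⟨k, hk⟩ := sπ ⟨_, h⟩
    refine ⟨k, ?_, fun c d e => ?_⟩ <;> rw [map_mul, mul_assoc, MulAut.mul_apply, MulAut.conj_apply]
    · rw [hg, mem_centralizer_singleton_iff.1 k.2, mul_inv_cancel_right]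
    · obtain ⟨c', e1, e2⟩ := hψ c
      rw [← e1]
      refine (hπ (d⁻¹ * (k * c' * k⁻¹))).1 (Subtype.ext ?_)
      simp [e, e2, hk, mul_assoc]
  rcases Int.units_eq_one_or (Perm.sign σ) with e | e
  · obtain ⟨k, h1, h2⟩ := key 1 (by simp [e])
    exact ⟨k * g, h1, fun c hc => h2 ⟨c, hc⟩ ⟨c, hc⟩ (by simp)⟩
  · obtain ⟨k, h1, h2⟩ := key (swap 1 4 * swap 3 5 * swap 4 6) (by simp [e])
    obtain ⟨c, e1, r1⟩ := rep gw (by decide +kernel)
    obtain ⟨d, e2, r2⟩ := rep [3, 4, 5] (by decide +kernel)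
    have h3 := h2 c d ((isCanon_CRep _ par).func r2 (by
      convert (isGrp_CRep _ par).conj (c := 36259123776) ⟨?_, by decide⟩ r1 using 1
      · decide +kernel
      show ∀ a : Fin 9, get 4 15 36259123776 a = ((swap 1 4 * swap 3 5 * swap 4 6 : Perm (Fin 9)) a).1
      decide +kernel))
    have h4 : (MulAut.conj (k * g) * α) (Y 15) ∈ Q := by
      rw [map_mul, mul_assoc]; exact le.conj_mem (mem_centralizer_singleton_iff.1 k.2) (hb _ (mem_genL _ (by decide)))
    have h5 := fix_map le.toES h1 h4 c.2 (.inl (by rw [e1, mul_inv_eq_iff_eq_mul, ← ev_cons, q2, ev_append, ev_one])) h3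
    have h6 : Y 15 * Y 15 = Y 0 := by simpa using eqs.eq [15, 15] [0] (by decide +kernel)
    rcases fix_none le.toES q1 rfl (L := Lo) (by decide +kernel) h4 (fun x hx => by
      rwa [show x.1 = [3, 4, 5] by revert x; decide, ← e2]) with e | e
    · exact absurd (by simpa [(MulEquiv.map_eq_one_iff _).1 e] using h6.symm) z1
    · rw [(MulAut.conj (k * g) * α).injective (e.trans h1.symm), le.zz] at h6
      exact absurd h6.symm z1

theorem top (H : Subgroup Cfsg.Spor.Th) (h1 : C ≤ H) (h2 : ev Y uw ∈ H) : H = ⊤ := by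
  have hC : ∀ x ∈ gs, Y x ∈ H := fun x hx => h1 (hc (mem_genL _ hx))
  have h3 : ev Y [3] ∈ H := (ev_one Y 3).symm ▸ hC 3 (by decide)
  have h4 := q1.eq (0 :: (ww ++ [1])) (ww ++ [1] ++ [0]) (by decide +kernel)
  rw [ev_cons, ev_append _ _ [0], ev_one] at h4
  have h5 := h1 (mem_centralizer_singleton_iff.2 h4)
  rw [ev_append, ev_one, H.mul_mem_cancel_right (by
    simp only [ww, ev_append]
    exact mul_mem (mul_mem (mul_mem (mul_mem (mul_mem (genL_le hC (Ct.ev_mem_sub (by decide))) h2) h3) h2) h3) h2)] at h5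
  have h' : ∀ x < 10, Y x ∈ H := fun x hx => (em (x = 1)).elim (· ▸ h5) fun h => hC x (by revert x; decide)
  refine ThG.gen H (fun k => (show ⊤ ≤ H.comap ThG.ι from topX.ge.trans ((genW_sing _ _).le.trans (genL_le fun x hx => ?_)))
    trivial) ?_
  · have e : Y x = ThG.ι (ev ThA.y [x]) := Ct.let_K [x] (by revert x; decide +kernel)
    have := h' x (by have := List.mem_range.1 hx; omega)
    rwa [e, ev_one] at this
  · have := h' 9 (by decide)
    rwa [← ev_one Y, Ct.ev_xp, show Ct.xp _ _ [9] = [19] by decide +kernel, ev_one] at this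

theorem out : Nat.card (Cfsg.Out Cfsg.Spor.Th) = 1 := by
  refine Nat.card_eq_one_iff_exists.2 ⟨1, fun x => ?_⟩
  obtain ⟨α, rfl⟩ := QuotientGroup.mk_surjective x
  obtain ⟨g, h1, h2⟩ := norm α
  have hs : Y 11 ≠ Y 0 := fun e => z1 (by
    have := eqs.eq [12, 11] [11, 12, 0] (by decide +kernel)
    simp only [ev_cons, ev_nil, one_mul, e] at this
    rwa [mul_assoc, mul_right_inj, left_eq_mul] at this)
  obtain ⟨s, -, h3⟩ := inner_of_chk le eqs rfl h1 h2 hc (L := Le) (n0 := 2) (sl := 11) (st := st) (fun e => e.elim (fun e => z1 (by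
    simpa [e] using eqs.eq [12, 11] [11, 12, 0] (by decide +kernel))) hs) (by decide +kernel)
  rw [← Known.out_mk_conj g α, ← Known.out_mk_conj s]
  refine (QuotientGroup.eq_one_iff _).2 ((inner_of_fix le (u := ev Y uw) (β := MulAut.conj s * (MulAut.conj g * α))
    (mem_genL _ (by decide)) hs ?_ ?_ top fun c hc' => ?_).elim
    (fun e => e ▸ one_mem _) fun e => ⟨_, e.symm⟩)
  · rw [← ev_cons, q1.eq (0 :: uw) (uw ++ [11]) (by decide +kernel), ev_append, ev_one]
  · rw [← ev_cons, q1.eq (11 :: uw) (uw ++ [0]) (by decide +kernel), ev_append, ev_one]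
  · refine (show genL Y (0 :: qs ++ xs) ≤ (MulAut.conj s * (MulAut.conj g * α)).toMonoidHom.eqLocus (MonoidHom.id _) from
      genL_le fun x hx => ?_) (gen hc')
    rcases List.mem_append.1 hx with hx | hx
    · exact h3 _ (mem_genL _ hx)
    · refine eq_of_cent le h3 (hc (mem_genL _ (by revert x; decide))) (k := 1) ?_
      simpa [pow_succ, mul_assoc] using eqs.mem (xs := 0 :: qs) (ws := xs.map fun x => [x, x, x]) (by decide +kernel) _
        (List.mem_map_of_mem hx)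

end Cfsg.Agent.Fus.ThO
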