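import Cfsg.Agent.Fus.Solv
import Cfsg.Agent.Fus.Tvx

/-! Triple factorizations in the models make a fusion system solvable. -/

set_option autoImplicit false

universe u

namespace Cfsg.Agent.Fus

open Subgroup Cfsg Cfsg.Agent.Loc Equiv
open Cfsg.FusionSystem (normalizerIn centralizerIn)

/-- The factorization `G = C(A) N(B)`. -/
def CN {G : Type*} [Group G] (A B : Subgroup G) : Prop :=
  ∀ g : G, ∃ c ∈ centralizer (A : Set G), ∃ n ∈ normalizer (B : Set G), g = c * n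

section general

variable {Ω : Type*} [Group Ω] {S T U V P Q : Subgroup Ω} {p : ℕ} {F : FusionSystem S} {G : Type*} [Group G] {L : Ω → G}
  [Finite S]

theorem Real.nMor_bot (h : Real F L) (hP : P ≤ S) (hV : V ≤ centralizerIn S S) {g : G}
    (hg : g ∈ centralizer (img L V : Set G)) {f : Ω → Ω} (hf : ∀ x ∈ P, f x ∈ S ∧ L (f x) = g * L x * g⁻¹) :
    NMor F V ⊥ P f := by
  have hVS := hV.trans (CS_le S S)
  have k : ∀ z ∈ V, g * L z * g⁻¹ = L z := fun z hz => by rw [← hg _ (mem_img_of_mem L hz), mul_inv_cancel_right]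
  obtain ⟨a, h1, h2⟩ := h.exists_perm (sup_le hP hVS) le_rfl (g := g) (fun x hx => by
    obtain ⟨y, hy, z, hz, rfl⟩ := (mem_sup_of_le_normalizer_right (le_normalizer_of_le_centralizer
      fun y hy z hz => ((hV hz).2 y (hP hy)).symm)).1 hx
    rw [h.hom y (hP hy) z (hVS hz), show g * (L y * L z) * g⁻¹ = g * L y * g⁻¹ * (g * L z * g⁻¹) by group,
      ← (hf y hy).2, k z hz]
    exact mul_mem (mem_img_of_mem L (hf y hy).1) (mem_img_of_mem L (hVS hz)))
  exact nMor_bot_iff.2 ⟨a, h1, fun x hx => h.hom.injOn h.inj (h2 x (mem_sup_left hx)).1 (hf x hx).1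
    ((h2 x (mem_sup_left hx)).2.trans (hf x hx).2.symm), fun x hx => h.hom.injOn h.inj (h2 x (mem_sup_right hx)).1 (hVS hx)
      ((h2 x (mem_sup_right hx)).2.trans (k x hx))⟩

theorem Real.of_cn [Finite G] [Fact p.Prime] (h : Real F L) (hS : SylIn p (img L S) ⊤) (hU : U ≤ S)
    (nU : S ≤ normalizer (U : Set Ω)) (hV : V ≤ centralizerIn S S) (hf : CN (img L V) (img L U))
    {C : Subgroup Ω → Perm Ω → Prop} (hC : Closed F C) (h1 : ∀ P (f : Perm Ω), NMor F U ⊤ P f → C P f)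
    (h2 : ∀ P (f : Perm Ω), NMor F V ⊥ P f → C P f) (P : Subgroup Ω) (f : Perm Ω) (hf' : Mor F P f) : C P f := by
  obtain ⟨g, hg⟩ := h.exists hf'
  obtain ⟨c, hc, n, hn, rfl⟩ := hf g
  have k1 : img L S ≤ centralizer (img L V : Set G) := fun a ha b hb => by
    obtain ⟨x, hx, rfl⟩ := h.hom.mem_img.1 ha
    obtain ⟨y, hy, rfl⟩ := (h.hom.mono (hV.trans (CS_le S S))).mem_img.1 hb
    rw [← h.hom x hx y (hV hy).1, (hV hy).2 x hx, h.hom y (hV hy).1 x hx]
  have k2 : img L S ≤ normalizer (img L U : Set G) := h.hom.le_normalizer_img le_rfl hU nU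
  obtain ⟨d, hd, k3⟩ := (hS.mono (le_inf k1 k2) le_top).exists_conj_le (Q := cj n (img L P)) (fun a ha => by
    obtain ⟨_, hb, rfl⟩ := mem_cj_iff_exists.1 ha
    obtain ⟨x, hx, rfl⟩ := (h.hom.mono hf'.le).mem_img.1 hb
    refine mem_inf.2 ⟨?_, mul_mem (mul_mem hn (k2 (mem_img_of_mem L (hf'.le hx)))) (inv_mem hn)⟩
    rw [show n * L x * n⁻¹ = c⁻¹ * (c * n * L x * (c * n)⁻¹) * c by group, ← hg x hx]
    exact mul_mem (mul_mem (inv_mem hc) (k1 (mem_img_of_mem L (hf'.mem_S hx)))) hc)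
    (isPGroup_cj n (hS.pg.to_le (img_mono L hf'.le)))
  obtain ⟨k, k4, k5⟩ := h.exists_perm hf'.le le_rfl (g := d * n) fun x hx => by
    rw [show d * n * L x * (d * n)⁻¹ = d * (n * L x * n⁻¹) * d⁻¹ by group]
    exact k3 (conj_mem_cj (conj_mem_cj (mem_img_of_mem L hx)))
  have i := k4.iso.symm.trans hf'.iso
  refine hC.congr (hC.mul k4.iso i (h1 P k (h.nMor (le_inf hf'.le (hf'.le.trans nU)) hU (mul_mem hd.2 hn) k5))
    (h2 _ _ (h.nMor_bot i.le hV (mul_mem hc (inv_mem hd.1)) fun y hy => ⟨i.mor.mem_S hy, ?_⟩))) fun x _ => by simp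
  obtain ⟨x, hx, rfl⟩ := k4.homOn.mem_img.1 hy
  rw [Perm.mul_apply, Perm.coe_inv, symm_apply_apply, hg x hx, (k5 x hx).2]; group

theorem Real.exists_aut (h : Real F L) (hU : U ≤ S) {g : G} (hg : g ∈ normalizer (img L U : Set G)) :
    ∃ a ∈ AutF F U, ∀ x ∈ U, L (a x) = g * L x * g⁻¹ := by
  obtain ⟨a, h1, h2⟩ := h.exists_perm hU hU (g := g) fun x hx => conj_mem_of_mem_normalizer hg (mem_img_of_mem L hx)
  haveI := finite_of_le hU
  have k := h1.homOn.maps_self fun x hx => (h2 x hx).1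
  exact ⟨_, Iso.res_mem ⟨h1, k⟩, fun x hx => by rw [res_apply k hx, (h2 x hx).2]⟩

end general

variable {p : ℕ} [Fact p.Prime] {W W' : ∀ (Q : Type u) [Group Q], Subgroup Q} {Ω : Type u} [Group Ω]
  {S : Subgroup Ω} [Finite S]

theorem solv_of_triple (hW : IsCharPFunctor p W) (hW' : IsCharPFunctor p W') {H : Type*} [Group H]
    (hZ : ∀ {Ω : Type u} [Group Ω] (S : Subgroup Ω) [Finite S], IsPGroup p S → S ≠ ⊥ →
      ∃ z ∈ centralizerIn S S, z ∈ inducedFunctor W S ∧ z ∈ inducedFunctor W' S ∧ z ≠ 1)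
    (hG : ∀ (G : Type u) [Group G] [Finite G] (P : Sylow p G), ChP p (⊤ : Subgroup G) →
      ¬ PLocal.Involves (⊤ : Subgroup G) H → CN (centralizerIn (P : Subgroup G) P) (inducedFunctor W (P : Subgroup G)) ∧
        CN (centralizerIn (P : Subgroup G) P) (inducedFunctor W' (P : Subgroup G)) ∧
          CN (inducedFunctor W' (P : Subgroup G)) (inducedFunctor W (P : Subgroup G)))
    (F : FusionSystem S) : Sat F p → F.IsSectionFree p H → SolvT F S := by
  refine fs_induction (C := fun {Ω} _ {S} F => Sat F p → F.IsSectionFree p H → SolvT F S)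
    (fun Ω _ S _ F ih ih' hF hX => ?_) F
  by_cases h0 : S = ⊥
  · exact fun R _ h => (h (h0.le.trans bot_le)).elim
  have hQ := normal_CS_self (normal_core F)
  haveI := finite_of_le (core_le F)
  obtain ⟨Ω', _, S', _, θ, E, e, hk, hE⟩ := hF.exists_epi' (sc_of_normal hQ)
  refine e.solv_of (hk ▸ solvT_of_abelian (sc_of_normal hQ) (commutator_CS_self _)) (ih _ S' E (e.card_lt
    (hk ▸ CS_self_ne_bot (hF.pg.to_le (core_le F)) fun hc => ?_)) hE (e.free hF (hk ▸ hQ) hX))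
  clear hE hk e E θ ih hQ
  have key : ∀ {Q K T} (E : FusionSystem T), IsNK F Q K E → FKN F Q K → AutK Q Q ≤ K → ¬ F.IsSubsystemOf E →
      ∃ (G : Type u) (_ : Group G) (L : Ω → G), Model E p L ∧
        CN (img L (centralizerIn T T)) (img L (inducedFunctor W T)) ∧
        CN (img L (centralizerIn T T)) (img L (inducedFunctor W' T)) ∧
        CN (img L (inducedFunctor W' T)) (img L (inducedFunctor W T)) := fun E hE hQ hK hne => by
    haveI := hE.finite
    have hs := hE.sat hF hQ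
    have hf := hE.free hF hQ hK hX
    obtain ⟨G, _, L, hL⟩ := exists_model_of_constrained hs.pg ((ih' _ E hE.sub hne hs hf).constrained hs)
    haveI := hL.fin
    refine ⟨G, _, L, hL, ?_⟩
    rw [hL.hom.img_CS hL.inj le_rfl le_rfl, img_ind hW hs.pg hL.hom hL.inj, img_ind hW' hs.pg hL.hom hL.inj]
    exact hG G hL.syl.toSylowTop hL.chp (free_model hf hL)
  have hN := natW_ind hW hF.pg
  have nrm : ∀ Q ≤ S, Q ≠ ⊥ → S ≤ normalizer (Q : Set Ω) → ∃ N : FusionSystem S, IsNK F Q ⊤ N ∧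
      ∃ (G : Type u) (_ : Group G) (L : Ω → G), Model N p L ∧
        CN (img L (centralizerIn S S)) (img L (inducedFunctor W' S)) ∧
        CN (img L (inducedFunctor W' S)) (img L (inducedFunctor W S)) := fun Q h1 h2 h3 => by
    obtain ⟨N, k, -, -⟩ := hF.exists_nrm h1 h3
    obtain ⟨G, _, L, k1, -, k2⟩ := key N k (fkn_top.2 (fn_of_normal F h1 h3)) le_top
      fun hs => h2 (eq_bot_iff.2 (hc ▸ le_core (k.normal_of_sub hs)))
    exact ⟨N, k, G, _, L, k1, k2⟩
  have hA : Dz F (inducedFunctor W S) (inducedFunctor W' S) ≤ inducedFunctor W S := fun _ h => h.1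
  have hAS := hA.trans (hN.le S)
  have hz : ∀ P (f : Perm Ω), NMor F (centralizerIn S S) ⊥ P f →
      NMor F (Dz F (inducedFunctor W S) (inducedFunctor W' S)) ⊤ P f := fun P f hf => by
    obtain ⟨N, k, G, _, L, hL, -, k2⟩ := nrm _ (CS_le S S) (CS_self_ne_bot hF.pg h0) (chr_CS S).le_normalizer
    haveI := hL.fin
    refine ((normal_iff_nMor.1 ((hL.normal_iff hAS).2 (normalizer_eq_top_iff.1 (eq_top_iff.2 fun g _ => ?_)))).2 P f
      (k.mor hf.mor.le (hf.mono_K le_top))).sub k.sub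
    obtain ⟨c, hc, n, hn, rfl⟩ := k2 g
    refine mul_mem (le_normalizer_of_le_centralizer (le_refl _) (centralizer_le (img_mono L (Dz_le _ _ _)) hc))
      (mem_normalizer_of_cj_le (cj_le_iff_forall.2 fun y hy => ?_))
    obtain ⟨x, hx, rfl⟩ := (hL.hom.mono hAS).mem_img.1 hy
    obtain ⟨a, ha, e⟩ := hL.toReal.exists_aut (hN.le S) hn
    rw [← e x hx.1]
    exact mem_img_of_mem L ((maps_Dz (AutF_mono k.sub _ ha)).mem hx)
  have h : Red F p (inducedFunctor W) fun P f => NMor F (Dz F (inducedFunctor W S) (inducedFunctor W' S)) ⊤ P f :=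
    ⟨hF, hN, closed_nMor F _ ⊤, fun P f hf => hf.of_inv hA fun a ha => (maps_Dz ha.res_mem).congr
      fun x hx => (res_apply ha.maps hx.1).symm, fun E hE hQ hK _ hne hb => by
        haveI := hE.finite
        obtain ⟨G, _, L, hL, k1, -⟩ := key E hE hQ hK hne
        haveI := hL.fin
        exact hL.toReal.of_cn hL.syl (ind_le' W _) (le_normalizer.trans (normalizer_le_ind hW (hF.pg.to_le hE.T_le)))
          le_rfl k1 ((closed_nMor F _ ⊤).sub hE.sub) hb fun P f hf => hz P f ((hf.sub hE.sub).of_fix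
            (CS_self_le_nk hE) fun a ha x _ => by rw [mem_bot.1 ha]; rfl)⟩
  obtain ⟨z, z1, z2, z3, z4⟩ := hZ S hF.pg h0
  refine z4 (mem_bot.1 (hc.le (le_core (normal_iff_nMor.2 ⟨hAS, h.of_core_eq_bot hc⟩) ⟨z2, fun a ha => ?_⟩)))
  obtain ⟨N, k, G, _, L, hL, k2, -⟩ := nrm _ (hN.le S) (hN.ne_bot S le_rfl h0) h.le_normalizer
  have i := iso_of_AutF (hN.le S) ha
  obtain ⟨g, hg⟩ := hL.toReal.exists (k.mor_of_fun i.mor fun x => i.mem)
  obtain ⟨c, hc, n, hn, e⟩ := k2 g⁻¹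
  have := conj_mem_of_mem_normalizer (inv_mem hn) (mem_img_of_mem L z3)
  rw [show n⁻¹ * L z * n⁻¹⁻¹ = (c * n)⁻¹ * (c * L z) * n by group, ← hc _ (mem_img_of_mem L z1), mul_assoc, mul_assoc,
    ← e, inv_inv, ← mul_assoc, ← hg z z2] at this
  obtain ⟨y, hy, e⟩ := (hL.hom.mono (ind_le' W' S)).mem_img.1 this
  exact hL.hom.injOn hL.inj (ind_le' W' S hy) (i.mor.mem_S z2) e ▸ hy

end Cfsg.Agent.Fus
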