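import Cfsg.Agent.Fus.Xt3

/-! Centralizing a strongly closed subgroup; components centralize normal subgroups. -/

set_option autoImplicit false

namespace Cfsg.Agent.Fus

open Subgroup Cfsg Cfsg.Agent.Loc Equiv
open Cfsg.FusionSystem (normalizerIn centralizerIn)
open scoped commutatorElement

/-- Two `p'`-elements that are congruent modulo a normalized `p`-group are conjugate under it. -/
theorem exists_conj_of_coprime {G : Type*} [Group G] {p : ℕ} [hp : Fact p.Prime] {D : Subgroup G} [Finite D] (hD : IsPGroup p D)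
    (m : ℕ) : m.Coprime p → ∀ {g g' : G}, g ∈ normalizer (D : Set G) → g⁻¹ * g' ∈ D → g' ^ m = g ^ m →
      ∃ d ∈ D, g' = d * g * d⁻¹ := by
  induction m using induction_on_primes with
  | zero => intro h; exact absurd (by simpa using h) hp.out.ne_one
  | one => intro _ g g' _ _ e; exact ⟨1, one_mem _, by simpa using e⟩
  | prime_mul q m hq ih =>
    intro hc g g' hg hd e
    haveI := Fact.mk hq
    have hg' : g' ∈ normalizer (D : Set G) := by simpa using mul_mem hg (le_normalizer hd)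
    have hk : ∀ k : ℕ, g' ^ k * (g ^ k)⁻¹ ∈ D := fun k => by
      induction k with
      | zero => simp
      | succ k ihk =>
        have := D.mul_mem (conj_mem_of_mem_normalizer hg' ihk) (conj_mem_of_mem_normalizer hg hd)
        have e : g' * (g' ^ k * (g ^ k)⁻¹) * g'⁻¹ * (g * (g⁻¹ * g') * g⁻¹) = g' ^ (k + 1) * (g ^ (k + 1))⁻¹ := by
          rw [pow_succ' g', pow_succ' g]; group
        rwa [e] at this
    set h := g ^ m
    set h' := g' ^ m
    have e' : h' ^ q = h ^ q := by rw [← pow_mul, ← pow_mul, mul_comm m, e]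
    set X := D ⊓ centralizer {h ^ q}
    have hX : ∀ d ∈ X, h' * d * h⁻¹ ∈ X := fun d hd' => ⟨by
        have := D.mul_mem (conj_mem_of_mem_normalizer (pow_mem hg' m) hd'.1) (hk m)
        simpa [h, h', mul_assoc] using this,
      mem_centralizer_singleton_iff.2 (by
        have h1 := mem_centralizer_singleton_iff.1 hd'.2
        calc h' * d * h⁻¹ * h ^ q = h' * (d * h ^ q) * h⁻¹ := by group
          _ = h' * h' ^ q * d * h⁻¹ := by rw [h1, e']; group
          _ = h' ^ q * (h' * d * h⁻¹) := by group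
          _ = _ := by rw [e'])⟩
    haveI : Finite X := finite_of_le inf_le_left
    let σ : X → X := fun d => ⟨_, hX d d.2⟩
    have hσ : ∀ k (d : X), (σ^[k] d : G) = h' ^ k * d * (h ^ k)⁻¹ := fun k d => by
      induction k with
      | zero => simp
      | succ k ihk => rw [Function.iterate_succ_apply']; simp only [σ, ihk]; rw [pow_succ' h', pow_succ h]; group
    have hσq : σ^[q] = id := funext fun d => Subtype.ext (by
      rw [hσ, e', ← mem_centralizer_singleton_iff.1 d.2.2]; simp)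
    have hinj : Function.Injective σ := fun a b hab => Subtype.ext (by simpa [σ] using congrArg Subtype.val hab)
    haveI := Fintype.ofFinite X
    obtain ⟨d, hd'⟩ := Perm.exists_fixed_point_of_prime (p := q) (n := 1) (σ := Equiv.ofBijective σ hinj.bijective_of_finite)
      (by
        obtain ⟨k, hk'⟩ := IsPGroup.iff_card.1 (hD.to_le (inf_le_left : X ≤ D))
        rw [← Nat.card_eq_fintype_card, hk']
        exact fun hd => hq.coprime_iff_not_dvd.1 (Nat.Coprime.coprime_mul_right hc) (hq.dvd_of_dvd_pow hd))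
      (by ext x; rw [pow_one, Perm.coe_pow]; exact congrArg Subtype.val (congrFun hσq x))
    have h2 : h' * d * h⁻¹ = d := congrArg Subtype.val hd'
    obtain ⟨c, hc', e''⟩ := ih (Nat.Coprime.coprime_mul_left hc) (g := d * g * (d : G)⁻¹) (g' := g')
      (mul_mem (mul_mem (le_normalizer d.2.1) hg) (inv_mem (le_normalizer d.2.1)))
      (by
        have := D.mul_mem (D.mul_mem d.2.1 (conj_inv_mem_of_mem_normalizer hg (D.inv_mem d.2.1))) hd
        simpa [mul_assoc] using this)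
      (by rw [conj_pow]; exact eq_mul_inv_of_mul_eq (mul_inv_eq_iff_eq_mul.1 h2))
    exact ⟨c * d, D.mul_mem hc' d.2.1, by rw [e'']; group⟩

theorem exists_conj_of_coprime' {G : Type*} [Group G] {p : ℕ} [Fact p.Prime] {D : Subgroup G} [Finite D] (hD : IsPGroup p D)
    {g g' : G} (hg : (orderOf g).Coprime p) (hg' : (orderOf g').Coprime p) (hn : g ∈ normalizer (D : Set G))
    (hd : g⁻¹ * g' ∈ D) : ∃ d ∈ D, g' = d * g * d⁻¹ :=
  exists_conj_of_coprime hD _ (hg.mul_left hg') hn hd (by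
    rw [pow_mul g, pow_orderOf_eq_one, one_pow, mul_comm, pow_mul, pow_orderOf_eq_one, one_pow])

variable {Ω : Type*} [Group Ω] {S T U P Q R N V X : Subgroup Ω} {p : ℕ} {F : FusionSystem S} {E : FusionSystem T}
  {D : FusionSystem U} {a b f g : Perm Ω}

theorem commutator_mem_inf (hS : S ≤ normalizer (T : Set Ω)) (hS' : S ≤ normalizer (U : Set Ω)) (hT : T ≤ S) (hU : U ≤ S)
    {t u : Ω} (ht : t ∈ T) (hu : u ∈ U) : t * u * t⁻¹ * u⁻¹ ∈ T ⊓ U :=
  ⟨by simpa [mul_assoc] using T.mul_mem ht (conj_mem_of_mem_normalizer (hS (hU hu)) (T.inv_mem ht)),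
    U.mul_mem (conj_mem_of_mem_normalizer (hS' (hT ht)) hu) (U.inv_mem hu)⟩

theorem le_normalizer_of_inf_le (hS : S ≤ normalizer (T : Set Ω)) (hS' : S ≤ normalizer (U : Set Ω)) (hT : T ≤ S) (hU : U ≤ S)
    (h1 : T ⊓ U ≤ P) (h2 : P ≤ U) : T ≤ normalizer (P : Set Ω) :=
  le_normalizer_of_cj_le fun t ht => cj_le_iff_forall.2 fun x hx => by
    simpa using P.mul_mem (h1 (commutator_mem_inf hS hS' hT hU ht (h2 hx))) hx

variable [Finite S] [Fact p.Prime]

theorem NI.nMor_Tr (h : NI D F p) (hT : F.StronglyClosed T) {D' : FusionSystem V}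
    (hD' : IsNK D (T ⊓ U) (AutK (T ⊓ U) (T ⊓ U)) D') (hf : Mor D' P f) : NMor F T (Tr U T) P f := by
  haveI := h.finite
  haveI := hD'.finite
  haveI := finite_of_le hT.1
  have hsc : D.StronglyClosed (T ⊓ U) := sc_sub h.sub hT
  have hk : FKN D (T ⊓ U) (AutK (T ⊓ U) (T ⊓ U)) := ⟨inf_le_right, fun f R hf => by
    obtain rfl := hf.maps.unique (sc_maps hsc hf.mor le_rfl)
    rw [hf.homOn.cj_Inn hf.maps]⟩
  have hs := hD'.sat h.satE hk
  have hTn := sc_le_normalizer hT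
  have hUn := sc_le_normalizer h.sc
  have hle := hD'.le_T le_rfl
  refine hs.alperin_p' ((closed_nMor F T _).sub (sub_trans hD'.sub h.sub)) (fun u hu => ?_) (fun P hP a ha hp => ?_) P f hf
  · have hu' := hD'.T_le hu
    exact nMor_cp (hD'.T_le.trans h.le) hT.1 ⟨⟨h.le hu', hTn (h.le hu')⟩, cr_mem_Tr hu' (hTn (h.le hu')) (hT.1.trans hUn)⟩
  obtain ⟨h1, h2, h3⟩ := hs.base_fcr hP
  have hQP : T ⊓ U ≤ P := normal_le_cr hs.pg (hD'.normal hle) h2 h3
  have hc : D.IsCentric P := by have := hD'.centric_sup h.satE hk h1 h2; rwa [sup_eq_left.2 hQP] at this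
  have haD := AutF_mono hD'.sub P ha
  have hi := iso_of_AutF hc.1 haD
  have hPS := hc.1.trans h.le
  have hTP : T ≤ normalizer (P : Set Ω) := le_normalizer_of_inf_le hTn hUn hT.1 h.le hQP hc.1
  have hA : AutF D' (T ⊓ U) ≤ AutK (T ⊓ U) (T ⊓ U) := by rw [hD'.AutF_self hle]; exact inf_le_right
  have hAp : IsPGroup p (AutF D' (T ⊓ U)) := (isPGroup_AutK (h.satE.pg.to_le inf_le_right) _).to_le hA
  have ham := sc_maps hsc hi.mor hQP
  have hfix : ∀ y ∈ T ⊓ U, a y = y := fun y hy => by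
    obtain ⟨k, hk⟩ := exists_pow_of_isPGroup hAp (Iso.res_mem ⟨(iso_of_AutF h1.1 ha).mor.mono hQP, ham⟩)
    refine fix_of_pow_fix (k := k) hp ?_
    rw [← res_apply (ham.pow _) hy, res_pow ham, hk, Perm.one_apply]
  obtain ⟨g, hg, -, e, hu⟩ := h.ext_pprime hc haD hp (R := P ⊔ T) le_sup_left
    (le_inf (sup_le hPS hT.1) (sup_le le_normalizer hTP)) fun x hx => by
      obtain ⟨y, hy, z, hz, rfl⟩ := (mem_sup_of_le_normalizer_left hTP).1 hx
      have k4 := cr_mem_AutF F hPS ⟨hT.1 hz, hTP hz⟩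
      have k5 : a * (cr P z * a⁻¹ * (cr P z)⁻¹) ∈ AutF D P :=
        mul_mem haD (conj_mem_of_mem_normalizer (h.inv.AutF_normal hc.1 k4) (inv_mem haD))
      have k1 : cr P z ∈ Tr T P := cr_mem_Tr hz (hTP hz) (hPS.trans hTn)
      have k2 : a * (cr P z * a⁻¹ * (cr P z)⁻¹) ∈ Tr T P := by
        simpa [mul_assoc] using mul_mem (conj_mem_Tr hT k1 (hi.sub h.sub)) (inv_mem k1)
      have k0 : ∀ w ∈ T ⊓ U, (a * (cr P z * a⁻¹ * (cr P z)⁻¹)) w = w := fun w hw => by
        have hm : Maps (cr P z) (T ⊓ U) (T ⊓ U) :=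
          (maps_cr_iff hQP (hTP hz)).2 (mem_normalizer_inf (le_normalizer hz) (hUn (hT.1 hz)))
        have : ∀ w ∈ T ⊓ U, a⁻¹ w = w := fun w hw => by rw [Perm.inv_eq_iff_eq, hfix w hw]
        simp only [Perm.mul_apply]
        rw [this _ (hm.inv_mem hw), perm_apply_inv, hfix w hw]
      have k3 : a * (cr P z * a⁻¹ * (cr P z)⁻¹) ∈ AutF D' P := (mem_AutF h1.1).2 ⟨hD'.mor h1.1
        ((nMor_bot_iff.2 ⟨_, by rw [sup_eq_left.2 hQP]; exact (iso_of_AutF hc.1 k5).mor, fun _ _ => rfl, k0⟩).mono_K bot_le),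
        supp_of_AutF k5⟩
      have k6 := mem_pCore_of_cen hs.pg (sc_of_normal (hD'.normal hle)) hAp h1.1 hQP k3
        fun w hw => ⟨(k2.2.2.2 w hw).2, hc.1 (k2.2.2.2 w hw).1⟩
      rw [(radical_iff.1 h3).2] at k6
      obtain ⟨s, hs, hsn, k7⟩ := mem_AutK.1 k6
      have k8 : a y * s * y⁻¹ ∈ P := P.mul_mem (P.mul_mem (hi.mem hy) hs) (P.inv_mem hy)
      refine ⟨a y * s * y⁻¹, ⟨mem_sup_left k8, hc.1 k8⟩, fun w hw => ?_⟩
      have hw' := conj_mem_of_mem_normalizer (hTP hz) hw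
      have k9 := cr_apply hsn (conj_mem_of_mem_normalizer (hTP hz) (hi.mem hw))
      rw [k7] at k9
      simp only [Perm.mul_apply] at k9
      rw [← cr_apply (hTP hz) (hi.mem hw), perm_inv_apply, perm_inv_apply, cr_apply (hTP hz) hw,
        cr_apply (hTP hz) (hi.mem hw)] at k9
      rw [show y * z * w * (y * z)⁻¹ = y * (z * w * z⁻¹) * y⁻¹ by group, hi.homOn.map_conj hy hw', k9]
      group
  have hgi := iso_of_AutF (sup_le hPS hT.1) hg
  have hm := sc_maps hT hgi.mor le_sup_right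
  exact ⟨g, hgi.mor, e, hm, Iso.res_mem_Tr ⟨hgi.mor.mono le_sup_right, hm⟩ (hu.mono le_sup_right)⟩

/-- A `p'`-automorphism in a normal subsystem `D` centralizing `T ⊓ U` centralizes the strongly closed subgroup `T`. -/
theorem NI.up (h : NI D F p) (hT : F.StronglyClosed T) (hP : P ≤ centralizerIn U (T ⊓ U)) (ha : a ∈ AutF D P)
    (hp : (orderOf a).Coprime p) (hn : NMor D (T ⊓ U) ⊥ P a) : NMor F T ⊥ P a := by
  haveI := h.finite
  obtain ⟨D', hD'⟩ := exists_isNK D (inf_le_right : T ⊓ U ≤ U) (AutK (T ⊓ U) (T ⊓ U)) rfl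
  obtain ⟨g, hg, e, hfix⟩ := nMor_bot_iff.1 hn
  have hle : P ⊔ T ⊓ U ≤ NK U (T ⊓ U) (AutK (T ⊓ U) (T ⊓ U)) :=
    sup_le (hP.trans (CS_le_NK _ _ _)) (Inn_le_NK inf_le_right le_rfl)
  obtain ⟨k, hk, e', hm, hK⟩ := h.nMor_Tr hT hD' (hD'.mor hle ((nMor_bot_iff.2
    ⟨g, by rwa [sup_assoc, sup_idem], fun _ _ => rfl, hfix⟩).mono_K bot_le))
  have hk' := hk.mono (sup_le_sup_right (le_sup_left : P ≤ P ⊔ T ⊓ U) T)
  have e₁ : ∀ x ∈ P, k x = a x := fun x hx => (e' x (mem_sup_left hx)).trans (e x hx)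
  have hi : Iso F k (P ⊔ T) (P ⊔ T) := ⟨hk', hk'.homOn.maps_sup ((maps_of_AutF ha).congr e₁) hm⟩
  obtain ⟨n, h1, h2⟩ := exists_pow_pprime_ext (g := res (P ⊔ T) k) (a := a) (P := P)
    (haveI := finite_AutF' F hi.le; orderOf_ne_zero_of_mem hi.res_mem) hp (maps_of_AutF ha)
    fun x hx => (res_apply hi.maps (mem_sup_left hx)).trans (e₁ x hx)
  have hb := iso_of_AutF hi.le (pow_mem hi.res_mem n)
  have e₂ : ∀ x ∈ T, (res (P ⊔ T) k ^ n) x = (res T k ^ n) x := fun x hx => by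
    rw [← res_pow hi.maps, ← res_pow hm, res_apply (hi.maps.pow n) (mem_sup_right hx), res_apply (hm.pow n) hx]
  refine nMor_bot_iff.2 ⟨_, hb.mor, h2, fix_of_coprime_of_stab (B := T ⊓ U) h1 (h.satE.pg.to_le inf_le_right)
    (hb.homOn.mono le_sup_right) (sc_maps hT hb.mor le_sup_right) inf_le_left (fun x hx => pow_fix ?_ n) fun x hx => ?_⟩
  · rw [res_apply hi.maps (mem_sup_right hx.1), e' x (mem_sup_right hx), hfix x hx]
  · rw [e₂ x hx]; exact (pow_mem hK n).2.2.2 x hx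

omit [Finite S] [Fact p.Prime] in
theorem NMor.quot_mem_centralizer (h : NMor F T ⊥ P f) {x : Ω} (hx : x ∈ P) (hn : x ∈ normalizer (T : Set Ω)) :
    x⁻¹ * f x ∈ centralizer (T : Set Ω) := by
  obtain ⟨g, hg, e, hfix⟩ := nMor_bot_iff.1 h
  refine inv_mul_mem_centralizer fun y hy => ?_
  have := hg.homOn.map_conj (mem_sup_left hx) (mem_sup_right hy)
  rwa [hfix _ (conj_mem_of_mem_normalizer hn hy), hfix y hy, e x hx, eq_comm] at this

theorem cz_of_pprime {C : FusionSystem V} (hC : Sat C p) (hh : C.hyperfocalSubgroup p = V) (hCF : C.IsSubsystemOf F)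
    (hT : T ≤ S) (hn : V ≤ normalizer (T : Set Ω))
    (h : ∀ P ≤ V, ∀ a ∈ AutF C P, (orderOf a).Coprime p → NMor F T ⊥ P a) : Cz F C T := by
  haveI := finite_of_le (sub_le hCF)
  have hV : V ≤ centralizer (T : Set Ω) := hh.ge.trans
    (hyp_le_iff.2 fun P hP a ha hp x hx => (h P hP a ha hp).quot_mem_centralizer hx (hn (hP hx)))
  exact ⟨le_inf hT (le_centralizer_iff.1 hV), hC.alperin_p' ((closed_nMor F T ⊥).sub hCF)
    (fun v hv => nMor_bot_cp (sub_le hCF) hT (sub_le hCF hv) (hV hv)) fun P hP a ha hp => h P (hC.base_fcr hP).1.1 a ha hp⟩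

theorem NI.cz_up (h : NI D F p) (hT : F.StronglyClosed T) {C : FusionSystem V} (hC : Sat C p)
    (hh : C.hyperfocalSubgroup p = V) (hCD : C.IsSubsystemOf D) (hz : Cz D C (T ⊓ U)) : Cz F C T :=
  cz_of_pprime hC hh (sub_trans hCD h.sub) hT.1 ((sub_le hCD).trans (h.le.trans (sc_le_normalizer hT))) fun P hP a ha hp =>
    h.up hT (le_inf (hP.trans (sub_le hCD)) (le_centralizer_iff.1 fun _ hx y hy => (hz.le hx).2 y (hP hy)))
      (AutF_mono hCD P ha) hp (hz.mor P a (iso_of_AutF hP ha).mor)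

theorem WN.normal_inf (h : WN D F p) (hQ : F.IsNormal Q) : D.IsNormal (Q ⊓ U) := by
  haveI := h.finite
  have hQS : Q ≤ S := hQ.1
  haveI := finite_of_le hQS
  obtain ⟨n, hn⟩ := exists_Zs_eq (h.satF.pg.to_le hQS)
  refine h.satE.normal_of_chain n (fun i => Zs Q i ⊓ U) (by simp [Zs_zero]) (by simp [hn]) fun i _ =>
    ⟨inf_le_inf_right U (Zs_mono Q i.le_succ), sc_sub h.sub (sc_of_normal (normal_Zs hQ _)), le_inf ?_ ?_⟩
  · rw [commutator_comm]; exact (commutator_mono inf_le_left inf_le_left).trans (commutator_Zs Q i)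
  · exact (commutator_mono inf_le_right inf_le_right).trans (commutator_le_self U)

theorem qs_normal_le (hS : IsPGroup p S) (h : F.Quasisimple p) (hQ : F.IsNormal Q) : Q ≤ F.center := by
  obtain ⟨Ω', _, S', _, θ, E, e, hk, hE, hs⟩ := qs_exists hS h
  rcases simple_normal hE.pg hs (e.normal_img hQ) with h1 | h1
  · exact hk ▸ (e.hom.le_pre_iff hQ.1).2 h1.le
  · have h2 := e.hyp_eq (p := p)
    rw [h.2.1, e.img_eq, simple_inner hE.pg hs (h1 ▸ e.normal_img hQ), hyp_inner hE.pg] at h2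
    exact absurd h2.symm hs.2.1

omit [Fact p.Prime] in
theorem cz_of_central (h : F.IsCentral Q) : Cz F F Q :=
  ⟨(le_center h).trans (center_le_CS F), (central_iff_nMor.1 h).2⟩

/-- Components centralize normal subgroups. -/
theorem component_cz {C : FusionSystem V} (hC : C.IsComponentIn F p) (hF : Sat F p) (hQ : F.IsNormal Q) : Cz F C Q := by
  obtain ⟨h1, h2⟩ := hC
  rename_i hfin hp
  revert hfin hp Q
  induction h1 with
  | refl F => exact fun hQ => cz_of_central (central_iff_le_center.2 (qs_normal_le hF.pg h2 hQ))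
  | step h hn ih =>
    intro Q _ _ hQ
    have hD := (ni_iff hF.pg).1 hn
    haveI := hD.finite
    exact hD.cz_up (sc_of_normal hQ) (sn_sat h hD.satE) h2.2.1 (sn_sub h) (ih hD.satE h2 (hD.normal_inf hQ))

omit [Fact p.Prime] in
theorem IsNK.sub_of_cz {C : FusionSystem V} (hD : IsNK F Q ⊥ D) (h : Cz F C Q) (hV : V ≤ S) : C.IsSubsystemOf D :=
  haveI := finite_of_le hV
  sub_iff_perm.2 fun P f hf => hD.mor (by
    rw [hD.eq, NK_bot]; exact le_inf (hf.le.trans hV) (le_centralizer_iff.1 fun _ hx y hy => (h.le hx).2 y (hf.le hy))) (h.mor P f hf)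

omit [Fact p.Prime] in
theorem IsNK.cz_of_sub {C : FusionSystem V} (hD : IsNK F Q ⊥ D) (h : C.IsSubsystemOf D) : Cz F C Q :=
  ⟨le_inf hD.le (le_centralizer_iff.1 fun x hx => (show x ∈ centralizerIn S Q from NK_bot S Q ▸ hD.eq ▸ sub_le h hx).2),
    fun _ _ hf => hD.nMor (hf.sub h)⟩

theorem layer_cz (hE : E.IsLayerOf F p) (hF : Sat F p) (hQ : F.IsNormal Q) : Cz F E Q := by
  obtain ⟨D, hD, -⟩ := exists_centralizerSystem F hQ.1
  exact hD.cz_of_sub (hE.2.2 _ D ((ni_iff hF.pg).2 (hD.ni_bot hF hQ)) fun U C hC =>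
    hD.sub_of_cz (component_cz hC hF hQ) (sub_le (sn_sub hC.1)))

end Cfsg.Agent.Fus
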