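import Cfsg.Agent.Fus.Misc

/-! Extending morphisms of a normal subsystem over `T` trivially modulo `T`. -/

set_option autoImplicit false

namespace Cfsg.Agent.Fus

open Subgroup Cfsg Cfsg.Agent.Loc Equiv
open Cfsg.FusionSystem (normalizerIn centralizerIn)
open scoped commutatorElement

variable {Ω : Type*} [Group Ω] {S T U P Q R N : Subgroup Ω} {p : ℕ} {F : FusionSystem S} {E : FusionSystem T}
  {a b f g : Perm Ω}

theorem mem_Cen_of {B C : Subgroup Ω} [Finite B] (hBC : B ≤ C) (h : HomOn a C) (hm : Maps a C C)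
    (h4 : ∀ c ∈ C, c⁻¹ * a c ∈ B) : a ∈ Cen B C hBC :=
  ⟨h, hm, (h.mono hBC).maps_self fun x hx => by simpa using mul_mem hx (h4 x (hBC hx)), h4⟩

/-- Automorphisms of `U` that are trivial modulo `T`. -/
def Tr (T U : Subgroup Ω) : Subgroup (Perm Ω) := Cen (U ⊓ T) U inf_le_left

theorem Tr.cu (h : a ∈ Tr T U) : CU T U a := fun x hx => (h.2.2.2 x hx).2

theorem CU.mem_Tr [Finite U] (h : CU T U a) (hh : HomOn a U) (hm : Maps a U U) : a ∈ Tr T U :=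
  haveI : Finite (U ⊓ T : Subgroup Ω) := finite_of_le inf_le_left
  mem_Cen_of _ hh hm fun x hx => ⟨U.mul_mem (U.inv_mem hx) (hm.mem hx), h x hx⟩

theorem CU.mono (h : CU T U a) (hP : P ≤ U) : CU T P a := fun x hx => h x (hP hx)

theorem CU.congr (h : CU T U a) (e : ∀ x ∈ U, b x = a x) : CU T U b := fun x hx => by rw [e x hx]; exact h x hx

theorem CU.sup (h : HomOn a (P ⊔ Q)) (hn : P ⊔ Q ≤ normalizer (T : Set Ω)) (hP : CU T P a) (hQ : CU T Q a) :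
    CU T (P ⊔ Q) a := by
  let H : Subgroup Ω :=
    { carrier := {x | x ∈ P ⊔ Q ∧ x⁻¹ * a x ∈ T}
      one_mem' := ⟨one_mem _, by simp [h.map_one]⟩
      mul_mem' := fun {x y} hx hy => ⟨mul_mem hx.1 hy.1, by
        have := T.mul_mem (conj_inv_mem_of_mem_normalizer (hn hy.1) hx.2) hy.2
        rw [h x hx.1 y hy.1]; convert this using 1; group⟩
      inv_mem' := fun {x} hx => ⟨inv_mem hx.1, by
        have := conj_mem_of_mem_normalizer (hn hx.1) (T.inv_mem hx.2)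
        rw [h.map_inv hx.1]; convert this using 1; group⟩ }
  exact fun x hx => (sup_le (c := H) (fun y hy => ⟨mem_sup_left hy, hP y hy⟩) (fun y hy => ⟨mem_sup_right hy, hQ y hy⟩) hx).2

theorem cu_of_sc (hT : F.StronglyClosed T) (hf : Mor F U f) (hP : P ≤ U) (hPT : P ≤ T) : CU T P f :=
  fun _ hx => T.mul_mem (T.inv_mem (hPT hx)) (sc_mem hT hf (hP hx) (hPT hx))

theorem cu_cp {t : Ω} (ht : t ∈ T) (hn : U ≤ normalizer (T : Set Ω)) : CU T U (cp t) := fun x hx => by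
  have := T.mul_mem (conj_inv_mem_of_mem_normalizer (hn hx) ht) (T.inv_mem ht)
  simpa [mul_assoc] using this

theorem cr_mem_Tr {t : Ω} (ht : t ∈ T) (htn : t ∈ normalizer (U : Set Ω)) (hn : U ≤ normalizer (T : Set Ω)) :
    cr U t ∈ Tr T U := cr_mem_Cen hn ht htn

theorem conj_mem_Tr (hT : F.StronglyClosed T) (ha : a ∈ Tr T P) (hf : Iso F f P Q) : f * a * f⁻¹ ∈ Tr T Q := by
  obtain ⟨h1, h2, h3, h4⟩ := ha
  have hB := sc_maps_inf hT hf
  refine ⟨(hf.homOn.mul h1 fun _ hx => h2.mem hx).mul hf.symm.homOn fun _ hx => hf.symm.mem hx,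
    hf.maps.symm.trans (h2.trans hf.maps), hB.symm.trans (h3.trans hB), fun c hc => ?_⟩
  obtain ⟨d, hd, rfl⟩ := hf.maps.exists_eq hc
  simp only [Perm.mul_apply, perm_inv_apply]
  rw [← hf.homOn.map_inv_mul hd (h2.mem hd)]
  exact hB.mem (h4 d hd)

theorem AutF_le_normalizer_Tr (hT : F.StronglyClosed T) (hP : P ≤ S) : AutF F P ≤ normalizer (Tr T P : Set (Perm Ω)) :=
  le_normalizer_of_cj_le fun _ hb => cj_le_iff_forall.2 fun _ hc => conj_mem_Tr hT hc (iso_of_AutF hP hb)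

theorem sup_CS_inf (hQ : Q ≤ T) (hC : centralizerIn T Q ≤ Q) : (Q ⊔ centralizerIn S Q) ⊓ T = Q := by
  rw [sup_inf_of_le_left ((CS_le_NS S Q).trans (NS_le_normalizer S Q)) hQ]
  exact sup_eq_left.2 fun x hx => hC ⟨hx.2, hx.1.2⟩

theorem NS_le_normalizer_sup_CS (S Q : Subgroup Ω) :
    normalizerIn S Q ≤ normalizer ((Q ⊔ centralizerIn S Q : Subgroup Ω) : Set Ω) :=
  le_normalizer_sup (NS_le_normalizer S Q) (NS_le_normalizer_CS S Q)

theorem sup_CS_le_NS (hQ : Q ≤ S) : Q ⊔ centralizerIn S Q ≤ normalizerIn S Q := sup_le (le_NS hQ) (CS_le_NS S Q)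

theorem sup_CS_le (hQ : Q ≤ S) : Q ⊔ centralizerIn S Q ≤ S := sup_le hQ (Fus.CS_le S Q)

theorem mem_sup_CS {x : Ω} : x ∈ Q ⊔ centralizerIn S Q ↔ ∃ q ∈ Q, ∃ c ∈ centralizerIn S Q, q * c = x :=
  mem_sup_of_le_normalizer_left ((CS_le_NS S Q).trans (NS_le_normalizer S Q))

theorem pow_eq_one_of_stab [Fact p.Prime] [Finite N] (hN : IsPGroup p N) (hs : Supp a U) (h : HomOn a U) (hNU : N ≤ U)
    (h1 : ∀ x ∈ N, a x = x) (h2 : CU N U a) : ∃ k, a ^ p ^ k = 1 := by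
  obtain ⟨j, hj⟩ := IsPGroup.iff_card.1 hN
  refine ⟨j, ?_⟩
  rw [← hs.res_eq, ← res_pow hs.maps, res_eq_one_iff (hs.maps.pow _)]
  intro x hx
  rw [pow_apply_of_stab h hs.maps hNU h1 hx (h2 x hx), ← hj]
  have := pow_card_eq_one' (x := (⟨_, h2 x hx⟩ : N))
  rw [show (x⁻¹ * a x) ^ Nat.card N = 1 from congrArg Subtype.val this, mul_one]

theorem Mor.conj_back {m : Perm Ω} {R' : Subgroup Ω} [Finite R] (hm : Mor F R m) (hb : Mor F R' b)
    (h₁ : ∀ x ∈ R, m x ∈ R') (h₂ : ∀ x ∈ R, ∃ y ∈ R, b (m x) = m y) : Iso F (m⁻¹ * b * m) R R := by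
  have h₃ := hm.iso.symm.mor.mul (hb.mul hm h₁) fun x hx => by
    obtain ⟨y, hy, e⟩ := h₂ x hx
    rw [Perm.mul_apply, e]; exact mem_img_of_mem _ hy
  rw [← mul_assoc] at h₃
  exact ⟨h₃, h₃.homOn.maps_self fun x hx => by obtain ⟨y, hy, e⟩ := h₂ x hx; simpa [e] using hy⟩

theorem CU.conj_back {m : Perm Ω} {R' : Subgroup Ω} (hT : F.StronglyClosed T) (hm : Mor F R m) (hb : CU T R' b)
    (h₁ : ∀ x ∈ R, m x ∈ R') (h₂ : ∀ x ∈ R, ∃ y ∈ R, b (m x) = m y) : CU T R (m⁻¹ * b * m) := fun x hx => by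
  obtain ⟨y, hy, e⟩ := h₂ x hx
  have := hb _ (h₁ x hx)
  rw [e, ← hm.homOn.map_inv_mul hx hy, sc_iso_mem hT hm.iso (R.mul_mem (R.inv_mem hx) hy)] at this
  simpa [e] using this

variable [Finite S]

theorem Iso.exists_pprime [Fact p.Prime] (hg : Iso F g U U) (hP : P ≤ U) (ha : (orderOf a).Coprime p) (hm : Maps a P P)
    (e : ∀ x ∈ P, g x = a x) {H : Subgroup (Perm Ω)} (hH : res U g ∈ H) :
    ∃ b ∈ AutF F U, b ∈ H ∧ (orderOf b).Coprime p ∧ ∀ x ∈ P, b x = a x := by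
  haveI := finite_AutF' F hg.le
  obtain ⟨n, h1, h2⟩ := exists_pow_pprime_ext (orderOf_ne_zero_of_mem hg.res_mem) ha hm
    fun x hx => (res_apply hg.maps (hP hx)).trans (e x hx)
  exact ⟨_, pow_mem hg.res_mem n, pow_mem hH n, h1, h2⟩

theorem Iso.res_mem_Tr (hg : Iso F g U U) (h : CU T U g) : res U g ∈ Tr T U :=
  haveI := finite_of_le hg.le
  (h.congr fun _ hx => res_apply hg.maps hx).mem_Tr (homOn_of_AutF hg.res_mem) (maps_res _ _)

theorem centric_sup_CS (hN : F.IsFullyCentralized N) : F.IsCentric (N ⊔ centralizerIn S N) :=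
  centric_iff.2 ⟨sup_CS_le hN.1, fun f Y hf x hx => by
    have h := hf.restrict le_sup_left
    obtain ⟨c, hc, rfl⟩ := (fc_maps_CS hN (by rw [sup_comm]; exact hf.mor) h.maps).exists_eq
      (CS_anti S (img_le_iff.2 fun y hy => hf.mem (mem_sup_left hy)) hx)
    exact hf.mem (mem_sup_right hc)⟩

variable [Fact p.Prime]

theorem Sat.fc_of_fn_le (hF : Sat F p) (hQ : F.IsFullyNormalized Q) (hQN : Q ≤ N) (hN : N ≤ S)
    (hn : normalizerIn S Q ≤ Subgroup.normalizer (N : Set Ω)) : F.IsFullyCentralized N := by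
  obtain ⟨g, N', hN', hg, hm⟩ := hF.exists_NS_mor hN
  have hle : normalizerIn S Q ≤ normalizerIn S N := le_inf (NS_le S Q) hn
  have hq := (hg.mono (hQN.trans (le_NS hN))).maps_img
  have h₁ := fn_maps_NS hQ (hg.mono hle) hq
  have hi : Iso F g N N' := ⟨hg.mono (le_NS hN), hm⟩
  refine fc_iff.2 ⟨hN, fun f M hf => ((fc_iff.1 (hF.fc_of_fn hN')).2 _ _ (hi.symm.trans hf)).trans ?_⟩
  have h₂ : centralizerIn S N' ≤ img g (normalizerIn S N) := fun y hy => by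
    obtain ⟨x, hx, rfl⟩ := h₁.exists_eq (CS_le_NS _ _ (CS_anti S (img_le_iff.2 fun z hz => hm.mem (hQN hz)) hy))
    exact mem_img_of_mem _ (hle hx)
  have h₃ : N' ≤ img g (normalizerIn S N) := fun z hz => by
    obtain ⟨x, hx, rfl⟩ := hm.exists_eq hz; exact mem_img_of_mem _ (le_NS hN hx)
  exact (hg.iso.symm.homOn.mono h₂).card_le fun y hy => hg.iso.symm.mor.mem_CS h₃ hm.symm (h₂ hy) hy.2

/-- A `p`-automorphism of `N C_S(N)` fixing a fully centralized `N` is conjugation by an element of `C_S(N)`. -/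
theorem Sat.fix_eq_conj (hF : Sat F p) (hN : F.IsFullyCentralized N) (ha : a ∈ AutF F (N ⊔ centralizerIn S N))
    (hp : ∃ k, a ^ p ^ k = 1) (h : ∀ x ∈ N, a x = x) :
    ∃ s ∈ centralizerIn S N, ∀ x ∈ N ⊔ centralizerIn S N, a x = s * x * s⁻¹ := by
  set Y := N ⊔ centralizerIn S N
  have hY : Y ≤ S := sup_CS_le hN.1
  have key : ∀ {M V : Subgroup Ω}, M ≤ V → ∀ s ∈ NK S V (FixP M), s ∈ centralizerIn S M := fun hMV s hs =>
    ⟨hs.1.1, mem_centralizer_iff_cp.2 fun y hy => (cr_apply hs.1.2 (hMV hy)).symm.trans (hs.2 y hy)⟩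
  have hle : centralizerIn S N ≤ NK S Y (FixP N) := fun s hs =>
    have := le_normalizer (mem_sup_right hs : s ∈ Y)
    ⟨⟨hs.1, this⟩, fun y hy => (cr_apply this (mem_sup_left hy)).trans (mem_centralizer_iff_cp.1 hs.2 y hy)⟩
  have hk : FKN F Y (FixP N) := ⟨hY, fun f V hf => by
    have h₁ := hf.restrict (le_sup_left : N ≤ Y)
    have h₂ : cj f (FixP N) ≤ FixP (img f N) := cj_le_iff_forall.2 fun b hb => by
      intro y hy
      obtain ⟨z, hz, rfl⟩ := h₁.maps.exists_eq hy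
      simp [hb z hz]
    exact le_trans (card_le_card (K := centralizerIn S (img f N)) fun s hs => key (img_le_iff.2 fun y hy => hf.mem (mem_sup_left hy)) s
      (NK_mono S V h₂ hs)) (((fc_iff.1 hN).2 _ _ h₁).trans (card_le_card hle))⟩
  obtain ⟨k, hk'⟩ := hp
  have h₂ := (hF.fkn hk).2.le_of_normal (le_normalizer_of_cj_le fun b hb => cj_le_iff_forall.2 fun c hc => ?_)
    (zpowers_le.2 ⟨ha, h⟩) (isPGroup_zpowers_of_pow hk') (mem_zpowers a)
  · rw [← AutK_NK] at h₂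
    obtain ⟨s, hs, hn, rfl⟩ := mem_AutK.1 h₂
    exact ⟨s, key le_sup_left s hs, fun x hx => cr_apply hn hx⟩
  · refine ⟨?_, (FixP N).mul_mem ((FixP N).mul_mem hb.2 hc.2) ((FixP N).inv_mem hb.2)⟩
    rw [← AutK_NK] at hc
    obtain ⟨s, hs, hn, rfl⟩ := mem_AutK.1 hc
    have hi := iso_of_AutF hY hb.1
    have hs' : s ∈ Y := mem_sup_right (key le_sup_left s hs)
    rw [hi.homOn.conj_cr le_rfl hi.maps hs' hn]
    exact cr_mem_AutK (hY (hi.mem hs')) (le_normalizer (hi.mem hs'))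

/-- Extension of a `p'`-automorphism that is trivial modulo `T`. -/
theorem Sat.ext_tr (hF : Sat F p) (hT : F.StronglyClosed T) (hQ : F.IsFullyCentralized Q) (hQT : Q ≤ T)
    (hC : centralizerIn T Q ≤ Q) (hb : b ∈ AutF F (Q ⊔ centralizerIn S Q)) (hp : (orderOf b).Coprime p)
    (ht : CU T (Q ⊔ centralizerIn S Q) b) (hYU : Q ⊔ centralizerIn S Q ≤ U) (hU : U ≤ normalizerIn S Q)
    (h : ∀ x ∈ U, ∃ t ∈ U ⊓ T, ∀ y ∈ Q, b (x * y * x⁻¹) = t * x * b y * (t * x)⁻¹) :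
    ∃ g ∈ AutF F U, (orderOf g).Coprime p ∧ (∀ x ∈ Q ⊔ centralizerIn S Q, g x = b x) ∧ CU T U g := by
  have hYT := sup_CS_inf (S := S) hQT hC
  set Y := Q ⊔ centralizerIn S Q
  have hY : Y ≤ S := sup_CS_le hQ.1
  have hUS := hU.trans (NS_le S Q)
  haveI := finite_of_le hY
  haveI := finite_of_le hUS
  haveI := finite_of_le hQ.1
  have hi := iso_of_AutF hY hb
  have hm : Maps b Q Q := by have := sc_maps_inf hT hi; rwa [hYT] at this
  have hn : U ≤ normalizerIn S Y := le_inf hUS (hU.trans (NS_le_normalizer_sup_CS S Q))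
  have hbT := ht.mem_Tr hi.homOn hi.maps
  have key : ∀ x ∈ U, ∃ t ∈ U ⊓ T, ∃ s ∈ Y, ∀ y ∈ Y, b (x * y * x⁻¹) = t * x * s * b y * (t * x * s)⁻¹ := by
    intro x hx
    obtain ⟨t, ht', e⟩ := h x hx
    have h₁ := cr_mem_AutF F hY (hn hx)
    have h₂ := cr_mem_AutF F hY (hn ht'.1)
    have h₃ : (cr Y x)⁻¹ * ((cr Y t)⁻¹ * b) * cr Y x * b⁻¹ ∈ AutF F Y :=
      mul_mem (mul_mem (mul_mem (inv_mem h₁) (mul_mem (inv_mem h₂) hb)) h₁) (inv_mem hb)
    have h₄ : (cr Y x)⁻¹ * ((cr Y t)⁻¹ * b) * cr Y x * b⁻¹ ∈ Tr T Y :=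
      mul_mem (conj_inv_mem_of_mem_normalizer (AutF_le_normalizer_Tr hT hY h₁)
        (mul_mem (inv_mem (cr_mem_Tr ht'.2 (hn ht'.1).2 (hY.trans (sc_le_normalizer hT)))) hbT)) (inv_mem hbT)
    have h₅ : ∀ y ∈ Y, ∀ z ∈ Y, ((cr Y x)⁻¹ * ((cr Y t)⁻¹ * b) * cr Y x * b⁻¹) (b y) = z ↔
        b (x * y * x⁻¹) = t * x * z * (t * x)⁻¹ := fun y hy z hz => by
      simp only [Perm.mul_apply, perm_inv_apply, Perm.inv_eq_iff_eq]
      rw [cr_apply (hn hx).2 hy, cr_apply (hn hx).2 hz, cr_apply (hn ht'.1).2 (conj_mem_of_mem_normalizer (hn hx).2 hz)]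
      simp [mul_assoc]
    have h₆ : ∀ y ∈ Q, ((cr Y x)⁻¹ * ((cr Y t)⁻¹ * b) * cr Y x * b⁻¹) y = y := fun y hy => by
      obtain ⟨z, hz, rfl⟩ := hm.exists_eq hy
      exact (h₅ z (mem_sup_left hz) _ (mem_sup_left hy)).2 (e z hz)
    obtain ⟨s, hs, e'⟩ := hF.fix_eq_conj hQ h₃ (pow_eq_one_of_stab (hF.pg.to_le hQ.1) (supp_of_AutF h₃)
      (homOn_of_AutF h₃) le_sup_left h₆ fun y hy => hYT.le (h₄.2.2.2 y hy)) h₆
    refine ⟨t, ht', s, mem_sup_right hs, fun y hy => ?_⟩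
    rw [(h₅ y hy _ (conj_mem_of_mem_normalizer (le_normalizer (mem_sup_right hs : s ∈ Y)) (hi.mem hy))).1 (e' _ (hi.mem hy))]
    group
  obtain ⟨g, hg, e⟩ := rec_ext (hF.rec_of_centric (centric_sup_CS hQ)) hi (R := U) fun x hx => by
    obtain ⟨t, ht', s, hs, e⟩ := key x hx
    exact mem_Ext.2 ⟨hn hx, _, S.mul_mem (S.mul_mem (hUS ht'.1) (hUS hx)) (hY hs), e⟩
  rw [sup_eq_left.2 hYU] at hg
  have hle : (U ⊓ T) ⊔ Y ≤ U := sup_le inf_le_left hYU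
  haveI := finite_of_le hle
  have h₁ : ∀ x ∈ U, x⁻¹ * g x ∈ (U ⊓ T) ⊔ Y := fun x hx => by
    obtain ⟨t, ht', s, hs, e'⟩ := key x hx
    have h₂ : (t * x * s)⁻¹ * g x ∈ Y := centric_CS_le (centric_sup_CS hQ)
      ⟨S.mul_mem (S.inv_mem (S.mul_mem (S.mul_mem (hUS ht'.1) (hUS hx)) (hY hs))) (hg.mem_S hx),
        inv_mul_mem_centralizer fun z hz => by
          obtain ⟨y, hy, rfl⟩ := hi.maps.exists_eq hz
          rw [← e' y hy, ← e y hy, ← e _ (conj_mem_of_mem_normalizer (hn hx).2 hy), hg.homOn.map_conj hx (hYU hy)]⟩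
    have h₃ : x⁻¹ * t * x ∈ U ⊓ T := ⟨U.mul_mem (U.mul_mem (U.inv_mem hx) ht'.1) hx,
      conj_inv_mem_of_mem_normalizer (sc_le_normalizer hT (hUS hx)) ht'.2⟩
    convert mul_mem_sup h₃ (Y.mul_mem hs h₂) using 1; group
  have hgi : Iso F g U U := ⟨hg, hg.homOn.maps_self fun x hx => by simpa using U.mul_mem hx (hle (h₁ x hx))⟩
  obtain ⟨c, hc, hc₁, hc₂, hc₃⟩ := hgi.exists_pprime hYU hp hi.maps e (H := Cen _ U hle)
    (mem_Cen_of hle (homOn_of_AutF hgi.res_mem) (maps_res _ _) fun x hx => by rw [res_apply hgi.maps hx]; exact h₁ x hx)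
  have hci := iso_of_AutF hUS hc
  have h₂ : CU T ((U ⊓ T) ⊔ Y) c := CU.sup (hci.homOn.mono hle) (hle.trans (hUS.trans (sc_le_normalizer hT)))
    (cu_of_sc hT hci.mor inf_le_left inf_le_right) (ht.congr hc₃)
  exact ⟨c, hc, hc₂, hc₃, fun x hx => (quot_mem_of_coprime (U := U ⊓ T) hc₂ (hF.pg.to_le (hle.trans hUS)) hci.homOn hle
    inf_le_left (fun u hu => (sc_maps_inf hT hci).mem hu)
    (fun y hy => ⟨U.mul_mem (U.inv_mem (hle hy)) (hci.mem (hle hy)), h₂ y hy⟩) hx (hc₁.2.2.2 x hx)).2⟩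

end Cfsg.Agent.Fus
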