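import Cfsg.Agent.Fus.Xt

/-! The centralizer in `S` of a normal subsystem. -/

set_option autoImplicit false

namespace Cfsg.Agent.Fus

open Subgroup Cfsg Cfsg.Agent.Loc Equiv
open Cfsg.FusionSystem (normalizerIn centralizerIn)
open scoped commutatorElement

variable {Ω : Type*} [Group Ω] {S T U P Q R N V : Subgroup Ω} {p : ℕ} {F : FusionSystem S} {E : FusionSystem T}
  {a b f g : Perm Ω}

theorem mem_of_pelt {G : Type*} [Group G] [Fact p.Prime] {X A M : Subgroup G} [Finite A] (h : SylIn p X A) (hX : X ≤ M)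
    (hM : A ≤ normalizer (M : Set G)) {a : G} (ha : a ∈ A) (hp : ∃ k, a ^ p ^ k = 1) : a ∈ M :=
  h.pElementClosure_le hX hM (OppA_eq_pElementClosure (p := p) A ▸ mem_OppA ha hp)

theorem CU.mul (hb : CU T V b) (ha : CU T U a) (hm : ∀ x ∈ U, a x ∈ V) : CU T U (b * a) := fun x hx => by
  simpa [mul_assoc] using T.mul_mem (ha x hx) (hb _ (hm x hx))

theorem CU.inv (ha : CU T U a) (hm : Maps a U V) : CU T V a⁻¹ := fun y hy => by
  obtain ⟨x, hx, rfl⟩ := hm.exists_eq hy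
  simpa using T.inv_mem (ha x hx)

theorem coprime_res (hm : Maps a P P) (h : (orderOf a).Coprime p) : (orderOf (res P a)).Coprime p :=
  h.coprime_dvd_left ((homOn_res P).orderOf_dvd hm)

theorem pelt_res (hm : Maps a P P) (h : ∃ k, a ^ p ^ k = 1) : ∃ k, res P a ^ p ^ k = 1 := by
  obtain ⟨k, hk⟩ := h
  exact ⟨k, by rw [← res_pow hm, hk, res_one]⟩

theorem coprime_conj (h : (orderOf a).Coprime p) (f : Perm Ω) : (orderOf (f * a * f⁻¹)).Coprime p := by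
  rwa [orderOf_conj']

theorem zpowers_maps (hm : Maps g P P) (ha : a ∈ zpowers g) : Maps a P P := (zpowers_le (H := Stab P)).2 hm ha

/-- Permutations of `Q` extending to automorphisms of `V` that are trivial modulo `T`. -/
def GX (F : FusionSystem S) (T Q V : Subgroup Ω) (hV : V ≤ S) : Subgroup (Perm Ω) where
  carrier := {a | Maps a Q Q ∧ ∃ b, Iso F b V V ∧ (∀ x ∈ Q, b x = a x) ∧ CU T V b}
  one_mem' := ⟨maps_one Q, 1, iso_one F hV, fun _ _ => rfl, fun _ _ => by simp⟩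
  mul_mem' := by
    rintro a a' ⟨h1, b, h2, h3, h4⟩ ⟨k1, b', k2, k3, k4⟩
    exact ⟨k1.trans h1, b * b', k2.trans h2, fun x hx => by rw [Perm.mul_apply, k3 x hx, h3 _ (k1.mem hx), Perm.mul_apply],
      h4.mul k4 fun _ hx => k2.mem hx⟩
  inv_mem' := by
    rintro a ⟨h1, b, h2, h3, h4⟩
    exact ⟨h1.symm, b⁻¹, h2.symm, h1.inv_eq_of_eq h3, h4.inv h2.maps⟩

theorem GX.congr {hV : V ≤ S} (h : a ∈ GX F T Q V hV) (e : ∀ x ∈ Q, b x = a x) : b ∈ GX F T Q V hV := by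
  obtain ⟨h1, c, h2, h3, h4⟩ := h
  exact ⟨h1.congr e, c, h2, fun x hx => (h3 x hx).trans (e x hx).symm, h4⟩

theorem CU.conj (hT : F.StronglyClosed T) (ha : CU T P a) (hm : ∀ x ∈ P, a x ∈ P) (hf : Iso F f P Q) :
    CU T Q (f * a * f⁻¹) := fun c hc => by
  obtain ⟨d, hd, rfl⟩ := hf.maps.exists_eq hc
  simp only [Perm.mul_apply, perm_inv_apply]
  rw [← hf.homOn.map_inv_mul hd (hm d hd)]
  exact sc_mem hT hf.mor (P.mul_mem (P.inv_mem hd) (hm d hd)) (ha d hd)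

theorem NS_le_normalizer_NS (hT : S ≤ normalizer (T : Set Ω)) (Q : Subgroup Ω) :
    normalizerIn S Q ≤ normalizer (normalizerIn T Q : Set Ω) := fun _ hg =>
  mem_normalizer_inf (hT hg.1) (le_normalizer (H := normalizer (Q : Set Ω)) hg.2)

variable [Finite S]

theorem Mor.mem_sup_CS {m : Perm Ω} {Q' : Subgroup Ω} (hm : Mor F (normalizerIn S Q) m) (hQ : Q ≤ S) (hq : Maps m Q Q') :
    ∀ x ∈ Q ⊔ centralizerIn S Q, m x ∈ Q' ⊔ centralizerIn S Q' :=
  (hm.homOn.mono (sup_CS_le_NS hQ)).mem_of_sup (fun _ hx => mem_sup_left (hq.mem hx))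
    fun _ hx => mem_sup_right (hm.mem_CS (le_NS hQ) hq (CS_le_NS S Q hx) hx.2)

variable [Fact p.Prime]

omit [Fact p.Prime] in
theorem WN.finite (h : WN E F p) : Finite T := finite_of_le h.le

/-- Automorphisms in a normal subsystem of a centric subgroup extend over its centralizer. -/
theorem NI.gx (h : NI E F p) : ∀ Q (hQ : E.IsCentric Q), ∀ a ∈ AutF E Q,
    a ∈ GX F T Q (Q ⊔ centralizerIn S Q) (sup_CS_le (hQ.1.trans h.le)) := by
  haveI := h.finite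
  have hF := h.satF
  have hT := h.sc
  suffices H : ∀ Q, Q ≤ T → ∀ hQ : E.IsCentric Q, ∀ a ∈ AutF E Q,
      a ∈ GX F T Q (Q ⊔ centralizerIn S Q) (sup_CS_le (hQ.1.trans h.le)) from fun Q hQ => H Q hQ.1 hQ
  refine down_induction fun Q hQT ih => ?_
  have main : ∀ Q' : Subgroup Ω, Nat.card Q' = Nat.card Q → F.IsFullyNormalized Q' → ∀ hQ : E.IsCentric Q', ∀ a ∈ AutF E Q',
      a ∈ GX F T Q' (Q' ⊔ centralizerIn S Q') (sup_CS_le (hQ.1.trans h.le)) := by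
    intro Q hc hn hQ a ha
    have hQS := hn.1
    haveI := finite_of_le hQS
    rcases hQ.1.eq_or_lt with rfl | hlt
    · obtain ⟨b, hb, e, hu⟩ := h.ext a ha
      have hm := (maps_of_AutF ha).congr e
      exact ⟨maps_of_AutF ha, b, hb.iso_sup_CS hm, e, CU.sup hb.homOn (hb.le.trans (sc_le_normalizer hT))
        (cu_of_sc hT hb le_sup_left le_rfl) hu⟩
    set G := GX F T Q (Q ⊔ centralizerIn S Q) (sup_CS_le (hQ.1.trans h.le))
    have hG : AutF F Q ≤ normalizer (G : Set (Perm Ω)) := le_normalizer_of_cj_le fun c hc => cj_le_iff_forall.2 fun d hd => by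
      obtain ⟨h1, b, h2, h3, h4⟩ := hd
      obtain ⟨g, hg, e⟩ := hF.ext_CS (hF.fc_of_fn hn) (iso_of_AutF hQS hc)
      rw [sup_comm] at hg
      have hc' := maps_of_AutF hc
      have hi := hg.iso_sup_CS (hc'.congr e)
      refine ⟨hc'.symm.trans (h1.trans hc'), g * b * g⁻¹, hi.symm.trans (h2.trans hi), fun x hx => ?_,
        h4.conj hT (fun _ hx => h2.mem hx) hi⟩
      simp only [Perm.mul_apply]
      rw [hc'.inv_eq_of_eq e x hx, h3 _ (hc'.inv_mem hx), e _ (h1.mem (hc'.inv_mem hx))]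
    have hE : AutF E Q ≤ normalizer (G : Set (Perm Ω)) := (AutF_mono h.sub Q).trans hG
    have hK : AutK T Q ≤ G := fun c hc => by
      obtain ⟨t, ht, htn, rfl⟩ := mem_AutK.1 hc
      have h1 : t ∈ normalizerIn S Q := ⟨h.le ht, htn⟩
      exact ⟨maps_res _ _, cp t, iso_cp_self F (sup_CS_le hQS) ⟨h1.1, NS_le_normalizer_sup_CS S Q h1⟩,
        fun x hx => (cr_apply htn hx).symm, cu_cp ht ((sup_CS_le hQS).trans (sc_le_normalizer hT))⟩
    have hnE := hF.fn_sub hT h.sub hQ.1 hn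
    obtain ⟨n, hn', g, hg, hgm, e⟩ := h.satE.frattini hnE (N := AutF E Q ⊓ G) inf_le_left
      (fun c hc => mem_normalizer_inf (le_normalizer hc) (hE hc)) (le_inf (AutK_le_AutF E le_rfl hQ.1) hK) ha
    set N := normalizerIn T Q
    have hQN : Q ≤ N := le_NS hQ.1
    have hNT : N ≤ T := NS_le T Q
    haveI := finite_AutF' E hNT
    haveI := finite_AutF' E hQ.1
    obtain ⟨u, v, hu, hv, hu', hv', e'⟩ := exists_pparts (p := p) hg.res_mem
    have hr := hg.maps.res hgm hQN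
    have huA := (zpowers_le.2 hg.res_mem) hu
    have hvA := (zpowers_le.2 hg.res_mem) hv
    have hum := zpowers_maps hr hu
    have hvm := zpowers_maps hr hv
    have h1 : res Q u ∈ G := mem_of_pelt (h.satE.syl hnE) hK hE
      (Iso.res_mem ⟨(iso_of_AutF hNT huA).mor.mono hQN, hum⟩) (pelt_res hum hu')
    have h2 : v ∈ G := by
      have hN := centric_mono hQ hQN hNT
      have hNS := hNT.trans h.le
      obtain ⟨-, b, k1, k2, k3⟩ := ih N hNT (hc ▸ card_lt_card (lt_NS h.satE.pg hlt)) hN v hvA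
      obtain ⟨c, hc, hc₁, hc₂, hc₃⟩ := k1.exists_pprime le_sup_left hv' (maps_of_AutF hvA) k2 (k1.res_mem_Tr k3)
      have hnn := NS_le_normalizer_NS (sc_le_normalizer hT) Q
      have hU : N ⊔ centralizerIn S Q ≤ normalizerIn S N :=
        sup_le (le_NS hNS) (le_inf (Fus.CS_le S Q) ((CS_le_NS S Q).trans hnn))
      obtain ⟨d, hd, -, hd₂, hd₃⟩ := hF.ext_tr hT (hF.fc_of_fn_le hn hQN hNS hnn) hNT (centric_CS_le hN) hc hc₂ (Tr.cu hc₁)
        (U := N ⊔ centralizerIn S Q) (sup_le_sup_left (CS_anti S hQN) N) hU fun x hx => by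
          obtain ⟨y, hy, z, hz, rfl⟩ := (mem_sup_of_le_normalizer_left ((CS_le_NS S Q).trans hnn)).1 hx
          have hzn := hU (mem_sup_right hz)
          have k4 := cr_mem_AutF F hNS hzn
          have k5 : v * (cr N z * v⁻¹ * (cr N z)⁻¹) ∈ AutF E N :=
            mul_mem hvA (conj_mem_of_mem_normalizer (h.inv.AutF_normal hNT k4) (inv_mem hvA))
          have k6 : ∀ w ∈ Q, cr N z w = w := fun w hw => (cr_apply hzn.2 (hQN hw)).trans (mem_centralizer_iff_cp.1 hz.2 w hw)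
          obtain ⟨s, hs, k7⟩ := h.satE.aut_fix_centric hQ hQN (NS_le_normalizer T Q) (iso_of_AutF hNT k5) fun w hw => by
            have : (cr N z)⁻¹ w = w := by rw [Perm.inv_eq_iff_eq, k6 w hw]
            simp only [Perm.mul_apply]
            rw [this, k6 _ (hvm.inv_mem hw), perm_apply_inv]
          have hs' := hQN (centric_CS_le hQ hs)
          have hvN := iso_of_AutF hNT hvA
          have k8 : v y * s * y⁻¹ ∈ N := N.mul_mem (N.mul_mem (hvN.mem hy) hs') (N.inv_mem hy)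
          refine ⟨v y * s * y⁻¹, ⟨mem_sup_left k8, hNT k8⟩, fun w hw => ?_⟩
          have hw' := conj_mem_of_mem_normalizer hzn.2 hw
          have k9 := k7 _ (conj_mem_of_mem_normalizer hzn.2 (hvN.mem hw))
          simp only [Perm.mul_apply] at k9
          rw [← cr_apply hzn.2 (hvN.mem hw), perm_inv_apply, perm_inv_apply, cr_apply hzn.2 hw,
            cr_apply hzn.2 (hvN.mem hw)] at k9
          rw [show y * z * w * (y * z)⁻¹ = y * (z * w * z⁻¹) * y⁻¹ by group,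
            hc₃ _ (conj_mem_of_mem_normalizer (le_normalizer hy) hw'), hvN.homOn.map_conj hy hw', k9, hc₃ w hw]
          group
      have hdi := iso_of_AutF (hU.trans (NS_le S N)) hd
      have hle : Q ⊔ centralizerIn S Q ≤ N ⊔ centralizerIn S Q := sup_le_sup_right hQN _
      have e₁ : ∀ x ∈ Q, d x = v x := fun x hx => (hd₂ x (mem_sup_left (hQN hx))).trans (hc₃ x (hQN hx))
      exact ⟨hvm, d, (hdi.mor.mono hle).iso_sup_CS (hvm.congr e₁), e₁, hd₃.mono hle⟩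
    refine GX.congr (G.mul_mem hn'.2 (G.mul_mem h1 h2)) fun x hx => ?_
    rw [e x hx, ← res_apply hg.maps (hQN hx), e', Perm.mul_apply, Perm.mul_apply, Perm.mul_apply, res_apply hum (hvm.mem hx)]
  intro hQ a ha
  have hQS := hQT.trans h.le
  obtain ⟨m, Q', hQ', hm, hq⟩ := hF.exists_NS_mor hQS
  have hi : Iso F m Q Q' := ⟨hm.mono (le_NS hQS), hq⟩
  have hc := h.inv.centric_iso hQ hi
  obtain ⟨-, b, k1, k2, k3⟩ := main Q' hq.card_eq.symm hQ' hc _ (h.inv.conj_AutF hi hQT ha)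
  have hW := hm.mono (sup_CS_le_NS hQS)
  haveI := finite_of_le hW.le
  have h₁ := hm.mem_sup_CS hQS hq
  have h₂ : ∀ x ∈ Q ⊔ centralizerIn S Q, ∃ y ∈ Q ⊔ centralizerIn S Q, b (m x) = m y := fun x hx => by
    obtain ⟨q, hq', e⟩ := hq.exists_eq ((sup_CS_inf hc.1 (centric_CS_le hc)).le
      (mem_inf.2 ⟨mul_mem (inv_mem (h₁ x hx)) (k1.mem (h₁ x hx)), k3 _ (h₁ x hx)⟩))
    exact ⟨x * q, mul_mem hx (mem_sup_left hq'), by rw [hW.homOn x hx q (mem_sup_left hq'), e]; simp⟩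
  exact ⟨maps_of_AutF ha, _, hW.conj_back k1.mor h₁ h₂, fun x hx => by simp [k2 _ (hq.mem hx)],
    CU.conj_back hT hW k3 h₁ h₂⟩

/-- Extension of a `p'`-automorphism of a centric subgroup of a normal subsystem, trivial modulo `T`. -/
theorem NI.ext_pprime (h : NI E F p) (hQ : E.IsCentric Q) (ha : a ∈ AutF E Q) (hp : (orderOf a).Coprime p) (hQR : Q ≤ R)
    (hR : R ≤ normalizerIn S Q) (h' : ∀ x ∈ R, ∃ t ∈ R ⊓ T, ∀ y ∈ Q, a (x * y * x⁻¹) = t * x * a y * (t * x)⁻¹) :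
    ∃ g ∈ AutF F R, (orderOf g).Coprime p ∧ (∀ x ∈ Q, g x = a x) ∧ CU T R g := by
  haveI := h.finite
  have hF := h.satF
  have hT := h.sc
  have hQS := hQ.1.trans h.le
  have hRS := hR.trans (NS_le S Q)
  haveI := finite_of_le hRS
  have ham := maps_of_AutF ha
  obtain ⟨m, Q', hQ', hm, hq⟩ := hF.exists_NS_mor hQS
  have hi : Iso F m Q Q' := ⟨hm.mono (le_NS hQS), hq⟩
  have hc := h.inv.centric_iso hQ hi
  have ha' := h.inv.conj_AutF hi hQ.1 ha
  obtain ⟨-, b, k1, k2, k3⟩ := h.gx Q' hc _ ha'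
  obtain ⟨c, hc₀, hc₁, hc₂, hc₃⟩ := k1.exists_pprime le_sup_left (coprime_conj hp m) (maps_of_AutF ha') k2 (k1.res_mem_Tr k3)
  have hmR := hm.mono hR
  have hR' : img m R ≤ normalizerIn S Q' := img_le_iff.2 fun x hx => hm.mem_NS (le_NS hQS) hq (hR hx) (hR hx).2
  have hQR' : Q' ≤ img m R := fun y hy => by
    obtain ⟨x, hx, rfl⟩ := hq.exists_eq hy; exact mem_img_of_mem _ (hQR hx)
  have key : ∀ x ∈ R, ∃ t ∈ R ⊓ T, ∀ y ∈ Q', c (m x * y * (m x)⁻¹) = m t * m x * c y * (m t * m x)⁻¹ := fun x hx => by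
    obtain ⟨t, ht, e⟩ := h' x hx
    refine ⟨t, ht, fun y hy => ?_⟩
    obtain ⟨z, hz, rfl⟩ := hq.exists_eq hy
    have h1 := conj_mem_of_mem_normalizer (hR hx).2 hz
    rw [← hmR.homOn.map_conj hx (hQR hz), hc₃ _ (hq.mem h1), hc₃ _ hy, ← hmR.homOn t ht.1 x hx]
    simp only [Perm.mul_apply, perm_inv_apply]
    rw [e z hz, hmR.homOn.map_conj (R.mul_mem ht.1 hx) (hQR (ham.mem hz))]
  have hCn : img m R ≤ normalizer (centralizerIn S Q' : Set Ω) := hR'.trans (NS_le_normalizer_CS S Q')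
  obtain ⟨d, hd, hd₁, hd₂, hd₃⟩ := hF.ext_tr hT (hF.fc_of_fn hQ') hc.1 (centric_CS_le hc) hc₀ hc₂ (Tr.cu hc₁)
    (U := img m R ⊔ centralizerIn S Q') (sup_le_sup_right hQR' _) (sup_le hR' (CS_le_NS S Q')) fun x hx => by
      obtain ⟨y, hy, z, hz, rfl⟩ := (mem_sup_of_le_normalizer_right hCn).1 hx
      obtain ⟨x, hx', rfl⟩ := hmR.homOn.mem_img.1 hy
      obtain ⟨t, ht, e⟩ := key x hx'
      refine ⟨m t, ⟨mem_sup_left (mem_img_of_mem _ ht.1), sc_mem hT hmR ht.1 ht.2⟩, fun w hw => ?_⟩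
      have h1 := mem_centralizer_iff_cp.1 hz.2
      have h2 : c w ∈ Q' := hc₃ w hw ▸ (maps_of_AutF ha').mem hw
      rw [show m x * z * w * (m x * z)⁻¹ = m x * (z * w * z⁻¹) * (m x)⁻¹ by group, h1 w hw, e w hw]
      conv_lhs => rw [← h1 _ h2]
      group
  have hdi := iso_of_AutF (sup_le (hR'.trans (NS_le S Q')) (Fus.CS_le S Q')) hd
  have h₁ : ∀ x ∈ R, m x ∈ img m R ⊔ centralizerIn S Q' := fun x hx => mem_sup_left (mem_img_of_mem _ hx)
  have h₂ : ∀ x ∈ R, ∃ y ∈ R, d (m x) = m y := fun x hx => by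
    obtain ⟨t, ht, e⟩ := key x hx
    have h3 : m t ∈ T := sc_mem hT hmR ht.1 ht.2
    have h4 : (m t * m x)⁻¹ * d (m x) ∈ Q' := centric_CS_le hc ⟨by
        have := T.mul_mem (conj_inv_mem_of_mem_normalizer (sc_le_normalizer hT (hmR.mem_S hx)) (T.inv_mem h3)) (hd₃ _ (h₁ x hx))
        simpa [mul_assoc] using this,
      inv_mul_mem_centralizer fun y hy => by
        have hcm : Maps c Q' Q' := (maps_of_AutF ha').congr hc₃
        obtain ⟨z, hz, rfl⟩ := hcm.exists_eq hy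
        have h5 := conj_mem_of_mem_normalizer (hR' (mem_img_of_mem _ hx)).2 hz
        rw [← e z hz, ← hd₂ z (mem_sup_left hz), ← hd₂ _ (mem_sup_left h5),
          hdi.homOn.map_conj (h₁ x hx) (mem_sup_left (hQR' hz))]⟩
    obtain ⟨q, hq', e'⟩ := hq.exists_eq h4
    exact ⟨t * x * q, R.mul_mem (R.mul_mem ht.1 hx) (hQR hq'), by
      rw [hmR.homOn _ (R.mul_mem ht.1 hx) q (hQR hq'), hmR.homOn t ht.1 x hx, e']; group⟩
  have hg := hmR.conj_back hdi.mor h₁ h₂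
  obtain ⟨g, hg₀, hg₁, hg₂, hg₃⟩ := hg.exists_pprime hQR hp ham (fun x hx => by
    simp [hd₂ _ (mem_sup_left (hq.mem hx)), hc₃ _ (hq.mem hx)]) (hg.res_mem_Tr (CU.conj_back hT hmR hd₃ h₁ h₂))
  exact ⟨g, hg₀, hg₂, hg₃, Tr.cu hg₁⟩

theorem NI.ext_pprime_CS (h : NI E F p) (hQ : E.IsCentric Q) (ha : a ∈ AutF E Q) (hp : (orderOf a).Coprime p) (hQV : Q ≤ V)
    (hV : V ≤ Q ⊔ centralizerIn S Q) : ∃ g ∈ AutF F V, (orderOf g).Coprime p ∧ (∀ x ∈ Q, g x = a x) ∧ CU T V g :=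
  h.ext_pprime hQ ha hp hQV (hV.trans (sup_CS_le_NS (hQ.1.trans h.le))) fun x hx => by
    obtain ⟨q, hq, c, hc, rfl⟩ := mem_sup_CS.1 (hV hx)
    have hi := iso_of_AutF hQ.1 ha
    have h1 : a q * q⁻¹ ∈ Q := Q.mul_mem (hi.mem hq) (Q.inv_mem hq)
    have h2 := mem_centralizer_iff_cp.1 hc.2
    refine ⟨_, ⟨hQV h1, hQ.1 h1⟩, fun y hy => ?_⟩
    rw [show q * c * y * (q * c)⁻¹ = q * (c * y * c⁻¹) * q⁻¹ by group, h2 y hy, hi.homOn.map_conj hq hy]
    conv_lhs => rw [← h2 _ (hi.mem hy)]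
    group

omit [Finite S] [Fact p.Prime] in
theorem mem_inf_of_cu (hQ : E.IsCentric Q) (hQV : Q ≤ V) (hb : Iso F b V V) (hm : Maps b Q Q) (hu : CU T V b) {x : Ω}
    (hx : x ∈ V) (hc : x ∈ centralizerIn S Q) : x⁻¹ * b x ∈ centralizerIn Q Q :=
  have h1 : x⁻¹ * b x ∈ centralizer (Q : Set Ω) := mul_mem (inv_mem hc.2) (hb.mor.mem_CS hQV hm hx hc.2).2
  ⟨centric_CS_le hQ ⟨hu x hx, h1⟩, h1⟩

/-- A central element of `Q` that is a focal element of the centralizer of `Q` is fixed by `Aut_E(Q)`. -/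
theorem NI.fix_of_foc (h : NI E F p) (hQ : E.IsCentric Q) (hQV : Q ≤ V) (hf : Mor F V f) (h1 : ∀ y ∈ Q, f y = y) {x : Ω}
    (hx : x ∈ V) (hc : x ∈ centralizerIn S Q) (h2 : x⁻¹ * f x ∈ Q) (ha : a ∈ AutF E Q) : a (x⁻¹ * f x) = x⁻¹ * f x := by
  have hF := h.satF
  have hQS := hQ.1.trans h.le
  obtain ⟨m, Q', hQ', hm, hq⟩ := hF.exists_NS_mor hQS
  have hi : Iso F m Q Q' := ⟨hm.mono (le_NS hQS), hq⟩
  have hc' := h.inv.centric_iso hQ hi
  obtain ⟨k0, b, k1, k2, k3⟩ := h.gx Q' hc' _ (h.inv.conj_AutF hi hQ.1 ha)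
  obtain ⟨D, hD, -⟩ := exists_centralizerSystem F hQ'.1
  have hfm : Maps f Q Q := (maps_one Q).congr h1
  have hfx : f x ∈ centralizerIn S Q := hf.mem_CS hQV hfm hx hc.2
  have hW : zpowers x ⊔ Q ≤ V := sup_le (zpowers_le.2 hx) hQV
  have hWN : zpowers x ⊔ Q ≤ normalizerIn S Q := sup_le (zpowers_le.2 (CS_le_NS S Q hc)) (le_NS hQS)
  have hmW := (hm.mono hWN).iso
  have hmc : ∀ y ∈ centralizerIn S Q, m y ∈ centralizerIn S Q' := fun y hy => hm.mem_CS (le_NS hQS) hq (CS_le_NS S Q hy) hy.2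
  have h3 : Mor F (zpowers (m x) ⊔ Q') (⇑(m * f * m⁻¹)) := by
    refine ((hm.mul (hf.mono hW) ((hf.homOn.mono hW).mem_of_sup (fun y hy => ?_) fun y hy => le_NS hQS (hfm.mem hy))).mul
      hmW.symm.mor fun _ hy => hmW.symm.mem hy).mono (sup_le (zpowers_le.2 (mem_img_of_mem _ (mem_sup_left (mem_zpowers x))))
        fun y hy => ?_)
    · obtain ⟨n, rfl⟩ := mem_zpowers_iff.1 hy
      rw [hf.homOn.map_zpow hx]; exact zpow_mem (CS_le_NS S Q hfx) n
    · obtain ⟨z, hz, rfl⟩ := hq.exists_eq hy; exact mem_img_of_mem _ (mem_sup_right hz)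
  have h4 : Mor D (zpowers (m x)) (⇑(m * f * m⁻¹)) := hD.mor (zpowers_le.2 (hmc x hc)) (nMor_bot_iff.2 ⟨_, h3, fun _ _ => rfl,
    fun y hy => by obtain ⟨z, hz, rfl⟩ := hq.exists_eq hy; simp [h1 z hz]⟩)
  have h5 : (m x)⁻¹ * (m * f * m⁻¹) (m x) = m (x⁻¹ * f x) := by
    simp [hm.homOn.map_inv_mul (CS_le_NS S Q hc) (CS_le_NS S Q hfx)]
  have h6 : m (x⁻¹ * f x) ∈ centralizerIn S Q' := hmc _ (mul_mem (inv_mem hc) hfx)
  have h7 := (hF.centralizer (hF.fc_of_fn hQ') hD).foc_inf_center_le le_rfl (mem_inf.2 ⟨h5 ▸ mem_foc h4 (mem_zpowers _),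
    le_center (hD.central (zpowers_le.2 (hq.mem h2)) (zpowers_le.2 h6)) (mem_zpowers _)⟩)
  have hbm : Maps b Q' Q' := k0.congr k2
  have h8 : ⁅centralizerIn S Q', centralizerIn S Q'⁆ ≤ (k1.homOn.toHom.eqLocus (Subgroup.subtype _)).map (Subgroup.subtype _) :=
    commutator_le.2 fun u hu v hv => by
      refine ⟨⟨⁅u, v⁆, mem_sup_right ((centralizerIn S Q').mul_mem
        ((centralizerIn S Q').mul_mem ((centralizerIn S Q').mul_mem hu hv) (inv_mem hu)) (inv_mem hv))⟩, ?_, rfl⟩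
      change b ⁅u, v⁆ = ⁅u, v⁆
      have k4 := mem_inf_of_cu hc' le_sup_left k1 hbm k3 (mem_sup_right hu) hu
      have k5 := mem_inf_of_cu hc' le_sup_left k1 hbm k3 (mem_sup_right hv) hv
      rw [k1.homOn.map_commutatorElement (mem_sup_right hu) (mem_sup_right hv), ← mul_inv_cancel_left u (b u),
        ← mul_inv_cancel_left v (b v)]
      generalize u⁻¹ * b u = z at k4
      generalize v⁻¹ * b v = w at k5
      have c1 := hu.2 z k4.1
      have c2 := hv.2 z k4.1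
      have c3 := hu.2 w k5.1
      have c4 := hv.2 w k5.1
      have c5 := k4.2 w k5.1
      simp only [commutatorElement_def, mul_inv_rev]
      calc u * z * (v * w) * (z⁻¹ * u⁻¹) * (w⁻¹ * v⁻¹) = u * (z * v) * (w * z⁻¹) * u⁻¹ * w⁻¹ * v⁻¹ := by group
        _ = u * v * (z * w * z⁻¹) * u⁻¹ * w⁻¹ * v⁻¹ := by rw [c2]; group
        _ = u * v * (w * u⁻¹ * w⁻¹) * v⁻¹ := by rw [← c5]; group
        _ = _ := by rw [show w * u⁻¹ * w⁻¹ = u⁻¹ by rw [mul_inv_eq_iff_eq_mul, mul_inv_eq_iff_eq_mul, mul_assoc, c3]; group]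
  obtain ⟨y, hy, e⟩ := h8 h7
  have h9 : b (m (x⁻¹ * f x)) = m (x⁻¹ * f x) := e ▸ hy
  rw [k2 _ (hq.mem h2)] at h9
  simpa using h9

/-- A `p'`-automorphism of `V`, trivial modulo `T`, restricting to a morphism of `E` on `Q`. -/
structure Gd (E : FusionSystem T) (F : FusionSystem S) (p : ℕ) (Q V : Subgroup Ω) (b : Perm Ω) : Prop where
  cen : E.IsCentric Q
  le : Q ≤ V
  le' : V ≤ Q ⊔ centralizerIn S Q
  mem : b ∈ AutF F V
  pp : (orderOf b).Coprime p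
  mor : Mor E Q b
  cu : CU T V b

namespace Gd
omit [Finite S] [Fact p.Prime]

theorem mem_Q (h : Gd E F p Q V b) {x : Ω} (hx : x ∈ V) (hT : x ∈ T) : x ∈ Q :=
  (sup_CS_inf h.cen.1 (centric_CS_le h.cen)).le (mem_inf.2 ⟨h.le' hx, hT⟩)

theorem cuQ (h : Gd E F p Q V b) : CU Q V b := fun x hx =>
  h.mem_Q (mul_mem (inv_mem hx) ((maps_of_AutF h.mem).mem hx)) (h.cu x hx)

theorem maps [Finite S] (h : Gd E F p Q V b) (hV : V ≤ S) (h1 : Q ≤ U) (h2 : U ≤ V) : Maps b U U :=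
  haveI := finite_of_le (h2.trans hV)
  ((homOn_of_AutF h.mem).mono h2).maps_self fun x hx => by simpa using U.mul_mem hx (h1 (h.cuQ x (h2 hx)))

theorem res [Finite S] (h : Gd E F p Q V b) (hV : V ≤ S) (h1 : Q ≤ U) (h2 : U ≤ V) : Gd E F p Q U (res U b) :=
  have hm := h.maps hV h1 h2
  ⟨h.cen, h1, h2.trans h.le', Iso.res_mem ⟨(iso_of_AutF hV h.mem).mor.mono h2, hm⟩, coprime_res hm h.pp,
    h.mor.congr fun _ hx => res_apply hm (h1 hx), (h.cu.mono h2).congr fun _ hx => res_apply hm hx⟩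

theorem conj [Finite S] {Q' V' : Subgroup Ω} (h : Gd E F p Q V b) (hE : Inv E F) (hf : Iso F f V V') (hq : Maps f Q Q') :
    Gd E F p Q' V' (f * b * f⁻¹) := by
  have hm := h.maps hf.le le_rfl h.le
  refine ⟨hE.centric_iso h.cen ⟨hf.mor.mono h.le, hq⟩, (hq.le_iff hf.maps).2 h.le, fun y hy => ?_, hf.conj_mem h.mem,
    coprime_conj h.pp f, hE.sconj (hf.mor.mono h.le) h.cen.1 h.mor le_rfl (fun _ hx => hm.mem hx) hq,
    h.cu.conj hE.sc (fun _ hx => (maps_of_AutF h.mem).mem hx) hf⟩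
  obtain ⟨x, hx, rfl⟩ := hf.maps.exists_eq hy
  obtain ⟨q, hq', c, hc, rfl⟩ := mem_sup_CS.1 (h.le' hx)
  have hcV : c ∈ V := by simpa using V.mul_mem (V.inv_mem (h.le hq')) hx
  rw [hf.homOn q (h.le hq') c hcV]
  exact mul_mem_sup (hq.mem hq') (hf.mor.mem_CS h.le hq hcV hc.2)

end Gd

theorem NI.exists_good (h : NI E F p) (hQ : E.IsCentric Q) (ha : a ∈ AutF E Q) (hp : (orderOf a).Coprime p) (hQV : Q ≤ V)
    (hV : V ≤ Q ⊔ centralizerIn S Q) : ∃ b, Gd E F p Q V b ∧ ∀ x ∈ Q, b x = a x := by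
  obtain ⟨g, h1, h2, h3, h4⟩ := h.ext_pprime_CS hQ ha hp hQV hV
  exact ⟨g, ⟨hQ, hQV, hV, h1, h2, (iso_of_AutF hQ.1 ha).mor.congr h3, h4⟩, h3⟩

theorem NI.good_unique (h : NI E F p) {b' : Perm Ω} (hb : Gd E F p Q V b) (hb' : Gd E F p Q V b')
    (e : ∀ x ∈ Q, b' x = b x) : b' = b := by
  have hQS := hb.cen.1.trans h.le
  have hV := hb.le'.trans (sup_CS_le hQS)
  haveI := finite_of_le hQS
  haveI := finite_AutF' F hV
  have hd : b⁻¹ * b' ∈ AutF F V := mul_mem (inv_mem hb.mem) hb'.mem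
  have hi := iso_of_AutF hV hb.mem
  have hdi := iso_of_AutF hV hd
  have hm := hb.maps hV le_rfl hb.le
  have h1 : ∀ x ∈ Q, (b⁻¹ * b') x = x := fun x hx => by simp [e x hx]
  have h2 : CU Q V (b⁻¹ * b') := (hb.cuQ.inv hi.maps).mul hb'.cuQ fun _ hx => (maps_of_AutF hb'.mem).mem hx
  obtain ⟨k, hk⟩ := pow_eq_one_of_stab (h.satF.pg.to_le hQS) (supp_of_AutF hd) hdi.homOn hb.le h1 h2
  generalize hd' : b⁻¹ * b' = d at *
  have h3 : Commute b d := (supp_of_AutF (mul_mem hb.mem hd)).ext (supp_of_AutF (mul_mem hd hb.mem)) fun x hx => by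
    obtain ⟨q, hq, c, hc, rfl⟩ := mem_sup_CS.1 (hb.le' hx)
    have hcV : c ∈ V := by simpa using V.mul_mem (V.inv_mem (hb.le hq)) hx
    have k1 := h.fix_of_foc hb.cen hb.le hdi.mor h1 hcV hc (h2 c hcV) (Iso.res_mem ⟨hb.mor, hm⟩)
    rw [res_apply hm (h2 c hcV)] at k1
    have k2 := mem_inf_of_cu hb.cen hb.le hi hm hb.cu hcV hc
    have k3 := k2.2 _ (h2 c hcV)
    rw [Perm.mul_apply, Perm.mul_apply, hdi.homOn q (hb.le hq) c hcV, hi.homOn q (hb.le hq) c hcV,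
      hi.homOn _ (hdi.mem (hb.le hq)) _ (hdi.mem hcV), hdi.homOn _ (hi.mem (hb.le hq)) _ (hi.mem hcV), h1 q hq,
      h1 _ (hm.mem hq), ← mul_inv_cancel_left c (d c), hi.homOn c hcV _ (hb.le (h2 c hcV)), k1,
      ← mul_inv_cancel_left c (b c), hdi.homOn c hcV _ (hb.le k2.1), h1 _ k2.1, mul_assoc c, ← k3]
    group
  obtain rfl : b' = b * d := by rw [← hd']; group
  have h4 : d ^ (orderOf b * orderOf (b * d)) = 1 := by
    have := pow_orderOf_eq_one (b * d)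
    have h5 : (b * d) ^ (orderOf b * orderOf (b * d)) = 1 := by rw [mul_comm (orderOf b), pow_mul, this, one_pow]
    rwa [h3.mul_pow, pow_mul b, pow_orderOf_eq_one, one_pow, one_mul] at h5
  have h6 : orderOf d ∣ 1 := by
    rw [← (hb.pp.mul_left hb'.pp).pow_right k]
    exact Nat.dvd_gcd (orderOf_dvd_of_pow_eq_one h4) (orderOf_dvd_of_pow_eq_one hk)
  rw [orderOf_eq_one_iff.1 (Nat.dvd_one.1 h6), mul_one]

theorem NI.good_fix (h : NI E F p) (hb : Gd E F p Q (Q ⊔ centralizerIn S Q) b) (hQV : Q ≤ V) (hf : Mor F V f)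
    (h1 : ∀ y ∈ Q, f y = y) {x : Ω} (hx : x ∈ V) (hc : x ∈ centralizerIn S Q) : b (x⁻¹ * f x) = x⁻¹ * f x := by
  have hW := sup_CS_le (hb.cen.1.trans h.le)
  have hfm : Maps f Q Q := (maps_one Q).congr h1
  have hfx : f x ∈ centralizerIn S Q := hf.mem_CS hQV hfm hx hc.2
  have h2 : Q ⊔ zpowers x ≤ V := sup_le hQV (zpowers_le.2 hx)
  have hi := (hf.mono h2).iso
  have hx' : x ∈ Q ⊔ zpowers x := mem_sup_right (mem_zpowers x)
  have g1 := hb.res hW le_sup_left (sup_le_sup_left (zpowers_le.2 hc) Q)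
  have g2 := g1.conj h.inv hi hfm
  have g3 := hb.res hW g2.le g2.le'
  have m1 := hb.maps hW g1.le g1.le'
  have m0 := hb.maps hW le_rfl hb.le
  have m2 := hb.maps hW g2.le g2.le'
  have e := h.good_unique g3 g2 fun y hy => by
    have : f⁻¹ y = y := by rw [Perm.inv_eq_iff_eq, h1 y hy]
    rw [Perm.mul_apply, Perm.mul_apply, this, res_apply m1 (g1.le hy), res_apply m2 (g2.le hy), h1 _ (m0.mem hy)]
  have e' := congrArg (fun c : Perm Ω => c (f x)) e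
  simp only [Perm.mul_apply, perm_inv_apply] at e'
  rw [res_apply m1 hx', res_apply m2 (hi.mem hx')] at e'
  have hbi := iso_of_AutF hW hb.mem
  have k := mem_inf_of_cu hb.cen hb.le hbi m0 hb.cu (mem_sup_right hc) hc
  rw [hbi.homOn.map_inv_mul (mem_sup_right hc) (mem_sup_right hfx), ← e', ← mul_inv_cancel_left x (b x),
    hf.homOn x hx _ (hQV k.1), h1 _ k.1, mul_inv_rev, mul_assoc, ← mul_assoc x⁻¹, ← (mul_mem (inv_mem hc) hfx).2 _ k.1]
  group

omit [Finite S] [Fact p.Prime] in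
/-- The centralizer in `S` of the normal subsystem `E`. -/
def CSE (E : FusionSystem T) (F : FusionSystem S) (p : ℕ) : Subgroup Ω where
  carrier := {c | c ∈ centralizerIn S T ∧ ∀ Q b, Gd E F p Q (Q ⊔ centralizerIn S Q) b → b c = c}
  one_mem' := ⟨one_mem _, fun _ _ h => (homOn_of_AutF h.mem).map_one⟩
  mul_mem' := fun {x y} hx hy => ⟨mul_mem hx.1 hy.1, fun Q b h => by
    rw [homOn_of_AutF h.mem x (mem_sup_right (CS_anti S h.cen.1 hx.1)) y (mem_sup_right (CS_anti S h.cen.1 hy.1)),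
      hx.2 Q b h, hy.2 Q b h]⟩
  inv_mem' := fun {x} hx => ⟨inv_mem hx.1, fun Q b h => by
    rw [(homOn_of_AutF h.mem).map_inv (mem_sup_right (CS_anti S h.cen.1 hx.1)), hx.2 Q b h]⟩

omit [Finite S] [Fact p.Prime] in
theorem CSE_le (E : FusionSystem T) (F : FusionSystem S) (p : ℕ) : CSE E F p ≤ centralizerIn S T := fun _ h => h.1

omit [Finite S] [Fact p.Prime] in
/-- `X` centralizes the subsystem `E`. -/
structure Cz (F : FusionSystem S) (E : FusionSystem T) (X : Subgroup Ω) : Prop where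
  le : X ≤ centralizerIn S T
  mor : ∀ P (f : Perm Ω), Mor E P f → NMor F X ⊥ P f

omit [Fact p.Prime] in
theorem cz_iff (hT : T ≤ S) {X : Subgroup Ω} :
    (X ≤ centralizerIn S T ∧ ∀ P, E.Hom P ⊆ F.centralizerHom X P) ↔ Cz F E X := by
  haveI := finite_of_le hT
  refine ⟨fun h => ⟨h.1, fun P f hf => ((centralizerHom_iff fun _ => rfl).1 (h.2 P hf.toHom_mem)).2⟩,
    fun h => ⟨h.le, fun P φ hφ => ?_⟩⟩
  obtain ⟨a, ha, e⟩ := exists_perm_of_mem hφ
  exact (centralizerHom_iff e).2 ⟨le_inf (ha.le.trans hT) (le_centralizer_iff.1 fun x hx y hy => (h.le hx).2 y (ha.le hy)),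
    h.mor P a ha⟩

omit [Finite S] [Fact p.Prime] in
theorem Cz.mono {X Y : Subgroup Ω} (h : Cz F E X) (hY : Y ≤ X) : Cz F E Y :=
  ⟨hY.trans h.le, fun P f hf => (h.mor P f hf).of_fix hY fun a ha _ _ => by rw [mem_bot.1 ha]; rfl⟩

omit [Finite S] [Fact p.Prime] in
theorem Cz.sub {X : Subgroup Ω} {D : FusionSystem U} (h : Cz F E X) (hD : D.IsSubsystemOf E) : Cz F D X :=
  ⟨h.le.trans (CS_anti S (sub_le hD)), fun P f hf => h.mor P f (hf.sub hD)⟩

omit [Finite S] [Fact p.Prime] in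
theorem nMor_bot_cp {X : Subgroup Ω} (hP : P ≤ S) (hX : X ≤ S) {t : Ω} (ht : t ∈ S) (hc : t ∈ centralizer (X : Set Ω)) :
    NMor F X ⊥ P (cp t) := nMor_cp hP hX (by rw [NK_bot]; exact ⟨ht, hc⟩)

theorem NI.cz_CSE (h : NI E F p) : Cz F E (CSE E F p) := by
  haveI := h.finite
  have hC := (CSE_le E F p).trans (Fus.CS_le S T)
  refine ⟨CSE_le E F p, h.satE.alperin_p' ((closed_nMor F _ ⊥).sub h.sub) (fun t ht => nMor_bot_cp h.le hC (h.le ht)
    fun c hc => (hc.1.2 t ht).symm) fun P hP a ha hp => ?_⟩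
  obtain ⟨b, hb, e⟩ := h.exists_good (h.satE.base_fcr hP).2.1 ha hp le_sup_left le_rfl
  exact nMor_bot_iff.2 ⟨b, (iso_of_AutF (sup_CS_le (hb.cen.1.trans h.le)) hb.mem).mor.mono
    (sup_le_sup_left ((CSE_le E F p).trans (CS_anti S hb.cen.1)) P), e, fun c hc => hc.2 P b hb⟩

theorem NI.le_CSE (h : NI E F p) {X : Subgroup Ω} (hX : Cz F E X) : X ≤ CSE E F p := fun c hc => ⟨hX.le hc, fun Q b hb => by
  have hW := sup_CS_le (hb.cen.1.trans h.le)
  have hV : Q ⊔ X ≤ Q ⊔ centralizerIn S Q := sup_le_sup_left (hX.le.trans (CS_anti S hb.cen.1)) Q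
  obtain ⟨g, hg, e, hfix⟩ := nMor_bot_iff.1 (hX.mor Q b hb.mor)
  have m0 := hb.maps hW le_rfl hb.le
  have hi : Iso F g (Q ⊔ X) (Q ⊔ X) := ⟨hg, hg.homOn.maps_sup (m0.congr e) ((maps_one X).congr hfix)⟩
  obtain ⟨d, hd, hd₁, hd₂, hd₃⟩ := hi.exists_pprime le_sup_left hb.pp m0 e (H := Tr T (Q ⊔ X) ⊓ FixP X)
    ⟨hi.res_mem_Tr (CU.sup hg.homOn (hg.le.trans (sc_le_normalizer h.sc)) (cu_of_sc h.sc hg le_sup_left hb.cen.1)
      fun x hx => by simp [hfix x hx]), fun x hx => (res_apply hi.maps (mem_sup_right hx)).trans (hfix x hx)⟩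
  have g1 := hb.res hW le_sup_left hV
  have m1 := hb.maps hW le_sup_left hV
  have e' := h.good_unique g1 ⟨hb.cen, le_sup_left, hV, hd, hd₂, hb.mor.congr hd₃, Tr.cu hd₁.1⟩
    fun x hx => (hd₃ x hx).trans (res_apply m1 (mem_sup_left hx)).symm
  rw [← res_apply m1 (mem_sup_right hc), ← e']
  exact hd₁.2 c hc⟩

theorem NI.cz_iff_le (h : NI E F p) {X : Subgroup Ω} : Cz F E X ↔ X ≤ CSE E F p := ⟨h.le_CSE, h.cz_CSE.mono⟩

theorem NI.foc_le_CSE (h : NI E F p) {D : FusionSystem U} (hD : IsNK F T ⊥ D) : D.focalSubgroup ≤ CSE E F p := by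
  haveI := hD.finite
  have hU : U = centralizerIn S T := hD.eq.trans (NK_bot S T)
  refine foc_le_iff.2 fun P f hf x hx => ?_
  obtain ⟨g, hg, e, hfix⟩ := nMor_bot_iff.1 (hD.nMor hf)
  refine ⟨hU ▸ mul_mem (inv_mem (hf.le hx)) (hf.mem_S hx), fun Q b hb => ?_⟩
  rw [← e x hx]
  exact h.good_fix hb (hb.cen.1.trans le_sup_right) hg (fun y hy => hfix y (hb.cen.1 hy)) (mem_sup_left hx)
    (CS_anti S hb.cen.1 (hU ▸ hf.le hx))

end Cfsg.Agent.Fus
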