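import Cfsg.Agent.Fus.Xt2

/-! Strong closure of the centralizer of a normal subsystem; the centralizer subsystem. -/

set_option autoImplicit false

namespace Cfsg.Agent.Fus

open Subgroup Cfsg Cfsg.Agent.Loc Equiv
open Cfsg.FusionSystem (normalizerIn centralizerIn)
open scoped commutatorElement

variable {Ω : Type*} [Group Ω] {S T U P Q R N V X : Subgroup Ω} {p : ℕ} {F : FusionSystem S} {E : FusionSystem T}
  {a b f g : Perm Ω}

theorem CU.maps_inf (h : CU T P b) (hm : Maps b P P) : Maps b (P ⊓ T) (P ⊓ T) := fun x =>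
  ⟨fun hx => ⟨(hm x).1 hx.1, by simpa using T.mul_mem hx.2 (T.inv_mem (h x ((hm x).1 hx.1)))⟩,
    fun hx => ⟨hm.mem hx.1, by simpa using T.mul_mem hx.2 (h x hx.1)⟩⟩

theorem CU.maps_of_le [Finite V] (h : CU T P b) (hh : HomOn b P) (hm : Maps b P P) (h1 : P ⊓ T ≤ V) (h2 : V ≤ P) :
    Maps b V V :=
  (hh.mono h2).maps_self fun x hx => by
    simpa using V.mul_mem hx (h1 (mem_inf.2 ⟨mul_mem (inv_mem (h2 hx)) (hm.mem (h2 hx)), h x (h2 hx)⟩))

/-- Automorphisms of `P` in `F` that are trivial modulo `T` and restrict to morphisms of `E`. -/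
def BE (E : FusionSystem T) (F : FusionSystem S) (P : Subgroup Ω) : Subgroup (Perm Ω) where
  carrier := {b | b ∈ AutF F P ∧ Mor E (P ⊓ T) b ∧ CU T P b}
  one_mem' := ⟨one_mem _, mor_one E inf_le_right, fun _ _ => by simp⟩
  mul_mem' := fun ha hb => ⟨mul_mem ha.1 hb.1, ha.2.1.mul hb.2.1 fun _ hx => (hb.2.2.maps_inf (maps_of_AutF hb.1)).mem hx,
    ha.2.2.mul hb.2.2 fun _ hx => (maps_of_AutF hb.1).mem hx⟩
  inv_mem' := fun ha => ⟨inv_mem ha.1, ha.2.1.inv (ha.2.2.maps_inf (maps_of_AutF ha.1)), ha.2.2.inv (maps_of_AutF ha.1)⟩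

theorem BE_le (E : FusionSystem T) (F : FusionSystem S) (P : Subgroup Ω) : BE E F P ≤ AutF F P := fun _ h => h.1

theorem Inv.conj_BE (h : Inv E F) (hf : Iso F f P Q) (hb : b ∈ BE E F P) : f * b * f⁻¹ ∈ BE E F Q :=
  ⟨hf.conj_mem hb.1, h.sconj (hf.mor.mono inf_le_left) inf_le_right hb.2.1 le_rfl
    (fun _ hx => (hb.2.2.maps_inf (maps_of_AutF hb.1)).mem hx) (sc_maps_inf h.sc hf),
    hb.2.2.conj h.sc (fun _ hx => (maps_of_AutF hb.1).mem hx) hf⟩

theorem Inv.normal_BE (h : Inv E F) (hP : P ≤ S) : AutF F P ≤ normalizer (BE E F P : Set (Perm Ω)) :=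
  le_normalizer_of_cj_le fun _ hb => cj_le_iff_forall.2 fun _ hc => h.conj_BE (iso_of_AutF hP hb) hc

theorem AutK_le_BE (hT : F.StronglyClosed T) (E : FusionSystem T) (hP : P ≤ S) : AutK T P ≤ BE E F P := fun c hc => by
  obtain ⟨t, ht, hn, rfl⟩ := mem_AutK.1 hc
  exact ⟨cr_mem_AutF F hP ⟨hT.1 ht, hn⟩, (mor_cp E inf_le_right ht).congr fun x hx => cr_apply hn hx.1,
    (cu_cp ht (hP.trans (sc_le_normalizer hT))).congr fun x hx => cr_apply hn hx⟩

theorem BE_eq (hE : E.IsSubsystemOf F) (hP : P ≤ T) : BE E F P = AutF E P := by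
  refine le_antisymm (fun b hb => (mem_AutF hP).2 ⟨hb.2.1.mono (le_inf le_rfl hP), supp_of_AutF hb.1⟩) fun b hb => ?_
  have hi := iso_of_AutF hP hb
  exact ⟨AutF_mono hE P hb, hi.mor.mono inf_le_left, fun x hx => mul_mem (inv_mem (hP hx)) (hi.mor.mem_S hx)⟩

theorem res_mem_BE (hP : P ≤ S) (hb : b ∈ BE E F P) (hV : V ≤ P) (hm : Maps b V V) : res V b ∈ BE E F V :=
  ⟨Iso.res_mem ⟨(iso_of_AutF hP hb.1).mor.mono hV, hm⟩, (hb.2.1.mono (inf_le_inf_right T hV)).congr fun _ hx => res_apply hm hx.1,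
    (hb.2.2.mono hV).congr fun _ hx => res_apply hm hx⟩

/-- `f` preserves membership in `X`. -/
def Pres (X P : Subgroup Ω) (f : Perm Ω) : Prop := ∀ x ∈ P, f x ∈ X ↔ x ∈ X

theorem closed_Pres (F : FusionSystem S) (X : Subgroup Ω) : Closed F (Pres X) where
  congr h e x hx := by rw [e x hx]; exact h x hx
  mono h hle x hx := h x (hle hx)
  mul i _ h h' x hx := (h' _ (i.mem hx)).trans (h x hx)
  inv i h y hy := by rw [← h _ (i.symm.mem hy), perm_apply_inv]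

theorem Cz.le_S (h : Cz F E X) : X ≤ S := h.le.trans (Fus.CS_le S T)

theorem Cz.conj [Finite S] (h : Cz F E X) (hE : Inv E F) (hg : Mor F (T ⊔ X) g) : Cz F E (img g X) := by
  have hT := sc_maps hE.sc hg le_sup_left
  have hX := (hg.mono le_sup_right).maps_img
  have hi : Iso F g T T := ⟨hg.mono le_sup_left, hT⟩
  refine ⟨img_le_iff.2 fun x hx => hg.mem_CS le_sup_left hT (mem_sup_right hx) (h.le hx).2, fun P f hf => ?_⟩
  have h1 := (hi.symm.restrict hf.le).maps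
  obtain ⟨k, hk, e, hfix⟩ := nMor_bot_iff.1 (h.mor _ _ (hE.conj hi.symm hf h1))
  have hP : img (⇑g⁻¹) P ≤ T := (h1.le_iff hT.symm).2 hf.le
  have h2 : Iso F g (img (⇑g⁻¹) P ⊔ X) (P ⊔ img g X) :=
    have := hg.mono (sup_le_sup_right hP X)
    ⟨this, this.homOn.maps_sup h1.symm hX⟩
  refine nMor_bot_iff.2 ⟨g * k * g⁻¹, (hg.mul hk (hk.homOn.mem_of_sup (fun x hx => ?_) fun x hx => ?_)).mul h2.symm.mor
    fun _ hx => h2.symm.mem hx, fun x hx => by rw [Perm.mul_apply, Perm.mul_apply, e _ (h1.mem hx)]; simp, fun y hy => ?_⟩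
  · exact mem_sup_left (sc_mem hE.sc hk (mem_sup_left hx) (hP hx))
  · rw [hfix x hx]; exact mem_sup_right hx
  · obtain ⟨x, hx, rfl⟩ := hX.exists_eq hy
    simp [hfix x hx]

theorem sup_CS_inf' (hU : U ≤ T) (hT : T ≤ S) : (U ⊔ centralizerIn S U) ⊓ T = U ⊔ centralizerIn T U := by
  rw [sup_inf_of_le_left ((CS_le_NS S U).trans (NS_le_normalizer S U)) hU]
  congr 1
  exact le_antisymm (fun x hx => ⟨hx.2, hx.1.2⟩) fun x hx => ⟨⟨hT hx.1, hx.2⟩, hx.1⟩

variable [Finite S] [Fact p.Prime]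

theorem WN.centric_inf (h : WN E F p) (hc : F.IsCentric P) (hr : F.IsRadical p P) : E.IsCentric (P ⊓ T) := by
  haveI := h.finite
  obtain ⟨m, Q', hQ', hm, hq⟩ := h.satF.exists_NS_mor (inf_le_left.trans hc.1 : P ⊓ T ≤ S)
  have hPN : P ≤ normalizerIn S (P ⊓ T) :=
    le_inf hc.1 fun x hx => mem_normalizer_inf (le_normalizer hx) (sc_le_normalizer h.sc (hc.1 hx))
  have hi := (hm.mono hPN).iso
  have e := hq.unique (sc_maps_inf h.sc hi)
  have hQT : Q' ≤ T := e ▸ inf_le_right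
  have h1 := CS_inf_le_of_cr h.satF.pg h.sc (centric_iso hc hi) (radical_iso hr hi)
  refine h.inv.centric_iso (h.satE.centric_of_fc (h.satF.fc_sub h.sc h.sub hQT (h.satF.fc_of_fn hQ')) ?_)
    (Iso.symm ⟨hm.mono (inf_le_left.trans hPN), hq⟩)
  rw [e]; exact le_inf h1 (Fus.CS_le _ _)

theorem NI.gd_fix_CSE (h : NI E F p) (hb : Gd E F p Q V b) {c : Ω} (hc : c ∈ V) (hC : c ∈ CSE E F p) : b c = c := by
  have hW := sup_CS_le (hb.cen.1.trans h.le)
  have hm := hb.maps (hb.le'.trans hW) le_rfl hb.le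
  obtain ⟨b', hb', e⟩ := h.exists_good hb.cen (Iso.res_mem ⟨hb.mor, hm⟩) (coprime_res hm hb.pp) le_sup_left le_rfl
  have m1 := hb'.maps hW hb.le hb.le'
  rw [h.good_unique (hb'.res hW hb.le hb.le') hb fun x hx => by
    rw [res_apply m1 (hb.le hx), e x hx, res_apply hm hx], res_apply m1 hc]
  exact hC.2 Q b' hb'

omit [Fact p.Prime] in
theorem gd_of_BE (hP : P ≤ S) (hc : E.IsCentric (P ⊓ T)) (hb : b ∈ BE E F P) (hp : (orderOf b).Coprime p) (h1 : P ⊓ T ≤ V)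
    (h2 : V ≤ P) (h3 : V ≤ P ⊓ T ⊔ centralizerIn S (P ⊓ T)) : Gd E F p (P ⊓ T) V (res V b) ∧ Maps b V V := by
  haveI := finite_of_le (h2.trans hP)
  have hm := hb.2.2.maps_of_le (homOn_of_AutF hb.1) (maps_of_AutF hb.1) h1 h2
  have := res_mem_BE hP hb h2 hm
  exact ⟨⟨hc, h1, h3, this.1, coprime_res hm hp, this.2.1.mono (le_inf h1 inf_le_right), this.2.2⟩, hm⟩

theorem NI.BE_fix_CSE (h : NI E F p) (hP : P ≤ S) (hc : E.IsCentric (P ⊓ T)) (hb : b ∈ BE E F P) (hp : (orderOf b).Coprime p)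
    {c : Ω} (hcP : c ∈ P) (hC : c ∈ CSE E F p) : b c = c := by
  obtain ⟨g, hm⟩ := gd_of_BE (V := P ⊓ T ⊔ zpowers c) hP hc hb hp le_sup_left (sup_le inf_le_left (zpowers_le.2 hcP))
    (sup_le_sup_left (zpowers_le.2 (CS_anti S inf_le_right hC.1)) _)
  have hc' : c ∈ P ⊓ T ⊔ zpowers c := mem_sup_right (mem_zpowers c)
  rw [← res_apply hm hc']; exact h.gd_fix_CSE g hc' hC

theorem NI.mem_CSE_of_le (h : NI E F p) (hg : Mor F P g) (hT : T ≤ P) {c : Ω} (hc : c ∈ P) (hC : c ∈ CSE E F p) :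
    g c ∈ CSE E F p :=
  h.le_CSE ((h.cz_CSE.mono (zpowers_le.2 hC)).conj h.inv (hg.mono (sup_le hT (zpowers_le.2 hc))))
    (mem_img_of_mem _ (mem_zpowers c))

theorem NI.sc_CSE (h : NI E F p) : F.StronglyClosed (CSE E F p) := by
  have hF := h.satF
  refine sc_of_perm h.cz_CSE.le_S fun x hx f hf => (hF.alperin' (closed_Pres F (CSE E F p)) (fun P hP ih a ha => ?_) _ f hf x
    (mem_zpowers x)).2 hx
  obtain ⟨hn, hc, hr⟩ := hF.base_fcr hP
  haveI := finite_of_le (inf_le_left.trans hn.1 : P ⊓ CSE E F p ≤ S)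
  have key : ∀ b ∈ AutF F P, (∀ c ∈ P, c ∈ CSE E F p → b c ∈ CSE E F p) → b ∈ Stab (P ⊓ CSE E F p) := fun b hb k =>
    ((homOn_of_AutF hb).mono inf_le_left).maps_self fun c hc => ⟨(maps_of_AutF hb).mem hc.1, k c hc.1 hc.2⟩
  suffices H : a ∈ Stab (P ⊓ CSE E F p) from fun c hc =>
    ⟨fun k => ((H c).1 ⟨(maps_of_AutF ha).mem hc, k⟩).2, fun k => (Maps.mem H ⟨hc, k⟩).2⟩
  refine key a ha fun c hcP hC => ?_
  by_cases hT : T ≤ P
  · exact h.mem_CSE_of_le (iso_of_AutF hn.1 ha).mor hT hcP hC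
  obtain ⟨n, hn', g, hg, hm, e⟩ := hF.frattini' hn (BE_le E F P) (h.inv.normal_BE hn.1) ha
  have h1 := (ih _ g (by
    haveI := finite_of_le hg.le
    exact card_lt_card (lt_NK_sup hF.pg hn.1 h.le (hn.1.trans (sc_le_normalizer h.sc)) hT (AutK_le_BE h.sc E hn.1))) hg c
    (mem_sup_right hcP)).2 hC
  haveI := finite_AutF' F hn.1
  haveI := finite_of_le (BE_le E F P)
  have h2 : BE E F P ≤ Stab (P ⊓ CSE E F p) := by
    rw [← OpA_sup_syl ((hF.syl hn).inf_normal' (BE_le E F P) (h.inv.normal_BE hn.1))]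
    refine sup_le (OpA_le_iff.2 fun b hb hp => key b hb.1 fun c hcP hC => ?_) fun b hb => key b hb.2.1 fun c hcP hC => ?_
    · rwa [h.BE_fix_CSE hn.1 (h.centric_inf hc hr) hb hp hcP hC]
    · obtain ⟨s, hs, hsn, rfl⟩ := mem_AutK.1 hb.1
      rw [cr_apply hsn hcP]
      exact h.mem_CSE_of_le (mor_cp F le_rfl hs) h.le (hn.1 hcP) hC
  rw [e c hcP]
  exact (Maps.mem (h2 hn') ⟨hm.mem hcP, h1⟩).2

omit [Finite S] [Fact p.Prime] in
theorem WN.ni_of_gx (h : WN E F p) (hx : ∀ a ∈ AutF E T, a ∈ GX F T T (T ⊔ centralizerIn S T) (sup_CS_le h.le)) : NI E F p :=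
  ⟨h, fun a ha => by
    obtain ⟨-, b, h1, h2, h3⟩ := hx a ha
    exact ⟨b, h1.mor, h2, h3.mono le_sup_right⟩⟩

theorem WN.ni_of_pprime (h : WN E F p) (hx : ∀ a ∈ AutF E T, (orderOf a).Coprime p → ∃ b : Perm Ω,
    Mor F (T ⊔ centralizerIn S T) b ∧ (∀ x ∈ T, b x = a x) ∧ CU T (centralizerIn S T) b) : NI E F p := by
  haveI := h.finite
  haveI := finite_AutF' E (le_refl T)
  refine h.ni_of_gx fun a ha => ?_
  rw [← OpA_sup_syl h.satE.syl_S] at ha
  refine (sup_le (OpA_le_iff.2 fun a ha hp => ?_) fun c hc => ?_ : _ ≤ GX F T T _ (sup_CS_le h.le)) ha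
  · obtain ⟨b, hb, e, hu⟩ := hx a ha hp
    exact ⟨maps_of_AutF ha, b, hb.iso_sup_CS ((maps_of_AutF ha).congr e), e, CU.sup hb.homOn
      (hb.le.trans (sc_le_normalizer h.sc)) (cu_of_sc h.sc hb le_sup_left le_rfl) hu⟩
  · obtain ⟨t, ht, htn, rfl⟩ := mem_AutK.1 hc
    exact ⟨maps_res _ _, cp t, iso_cp_self F (sup_CS_le h.le) ⟨h.le ht, NS_le_normalizer_sup_CS S T ⟨h.le ht, htn⟩⟩,
      fun x hx => (cr_apply htn hx).symm, cu_cp ht ((sup_CS_le h.le).trans (sc_le_normalizer h.sc))⟩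

omit [Finite S] [Fact p.Prime] in
/-- `D` is invariant under the `F`-automorphisms of `T`. -/
def AInv (D : FusionSystem U) (F : FusionSystem S) (T : Subgroup Ω) : Prop :=
  ∀ {a f : Perm Ω} {P R}, Iso F a T T → Mor D P f → Maps a P R → Mor D R (⇑(a * f * a⁻¹))

omit [Finite S] [Fact p.Prime] in
theorem AInv.maps {D : FusionSystem U} (h : AInv D F T) (ha : Iso F a T T) (hU : U ≤ T) : Maps a U U := by
  have k : ∀ {a}, Iso F a T T → ∀ x ∈ U, a x ∈ U := fun ha x hx =>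
    (h ha (mor_one D le_rfl) (ha.restrict hU).maps).le (mem_img_of_mem _ hx)
  exact fun x => ⟨fun hx => by simpa using k ha.symm _ hx, k ha x⟩

theorem WN.trans {D : FusionSystem U} (h : WN D E p) (h' : WN E F p) (hi : AInv D F T) : WN D F p := by
  refine ⟨h.satE, h'.satF, h'.satF.inv_of_sconj (sub_trans h.sub h'.sub) (h'.inv.sc_of_sc h.sc fun a ha => hi.maps ha h.le)
    fun {k f P Q R} hk hQ hf hP hm hR => ?_⟩
  obtain ⟨a, ha, he⟩ := h'.inv.fra (hQ.trans h.le) hk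
  have h1 := (he.mono hP).maps_img
  have h2 := h.inv.sconj he hQ hf hP hm h1
  have h3 : Maps a (img (⇑(a⁻¹ * k)) P) R := by simpa using h1.symm.trans hR
  simpa [mul_assoc] using hi ha h2 h3

/-- A normal subsystem of a normal subsystem that is invariant under the automorphisms of `T` is normal. -/
theorem NI.trans {D : FusionSystem U} (h : NI D E p) (h' : NI E F p) (hi : AInv D F T) : NI D F p := by
  have hw := h.toWN.trans h'.toWN hi
  haveI := h'.finite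
  refine hw.ni_of_pprime fun a ha hp => ?_
  obtain ⟨b, hb, e, hu⟩ := h.ext a ha
  have hbm := (maps_of_AutF ha).congr e
  have hbi := hb.iso_sup_CS hbm
  have hcu := CU.sup hb.homOn (hb.le.trans (sc_le_normalizer h.sc)) (cu_of_sc h.sc hb le_sup_left le_rfl) hu
  obtain ⟨c, hc, hc₁, hc₂, hc₃⟩ := hbi.exists_pprime le_sup_left hp (maps_of_AutF ha) e (hbi.res_mem_Tr hcu)
  have hfc := h'.satE.fc_of_fn (fn_of_sc h.sc)
  set V := U ⊔ centralizerIn T U
  have hV : V ≤ T := sup_CS_le h.le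
  have hVS := hV.trans h'.le
  have hVR : V ≤ U ⊔ centralizerIn S U := sup_le_sup_left (inf_le_inf_right _ h'.le) U
  have hR : U ⊔ centralizerIn S U ≤ normalizerIn S V := le_inf (sup_CS_le hw.le) fun x hx => by
    have h1 := sup_CS_le_NS hw.le hx
    exact mem_normalizer_sup h1.2 (mem_normalizer_inf (sc_le_normalizer h'.sc h1.1) (normalizer_le_normalizer_centralizer _ h1.2))
  have hci := iso_of_AutF hV hc
  have hcm : Maps c U U := (maps_of_AutF ha).congr hc₃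
  obtain ⟨g, hg, hg₁, hg₂, hg₃⟩ := h'.ext_pprime (centric_sup_CS hfc) hc hc₂ hVR hR fun x hx => by
    obtain ⟨y, hy, z, hz, rfl⟩ := mem_sup_CS.1 hx
    have hzn := hR (mem_sup_right hz)
    have k4 := cr_mem_AutF F hVS hzn
    have k5 : c * (cr V z * c⁻¹ * (cr V z)⁻¹) ∈ AutF E V :=
      mul_mem hc (conj_mem_of_mem_normalizer (h'.inv.AutF_normal hV k4) (inv_mem hc))
    have k6 : ∀ w ∈ U, cr V z w = w := fun w hw =>
      (cr_apply hzn.2 (mem_sup_left hw)).trans (mem_centralizer_iff_cp.1 hz.2 w hw)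
    have k0 : ∀ w ∈ U, (c * (cr V z * c⁻¹ * (cr V z)⁻¹)) w = w := fun w hw => by
      have : (cr V z)⁻¹ w = w := by rw [Perm.inv_eq_iff_eq, k6 w hw]
      simp only [Perm.mul_apply]
      rw [this, k6 _ (hcm.inv_mem hw), perm_apply_inv]
    haveI := finite_of_le hw.le
    obtain ⟨s, hs, k7⟩ := h'.satE.fix_eq_conj hfc k5 (pow_eq_one_of_stab (h.satF.pg.to_le h.le) (supp_of_AutF k5)
      (homOn_of_AutF k5) le_sup_left k0 (Tr.cu (mul_mem hc₁ (conj_mem_Tr hw.sc (inv_mem hc₁) (iso_of_AutF hVS k4))))) k0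
    have hs' : s ∈ V := mem_sup_right hs
    have hy' : y ∈ V := mem_sup_left hy
    have k8 : c y * s * y⁻¹ ∈ V := V.mul_mem (V.mul_mem (hci.mem hy') hs') (V.inv_mem hy')
    refine ⟨c y * s * y⁻¹, ⟨hVR k8, hV k8⟩, fun w hw => ?_⟩
    have hw' := conj_mem_of_mem_normalizer hzn.2 hw
    have k9 := k7 _ (conj_mem_of_mem_normalizer hzn.2 (hci.mem hw))
    simp only [Perm.mul_apply] at k9
    rw [← cr_apply hzn.2 (hci.mem hw), perm_inv_apply, perm_inv_apply, cr_apply hzn.2 hw, cr_apply hzn.2 (hci.mem hw)] at k9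
    rw [show y * z * w * (y * z)⁻¹ = y * (z * w * z⁻¹) * y⁻¹ by group, hci.homOn.map_conj hy' hw', k9]
    group
  have hgi := iso_of_AutF (sup_CS_le hw.le) hg
  refine ⟨g, hgi.mor, fun x hx => (hg₂ x (mem_sup_left hx)).trans (hc₃ x hx), fun x hx => ?_⟩
  refine quot_mem_of_coprime hg₁ (h'.satE.pg.to_le hV) hgi.homOn hVR le_sup_left
    (fun u hu => sc_mem hw.sc hgi.mor (mem_sup_left hu) hu) ((Tr.cu hc₁).congr hg₂) (mem_sup_right hx) ?_
  exact (sup_CS_inf' h.le h'.le).le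
    (mem_inf.2 ⟨mul_mem (inv_mem (mem_sup_right hx)) (hgi.mem (mem_sup_right hx)), hg₃ x (mem_sup_right hx)⟩)

omit [Finite S] [Fact p.Prime] in
theorem closed_conj (D : FusionSystem U) (D' : FusionSystem V) (ha : HomOn a U) :
    Closed D fun P f => P ≤ U ∧ Mor D' (img a P) (⇑(a * f * a⁻¹)) where
  congr k e := ⟨k.1, k.2.congr fun y hy => by
    obtain ⟨x, hx, rfl⟩ := (ha.mono k.1).mem_img.1 hy; simp [e x hx]⟩
  mono k hle := ⟨hle.trans k.1, k.2.mono (img_mono _ hle)⟩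
  mul i _ k k' := ⟨k.1, (k'.2.mul k.2 fun y hy => by
    obtain ⟨x, hx, rfl⟩ := (ha.mono k.1).mem_img.1 hy; simpa using mem_img_of_mem _ (i.mem hx)).congr fun y _ => by simp⟩
  inv i k := ⟨i.le', (k.2.inv ((ha.mono k.1).maps_img.symm.trans (i.maps.trans (ha.mono i.le').maps_img))).congr
    fun y _ => by simp [mul_assoc]⟩

omit [Finite S] [Fact p.Prime] in
theorem mor_conj_cp {D' : FusionSystem V} (ha : HomOn a U) (hm : ∀ x ∈ U, a x ∈ V) {t : Ω} (ht : t ∈ U) :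
    Mor D' (img a U) (⇑(a * cp t * a⁻¹)) :=
  (mor_cp D' (img_le_iff.2 hm) (hm t ht)).congr fun y hy => by
    obtain ⟨x, hx, rfl⟩ := ha.mem_img.1 hy
    simp [ha.map_conj ht hx]

theorem Inv.ainv_ppi {D : FusionSystem U} (h : Inv E F) (hD : Sat D p) (hp : PPI D E p)
    (hU : ∀ a, Iso F a T T → Maps a U U) : AInv D F T := fun {a f P R} ha hf hm => by
  haveI := h.finite
  haveI := finite_of_le hp.le
  have hh := ha.homOn.mono hp.le
  refine hm.img_eq ▸ (hD.alperin_p' (closed_conj D D hh) (fun t ht => ⟨le_rfl, mor_conj_cp hh (fun _ => (hU a ha).mem) ht⟩)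
    (fun P hP b hb hc => ?_) P f hf).2
  have hPU := (hD.base_fcr hP).1.1
  have hi := ha.restrict (hPU.trans hp.le)
  exact ⟨hPU, hp.mor _ (img_le_iff.2 fun x hx => (hU a ha).mem (hPU hx)) _
    (h.conj_AutF hi (hPU.trans hp.le) (AutF_mono hp.sub P hb)) (coprime_conj hc a)⟩

/-- `O^p(E)` is weakly normal in `F`. -/
theorem WN.pres {D : FusionSystem U} (h : WN E F p) (hD : PRes D E p) : WN D F p :=
  haveI := h.finite
  (hD.ni h.satE).toWN.trans h (h.inv.ainv_ppi hD.sat hD.ppi fun _ ha => hD.eq ▸ h.inv.maps_hyp ha)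

theorem NI.pres {D : FusionSystem U} (h : NI E F p) (hD : PRes D E p) : NI D F p :=
  haveI := h.finite
  (hD.ni h.satE).trans h (h.inv.ainv_ppi hD.sat hD.ppi fun _ ha => hD.eq ▸ h.inv.maps_hyp ha)

section nk
variable {K : Subgroup (Perm Ω)} {D : FusionSystem U}

omit [Finite S] [Fact p.Prime] in
theorem NK_cj_eq (hK : AutF F Q ≤ normalizer (K : Set (Perm Ω))) (hf : Iso F f Q Q) : NK S Q (cj f K) = NK S Q K := by
  rw [← NK_cj_congr hf.maps (fun x hx => res_apply hf.maps hx), cj_eq_of_mem_normalizer (hK hf.res_mem)]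

theorem IsNK.wn (hD : IsNK F Q K D) (hF : Sat F p) (hQ : F.IsNormal Q) (hK : AutF F Q ≤ normalizer (K : Set (Perm Ω))) :
    WN D F p := by
  have hsc := sc_of_normal hQ
  refine ⟨hD.sat hF ⟨hD.le, fun f R hf => ?_⟩, hF, hF.inv_of_sconj hD.sub (sc_of_perm hD.T_le fun x hx f hf => ?_)
    fun {k f P R R'} hk hR hf hP hm hR' => ?_⟩
  · obtain rfl := hf.maps.unique (sc_maps hsc hf.mor le_rfl)
    rw [NK_cj_eq hK hf]
  · obtain ⟨g, hg, e, hm⟩ := normal_ext hQ hf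
    rw [← e x (mem_zpowers x), hD.eq, ← NK_cj_eq hK ⟨hg.mono le_sup_right, hm⟩]
    exact hg.mem_NK le_sup_right hm (mem_sup_left (mem_zpowers x)) (hD.eq ▸ hx)
  · obtain ⟨g, hg, e, hgm⟩ := normal_ext hQ hk
    obtain ⟨f', hf', e', hfm, hfK⟩ := hD.nMor hf
    have h1 := hR'.congr fun x hx => e x (hP hx)
    have h2 : Iso F g (P ⊔ Q) (R' ⊔ Q) :=
      have := hg.mono (sup_le_sup_right hP Q)
      ⟨this, this.homOn.maps_sup h1 hgm⟩
    have hgi : Iso F g Q Q := ⟨hg.mono le_sup_right, hgm⟩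
    refine hD.mor (fun y hy => ?_) ⟨g * f' * g⁻¹, (hg.mul hf' (hf'.homOn.mem_of_sup (fun x hx => ?_) fun x hx =>
      mem_sup_right (hfm.mem hx))).mul h2.symm.mor fun _ hx => h2.symm.mem hx, fun y hy => ?_, hgm.symm.trans (hfm.trans hgm), ?_⟩
    · obtain ⟨x, hx, rfl⟩ := h1.exists_eq hy
      rw [hD.eq, ← NK_cj_eq hK hgi]
      exact hg.mem_NK le_sup_right hgm (mem_sup_left (hP hx)) (hD.eq ▸ hf.le hx)
    · rw [e' x hx]; exact mem_sup_left (hm x hx)
    · obtain ⟨x, hx, rfl⟩ := hR'.exists_eq hy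
      conv_lhs => rw [← e x (hP hx)]
      simp [e' x hx, e _ (hm x hx)]
    · rw [res_mul (hfm.trans hgm) hgm.symm, res_mul hgm hfm, res_inv hgm]
      exact conj_mem_of_mem_normalizer (hK hgi.res_mem) hfK

theorem IsNK.ni (hD : IsNK F Q K D) (hF : Sat F p) (hQ : F.IsNormal Q) (hK : AutF F Q ≤ normalizer (K : Set (Perm Ω)))
    (hI : AutK Q Q ≤ K) : NI D F p :=
  (hD.wn hF hQ hK).ni_of_CS_le ((CS_anti S (hD.le_T hI)).trans (hD.eq ▸ CS_le_NK S Q K))

/-- The centralizer system of a normal subgroup is a normal subsystem. -/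
theorem IsNK.ni_bot (hD : IsNK F Q ⊥ D) (hF : Sat F p) (hQ : F.IsNormal Q) : NI D F p := by
  refine ⟨hD.wn hF hQ (by simp), fun a ha => ?_⟩
  have hU : U = centralizerIn S Q := hD.eq.trans (NK_bot S Q)
  have hi := iso_of_AutF le_rfl ha
  obtain ⟨g, hg, e, hfix⟩ := nMor_bot_iff.1 (hD.nMor hi.mor)
  have hc : F.IsCentric (U ⊔ Q) := by rw [hU, sup_comm]; exact centric_sup_CS (hF.fc_of_fn (fn_of_sc (sc_of_normal hQ)))
  have hm := hi.maps.congr e
  have hgi : Iso F g (U ⊔ Q) (U ⊔ Q) := ⟨hg, hg.homOn.maps_sup hm ((maps_one Q).congr hfix)⟩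
  have hn : ∀ x ∈ centralizerIn S U, x ∈ normalizer ((U ⊔ Q : Subgroup Ω) : Set Ω) := fun x hx =>
    mem_normalizer_sup (centralizer_le_normalizer _ hx.2) (normal_le_normalizer hQ hx.1)
  have key : ∀ x ∈ centralizerIn S U, ∀ y ∈ U ⊔ Q, g (x * y * x⁻¹) = x * g y * x⁻¹ := fun x hx =>
    HomOn.eq_on_sup (hg.homOn.comp (homOn_cp x _) fun y hy => conj_mem_of_mem_normalizer (hn x hx) hy)
      ((homOn_cp x ⊤).comp hg.homOn fun _ _ => mem_top _)
      (fun y hy => by rw [mem_centralizer_iff_cp.1 hx.2 y hy, mem_centralizer_iff_cp.1 hx.2 _ (hm.mem hy)])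
      fun y hy => by rw [hfix y hy, hfix _ (conj_mem_of_mem_normalizer (normal_le_normalizer hQ hx.1) hy)]
  obtain ⟨b, hb, e'⟩ := rec_ext (hF.rec_of_centric hc) hgi (R := centralizerIn S U) fun x hx =>
    mem_Ext.2 ⟨⟨hx.1, hn x hx⟩, x, hx.1, key x hx⟩
  refine ⟨b, hb.mono (sup_le (le_sup_left.trans le_sup_right) le_sup_left), fun x hx => (e' x (mem_sup_left hx)).trans (e x hx),
    fun x hx => hU ▸ ⟨S.mul_mem (S.inv_mem hx.1) (hb.mem_S (mem_sup_left hx)), inv_mul_mem_centralizer fun y hy => ?_⟩⟩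
  have hy' := conj_mem_of_mem_normalizer (normal_le_normalizer hQ hx.1) hy
  have := hb.homOn.map_conj (mem_sup_left hx) (mem_sup_right (mem_sup_right hy))
  rwa [e' _ (mem_sup_right hy'), e' _ (mem_sup_right hy), hfix _ hy', hfix y hy, eq_comm] at this

end nk

theorem NI.nMor_of_le_CSE (h : NI E F p) (hf : Mor F P f) : NMor F T ⊤ (P ⊓ CSE E F p) f := by
  have hF := h.satF
  have hC : Closed F fun P f => NMor F T ⊤ (P ⊓ CSE E F p) f :=
    ⟨fun k e => k.congr fun x hx => e x hx.1, fun k hle => k.mono (inf_le_inf_right _ hle),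
      fun i _ k k' => k'.comp k fun x hx => (sc_maps_inf h.sc_CSE i).mem hx, fun i k => k.inv (sc_maps_inf h.sc_CSE i)⟩
  refine hF.alperin' hC (fun P hP ih a ha => ?_) P f hf
  obtain ⟨hn, hc, hr⟩ := hF.base_fcr hP
  by_cases hT : T ≤ P
  · have hi := iso_of_AutF hn.1 ha
    exact (nMor_of_le hi.mor hT (sc_maps h.sc hi.mor hT) (mem_top _)).mono inf_le_left
  obtain ⟨n, hn', g, hg, hm, e⟩ := hF.frattini' hn (BE_le E F P) (h.inv.normal_BE hn.1) ha
  have h1 := hC.mono (ih _ g (by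
    haveI := finite_of_le hg.le
    exact card_lt_card (lt_NK_sup hF.pg hn.1 h.le (hn.1.trans (sc_le_normalizer h.sc)) hT (AutK_le_BE h.sc E hn.1))) hg)
    le_sup_right
  haveI := finite_AutF' F hn.1
  haveI := finite_of_le (BE_le E F P)
  have h0 : ∀ s ∈ S, NMor F T ⊤ (S ⊓ CSE E F p) (cp s) := fun s hs =>
    nMor_cp inf_le_left h.le (by rw [NK_top]; exact ⟨hs, sc_le_normalizer h.sc hs⟩)
  have h2 : NMor F T ⊤ (P ⊓ CSE E F p) n := by
    obtain ⟨u, hu, v, hv, rfl⟩ := exists_op_mul_syl ((hF.syl hn).inf_normal' (BE_le E F P) (h.inv.normal_BE hn.1)) hn'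
    refine hC.mul (iso_of_AutF hn.1 hv.2.1) (iso_of_AutF hn.1 ((BE_le E F P) ((closure_le _).2 (fun _ k => k.1) hu)))
      (hC.of_cp h0 hn.1 hv.1) (hC.of_closure hn.1 (fun _ k => k.1.1) ?_ (fun b hb => ?_) u hu)
    · exact hC.mono (by rw [← map_one cp]; exact h0 1 (one_mem S)) hn.1
    · exact (hC.mono (h0 1 (one_mem S)) hn.1).congr fun c hc' =>
        (h.BE_fix_CSE hn.1 (h.centric_inf hc hr) hb.1 hb.2 hc'.1 hc'.2).trans (by simp)
  exact hC.congr (hC.mul ⟨hg.mono le_sup_right, hm⟩ (iso_of_AutF hn.1 hn'.1) h1 h2) e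

/-- The centralizer `C_F(E)` of a normal subsystem. -/
structure IsCF (D : FusionSystem U) (E : FusionSystem T) (F : FusionSystem S) (p : ℕ) : Prop where
  eq : U = CSE E F p
  ni : NI D F p
  mor : ∀ P (f : Perm Ω), Mor D P f → NMor F T ⊥ P f
  pp : ∀ P ≤ U, ∀ a ∈ AutF F P, (orderOf a).Coprime p → NMor F T ⊥ P a → Mor D P a

theorem NI.exists_isCF (h : NI E F p) : ∃ D : FusionSystem (CSE E F p), IsCF D E F p := by
  have hF := h.satF
  obtain ⟨N, hN, hNs, hNn⟩ := hF.exists_nrm h.le (sc_le_normalizer h.sc)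
  obtain ⟨C, hC, -⟩ := exists_centralizerSystem F h.le
  have hC' : IsNK N T ⊥ C := ⟨h.le, hC.eq, fun P f => (hC.mor_iff P f).trans (and_congr_right fun _ =>
    ⟨fun ⟨g, h1, h2, h3, h4⟩ => ⟨g, hN.mor h1.le (nMor_of_le h1 le_sup_right h3 (mem_top _)), h2, h3, h4⟩, fun k => k.sub hN.sub⟩)⟩
  have h1 := hC'.ni_bot hNs hNn
  obtain ⟨D, hD, hp⟩ := h1.satE.exists_ppi (CSE_le E F p) ((hyp_le_foc C p).trans (h.foc_le_CSE hC))
  have h2 : NI D N p := (hp.ni h1.satE hD ((Fus.CS_le S T).trans (sc_le_normalizer h.sc_CSE))).trans h1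
    (h1.inv.ainv_ppi hD hp fun a ha => sc_maps h.sc_CSE (ha.mor.sub hN.sub) (CSE_le E F p))
  refine ⟨D, rfl, ⟨⟨hD, hF, hF.inv_of_sconj (sub_trans h2.sub hN.sub) h.sc_CSE fun {k f P Q R} hk hQ hf hP hm hR => ?_⟩,
    fun a ha => ?_⟩, fun P f hf => hC.nMor (hf.sub hp.sub), fun P hP a ha hc hn => hp.mor P hP a ?_ hc⟩
  · exact h2.inv.sconj (hN.mor hk.le ((h.nMor_of_le_CSE hk).mono (le_inf le_rfl hQ))) hQ hf hP hm hR
  · obtain ⟨b, hb, e⟩ := h2.ext a ha
    exact ⟨b, hb.sub hN.sub, e⟩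
  · exact (mem_AutF (hP.trans (CSE_le E F p))).2 ⟨hC.mor (hP.trans (CSE_le E F p)) hn, supp_of_AutF ha⟩

end Cfsg.Agent.Fus
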